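import Cfsg.Agent.Lib.HalfFix.ALines

/-!
# Lines, and the end of the case with classes of alternating type
-/

set_option autoImplicit false

namespace Cfsg.Agent.HalfFix

open MulAction Equiv
open scoped Pointwise

universe u

variable {p : ℕ} [Fact p.Prime] {G : Type u} [Group G] [Finite G] {α : Type} [MulAction G α]
  [Finite α]

/-- A point of the class has a type with the same action on the blocks. -/
theorem Local.twin_type {K : Subgroup G} {Y : Set α} (hL : Local p K Y) {b z : α} {N F : ℕ}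
    (T : OType p K (orbit K b) N F) (hA : T.IsA) (hz : z ∈ cls p K Y b) :
    ∃ Tz : OType p K (orbit K z) N F, Tz.act = T.act := by
  obtain ⟨hzY, ⟨N', F', T', hA'⟩, hj⟩ := hz
  obtain ⟨P, hP, hzP⟩ := T'.covered (mem_orbit_self z)
  rcases T.full_or_twin hL.ne_two hA P hP hzP (hL.orbit_small hP hzY) with h | ⟨σ, hσ⟩
  · exact absurd h (hL.not_full_of_eq T hA T' hA' hj)
  letI : MulAction ↥K (Fin N) := MulAction.compHom (Fin N) T.act
  let π : orbit K z → Fin N := fun w => σ w
  have hπ : ∀ (k : ↥K) (w : orbit K z), π (k • w) = k • π w := fun k w => hσ k w w.2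
  have hsurj : Function.Surjective π := fun i => by
    obtain ⟨⟨_, k, rfl⟩, hk⟩ := T.range_trans.exists_smul_eq (σ z) i
    exact ⟨⟨(k : G) • z, smul_mem_orbit' k.2 (mem_orbit_self z)⟩,
      (hσ k z (mem_orbit_self z)).trans hk⟩
  have hfixN : ∀ (Q : Sylow p G) (hQ : (Q : Subgroup G) ≤ K),
      (pts ((Q.subtype hQ : Sylow p K) : Subgroup K) : Set (Fin N)) = T.blkFix Q := fun Q hQ => rfl
  have hF : fixCount p ↥K (Fin N) = F := by
    rw [fixCount_eq (P.subtype hP), hfixN P hP]
    exact T.fix_blk P hP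
  have hq : 0 ≤ defect p ↥K (Fin N) := by
    have hFN : (F : ℤ) ≤ (p : ℤ) - 1 := by have := T.F_lt; omega
    have hN : (N : ℤ) = F + p := by exact_mod_cast T.N_eq
    rw [defect, hF, Nat.card_fin, hN]
    have := mul_le_mul_of_nonneg_left hFN (show (0 : ℤ) ≤ p by positivity)
    linarith
  obtain ⟨e, -, he, hcard⟩ := fibre_card (G := ↥K) hπ hsurj
  obtain ⟨-, -, hpt⟩ := pointwise_of_small (p := p) hπ hsurj he hcard hq
    (by rw [defect_orbit P hP z]; exact hL.orbit_small hP hzY)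
  refine ⟨{
    act := T.act
    π := σ
    stable := fun k hk x hx => smul_mem_orbit' hk hx
    trans := fun x hx y hy => by
      obtain ⟨k, hk⟩ := exists_smul_eq K (⟨x, hx⟩ : orbit K z) ⟨y, hy⟩
      exact ⟨k, k.2, congrArg Subtype.val hk⟩
    gen := hL.gen
    map_smul := hσ
    surj := fun i => by
      obtain ⟨w, rfl⟩ := hsurj i
      exact ⟨w, w.2, rfl⟩
    N_eq := T.N_eq
    F_pos := T.F_pos
    F_lt := T.F_lt
    sylow := T.sylow
    fix_blk := T.fix_blk
    fixed := fun Q hQ x hx h => fun g hg =>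
      congrArg Subtype.val (hpt (Q.subtype hQ) ⟨x, hx⟩ (fun k hk => h k hk) ⟨g, hQ hg⟩ hg) }, rfl⟩

namespace AView

variable {t : ℕ} {X : Set α} {M : ℕ}

/-- The points in orbits with the largest number of blocks. -/
def top (p : ℕ) [Fact p.Prime] (G : Type u) [Group G] {α : Type} [MulAction G α] (X : Set α) (M : ℕ)
    (a : α) : Set α :=
  {b | b ∈ (insert a X)ᶜ ∧ IsAType p (hOf (G := G) p (insert a X)) b M}

/-- The uncovered points. -/
def unc (p : ℕ) [Fact p.Prime] (G : Type u) [Group G] {α : Type} [MulAction G α] (X : Set α)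
    (a : α) : Set α :=
  {b | b ∈ (insert a X)ᶜ ∧ ¬ Covered p (hOf (G := G) p (insert a X)) b}

variable (hV : AView p G t X M)

include hV

theorem mem_hOf_insert {h : G} (hh : h ∈ hOf (G := G) p X) (a : α) (k : G) :
    k ∈ hOf p (insert (h • a) X) ↔ h⁻¹ * k * h ∈ hOf (G := G) p (insert a X) := by
  rw [← hOf_smul_insert hh, mem_hOf_smul]

theorem smul_compl {h : G} (hh : h ∈ hOf (G := G) p X) {a b : α} (hb : b ∈ (insert a X)ᶜ) :
    h • b ∈ (insert (h • a) X)ᶜ := by
  rw [← hOf_smul_insert hh, Set.mem_compl_iff, Set.smul_mem_smul_set_iff]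
  exact hb

theorem smul_top {h : G} (hh : h ∈ hOf (G := G) p X) (a : α) :
    h • top p G X M a = top p G X M (h • a) := by
  have key : ∀ h ∈ hOf (G := G) p X, ∀ a, h • top p G X M a ⊆ top p G X M (h • a) := by
    rintro h hh a _ ⟨b, ⟨hb, hbA⟩, rfl⟩
    exact ⟨hV.smul_compl hh hb, hbA.transport (hV.mem_hOf_insert hh a) (pGen_hOf _)⟩
  refine (key h hh a).antisymm ?_
  intro b hb
  rw [Set.mem_smul_set_iff_inv_smul_mem]
  have := key h⁻¹ (inv_mem hh) (h • a) (Set.smul_mem_smul_set hb)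
  rwa [inv_smul_smul] at this

theorem smul_unc {h : G} (hh : h ∈ hOf (G := G) p X) (a : α) :
    h • unc p G X a = unc p G X (h • a) := by
  have key : ∀ h ∈ hOf (G := G) p X, ∀ a, h • unc p G X a ⊆ unc p G X (h • a) := by
    rintro h hh a _ ⟨b, ⟨hb, hbA⟩, rfl⟩
    refine ⟨hV.smul_compl hh hb, fun hc => hbA ?_⟩
    have h1 := Covered.transport (K := hOf (G := G) p (insert (h • a) X))
      (K' := hOf (G := G) p (insert a X)) (h := h⁻¹) (fun k => by
        have := hV.mem_hOf_insert (inv_mem hh) (h • a) k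
        rwa [inv_smul_smul] at this) hc
    rwa [inv_smul_smul] at h1
  refine (key h hh a).antisymm ?_
  intro b hb
  rw [Set.mem_smul_set_iff_inv_smul_mem]
  have := key h⁻¹ (inv_mem hh) (h • a) (Set.smul_mem_smul_set hb)
  rwa [inv_smul_smul] at this

theorem top_nonempty {a : α} (ha : a ∉ X) : (top p G X M a).Nonempty := by
  obtain ⟨a₀, ha₀, b₀, hb₀, hA⟩ := hV.attained
  obtain ⟨h, hh, rfl⟩ := hV.step.exists_smul_eq' ha₀ ha
  rw [← hV.smul_top hh]
  exact ⟨h • b₀, Set.smul_mem_smul_set ⟨hb₀, hA⟩⟩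

/-- An invariant function on the points outside `X` agreeing at two points is constant. -/
theorem const_of_eq {f : α → Set α} (hf : ∀ h ∈ hOf (G := G) p X, ∀ a, h • f a = f (h • a))
    {a c : α} (ha : a ∉ X) (hc : c ∉ X) (hne : c ≠ a) (he : f a = f c) {b : α} (hb : b ∉ X) :
    f b = f a := by
  have hprim := hV.step.counter.isPreprimitive_hOf hV.step.upTo hV.step.le hV.step.card ha
  have horb : (orbit (hOf (G := G) p X) a : Set α) = Xᶜ :=
    orbit_hOf (hV.step.counter.transOn_hOf hV.step.upTo (by have := hV.step.le; omega)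
      hV.step.card.le) ha
  let r : orbit (hOf (G := G) p X) a → orbit (hOf (G := G) p X) a → Prop :=
    fun u v => f (u : α) = f (v : α)
  rcases Cfsg.Agent.Perm.eq_or_all_of_invariant_equivalence r
    ⟨fun _ => rfl, fun {_ _} h => h.symm, fun {_ _ _} h h' => h.trans h'⟩
    (fun (h : hOf (G := G) p X) u v huv => by
      show f ((h : G) • (u : α)) = f ((h : G) • (v : α))
      rw [← hf _ h.2, ← hf _ h.2, huv]) with h | h
  · exact absurd (congrArg Subtype.val
      (h ⟨a, mem_orbit_self a⟩ ⟨c, by rw [horb]; exact hc⟩ he)).symm hne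
  · exact (h ⟨a, mem_orbit_self a⟩ ⟨b, by rw [horb]; exact hb⟩).symm

variable [FaithfulSMul G α]

/-- The classes with the largest number of blocks do not depend on the centre. -/
theorem cls_eq {a b c : α} (ha : a ∉ X) (hc : c ∈ (insert a X)ᶜ)
    (hcov : Covered p (hOf (G := G) p (insert a X)) c) (hb : b ∈ top p G X M a)
    (hcT : c ∉ cls p (hOf (G := G) p (insert a X)) (insert a X)ᶜ b) :
    b ∈ top p G X M c ∧ cls p (hOf (G := G) p (insert c X)) (insert c X)ᶜ b =
      cls p (hOf (G := G) p (insert a X)) (insert a X)ᶜ b := by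
  obtain ⟨h1, h2, h3⟩ := hV.cls_subset ha hc hcov hb.1 hb.2 hcT
  refine ⟨⟨h1, h2⟩, h3.antisymm ?_⟩
  have hcX : c ∉ X := fun h => hc (Set.mem_insert_of_mem a h)
  have hac : a ∈ (insert c X)ᶜ := by
    rintro (h | h)
    · exact hc (by rw [h]; exact Set.mem_insert c X)
    · exact ha h
  exact (hV.cls_subset hcX hac (hV.step.covered_comm ha hc hcov) h1 h2
    (fun h => (h3 h).1 (Set.mem_insert a X))).2.2

theorem mem_top_of_cls {a b z : α} (ha : a ∉ X) (hb : b ∈ top p G X M a)
    (hz : z ∈ cls p (hOf (G := G) p (insert a X)) (insert a X)ᶜ b) : z ∈ top p G X M a := by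
  obtain ⟨hzY, ⟨N, F', T', hA'⟩, hj⟩ := hz
  obtain ⟨F, T, hA⟩ := hb.2
  have heq := (ker_eq_iff_jOf_eq hV.ne_two T' T hA' hA).2 hj
  obtain ⟨-, -, -, hN⟩ := T.eq_of_ker_le T' hV.ne_two hA heq.le
  exact ⟨hzY, hN ▸ ⟨F', T', hA'⟩⟩

/-- The covered points are in orbits with the largest number of blocks. -/
theorem covered_mem_top {a c : α} (ha : a ∉ X) (hc : c ∈ (insert a X)ᶜ)
    (hcov : Covered p (hOf (G := G) p (insert a X)) c) : c ∈ top p G X M a := by
  by_contra hct
  have hcX : c ∉ X := fun h => hc (Set.mem_insert_of_mem a h)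
  have hsub : top p G X M a ⊆ top p G X M c := fun b hb =>
    (hV.cls_eq ha hc hcov hb fun h => hct (hV.mem_top_of_cls ha hb h)).1
  have heq : top p G X M a = top p G X M c := by
    refine Set.eq_of_subset_of_ncard_le hsub ?_
    obtain ⟨h, hh, rfl⟩ := hV.step.exists_smul_eq' ha hcX
    rw [← hV.smul_top hh, ncard_smul_set]
  obtain ⟨b, hb⟩ := hV.top_nonempty ha
  have hbX : b ∉ X := fun h => hb.1 (Set.mem_insert_of_mem a h)
  have h1 := hV.const_of_eq (fun h hh a => hV.smul_top hh a) ha hcX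
    (fun h => hc (by rw [h]; exact Set.mem_insert a X)) heq hbX
  rw [← h1] at hb
  exact hb.1 (Set.mem_insert b X)

theorem cls_sub {a b z : α} (ha : a ∉ X) (hb : b ∈ top p G X M a)
    (hz : z ∈ cls p (hOf (G := G) p (insert a X)) (insert a X)ᶜ b) (hzb : z ≠ b) :
    z ∈ cls p (hOf (G := G) p (insert b X)) (insert b X)ᶜ a := by
  have hL := hV.step.localView ha
  obtain ⟨F, T, hA⟩ := hb.2
  obtain ⟨Tz, hTz⟩ := hL.twin_type T hA hz
  have hbX : b ∉ X := fun h => hb.1 (Set.mem_insert_of_mem a h)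
  have hzX : z ∉ X := fun h => hz.1 (Set.mem_insert_of_mem a h)
  obtain ⟨P, hP, hPb, hPz⟩ : ∃ P : Sylow p G, (P : Subgroup G) ≤ hOf p (insert a X) ∧
      b ∈ pts (P : Subgroup G) ∧ z ∈ pts (P : Subgroup G) := by
    obtain ⟨k, hk⟩ : ∃ k, k ∉ ({T.π b, Tz.π z} : Finset (Fin M)) := by
      by_contra hcon
      push Not at hcon
      have h1 := Finset.card_le_card (fun m _ => hcon m : (Finset.univ : Finset (Fin M)) ⊆ _)
      have h2 := Finset.card_le_two (a := T.π b) (b := Tz.π z)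
      have := T.five_le hV.ne_two hA
      rw [Finset.card_univ, Fintype.card_fin] at h1
      omega
    simp only [Finset.mem_insert, Finset.mem_singleton, not_or] at hk
    obtain ⟨P, hP, h1, h2, -⟩ := T.exists_sylow_fix_move hV.ne_two hA hk.1 hk.2
    refine ⟨P, hP, T.fixed P hP b (mem_orbit_self b) h1, Tz.fixed P hP z (mem_orbit_self z) ?_⟩
    rw [hTz]
    exact h2
  have hzbY : z ∈ (insert b X)ᶜ := by
    rintro (h | h)
    · exact hzb h
    · exact hzX h
  have hP' : (P : Subgroup G) ≤ hOf p (insert b X) := (le_hOf_iff _ P).2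
    (Set.insert_subset hPb ((Set.subset_insert a X).trans ((le_hOf_iff _ P).1 hP)))
  have hzt := hV.covered_mem_top hbX hzbY ⟨P, hP', hPz⟩
  have hab : a ∈ (insert b X)ᶜ := by
    rintro (h | h)
    · exact hb.1 (by rw [h]; exact Set.mem_insert b X)
    · exact ha h
  have hacov : Covered p (hOf (G := G) p (insert b X)) a :=
    ⟨P, hP', (le_hOf_iff _ P).1 hP (Set.mem_insert a X)⟩
  by_cases hmem : a ∈ cls p (hOf (G := G) p (insert b X)) (insert b X)ᶜ z
  · exact ⟨hzbY, ⟨M, hzt.2⟩, hmem.2.2.symm⟩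
  exfalso
  obtain ⟨-, he⟩ := hV.cls_eq hbX hab hacov hzt hmem
  have h1 : b ∈ cls p (hOf (G := G) p (insert a X)) (insert a X)ᶜ z := ⟨hb.1, ⟨M, hb.2⟩, hz.2.2.symm⟩
  rw [he] at h1
  exact h1.1 (Set.mem_insert b X)

theorem mem_top_symm {a b : α} (ha : a ∉ X) (hb : b ∈ top p G X M a) : a ∈ top p G X M b := by
  have hbX : b ∉ X := fun h => hb.1 (Set.mem_insert_of_mem a h)
  obtain ⟨F, T, hA⟩ := hb.2
  refine hV.covered_mem_top hbX ?_ (hV.step.covered_comm ha hb.1 (T.covered (mem_orbit_self b)))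
  rintro (h | h)
  · exact hb.1 (by rw [h]; exact Set.mem_insert b X)
  · exact ha h

theorem one_class {a b c : α} (ha : a ∉ X) (hb : b ∈ top p G X M a) (hc : c ∈ top p G X M a) :
    c ∈ cls p (hOf (G := G) p (insert a X)) (insert a X)ᶜ b := by
  by_contra hcT
  obtain ⟨F, T, hA⟩ := hb.2
  obtain ⟨Fc, Tc, -⟩ := hc.2
  have hcX : c ∉ X := fun h => hc.1 (Set.mem_insert_of_mem a h)
  obtain ⟨hbc, he⟩ := hV.cls_eq ha hc.1 (Tc.covered (mem_orbit_self c)) hb hcT
  obtain ⟨z, hz, hzb⟩ : ∃ z ∈ (orbit (hOf (G := G) p (insert a X)) b : Set α), z ≠ b :=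
    Set.exists_ne_of_one_lt_ncard ((hV.step.localView ha).one_lt_orbit hb.1) b
  have hzT : z ∈ cls p (hOf (G := G) p (insert a X)) (insert a X)ᶜ b :=
    ⟨(hV.step.localView ha).orbit_subset hb.1 hz, ⟨M, isAType_of_mem hz hb.2⟩, jOf_eq_of_mem hz⟩
  have h1 := hV.cls_sub ha hb hzT hzb
  have h2 := hV.cls_sub hcX hbc (he.symm ▸ hzT) hzb
  have hab := hV.mem_top_symm ha hb
  have hca := hV.mem_top_symm hcX hbc
  have hbX : b ∉ X := fun h => hb.1 (Set.mem_insert_of_mem a h)
  have h3 : a ∈ cls p (hOf (G := G) p (insert b X)) (insert b X)ᶜ c :=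
    ⟨hab.1, ⟨M, hab.2⟩, h1.2.2.symm.trans h2.2.2⟩
  have hac : a ≠ c := fun h => hc.1 (by rw [h]; exact Set.mem_insert c X)
  have h4 := hV.cls_sub hbX hca h3 hac
  rw [he] at h4
  exact h4.1 (Set.mem_insert a X)

theorem no_unc {a : α} (ha : a ∉ X) : unc p G X a = ∅ := by
  by_contra hne
  obtain ⟨w, hw⟩ := Set.nonempty_iff_ne_empty.2 hne
  obtain ⟨b, hb⟩ := hV.top_nonempty ha
  have hbX : b ∉ X := fun h => hb.1 (Set.mem_insert_of_mem a h)
  have hwX : w ∉ X := fun h => hw.1 (Set.mem_insert_of_mem a h)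
  have hsub : unc p G X a ⊆ unc p G X b := by
    intro u hu
    have huX : u ∉ X := fun h => hu.1 (Set.mem_insert_of_mem a h)
    have hnot : u ∉ top p G X M a := fun h => by
      obtain ⟨F, T, -⟩ := h.2
      exact hu.2 (T.covered (mem_orbit_self u))
    have hub : u ∈ (insert b X)ᶜ := by
      rintro (h | h)
      · exact hnot (by rw [h]; exact hb)
      · exact huX h
    refine ⟨hub, fun hcov => ?_⟩
    have h1 := hV.covered_mem_top hbX hub hcov
    have hab := hV.mem_top_symm ha hb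
    have h2 := hV.one_class hbX hab h1
    have hua : u ≠ a := fun h => hu.1 (by rw [h]; exact Set.mem_insert a X)
    exact hnot (hV.mem_top_of_cls ha hb (hV.cls_sub hbX hab h2 hua))
  have heq : unc p G X a = unc p G X b := by
    refine Set.eq_of_subset_of_ncard_le hsub ?_
    obtain ⟨h, hh, rfl⟩ := hV.step.exists_smul_eq' ha hbX
    rw [← hV.smul_unc hh, ncard_smul_set]
  have h1 := hV.const_of_eq (fun h hh a => hV.smul_unc hh a) ha hbX
    (fun h => hb.1 (by rw [h]; exact Set.mem_insert a X)) heq hwX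
  rw [← h1] at hw
  exact hw.1 (Set.mem_insert w X)

/-- Two types of one orbit twin share their fixed points. -/
theorem all_mem_cls {a b z : α} (ha : a ∉ X) (hb : b ∈ top p G X M a) (hz : z ∈ (insert a X)ᶜ) :
    z ∈ cls p (hOf (G := G) p (insert a X)) (insert a X)ᶜ b := by
  refine hV.one_class ha hb (hV.covered_mem_top ha hz ?_)
  by_contra h
  exact Set.notMem_empty z (hV.no_unc ha ▸ (⟨hz, h⟩ : z ∈ unc p G X a))

/-- With several orbits in every view there is a contradiction. -/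
theorem absurd_of_not_trans
    (hnt : ∀ a, a ∉ X → ¬ TransOn (hOf (G := G) p (insert a X)) (insert a X)ᶜ) : False := by
  classical
  -- the blocks of all points in a view
  have hblocks : ∀ a, a ∉ X → ∃ (F : ℕ) (b : α) (T : OType p (hOf (G := G) p (insert a X))
      (orbit (hOf (G := G) p (insert a X)) b) M F) (β : α → Fin M), T.IsA ∧
      (∀ z ∈ (insert a X)ᶜ, ∀ (k : ↥(hOf (G := G) p (insert a X))),
        β ((k : G) • z) = T.act k (β z)) ∧
      (∀ z ∈ (insert a X)ᶜ, ∀ P : Sylow p G, (P : Subgroup G) ≤ hOf p (insert a X) →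
        (β z ∈ T.blkFix P ↔ z ∈ pts (P : Subgroup G))) ∧
      (∀ z ∈ (insert a X)ᶜ, ∃ z' ∈ (insert a X)ᶜ, z' ≠ z ∧ β z' = β z) := by
    intro a ha
    obtain ⟨b, hb⟩ := hV.top_nonempty ha
    obtain ⟨F, T, hA⟩ := hb.2
    set K := hOf (G := G) p (insert a X) with hK
    have hL := hV.step.localView ha
    -- choose the types orbit by orbit
    have htw : ∀ o : Set α, ∃ β : α → Fin M, ∀ z ∈ (insert a X)ᶜ, (orbit K z : Set α) = o →
        (∀ (k : ↥K), ∀ w ∈ o, β ((k : G) • w) = T.act k (β w)) ∧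
        (∀ P : Sylow p G, (P : Subgroup G) ≤ K → ∀ w ∈ o,
          (β w ∈ T.blkFix P ↔ w ∈ pts (P : Subgroup G))) ∧ (∀ i, ∃ w ∈ o, β w = i) := by
      intro o
      by_cases h : ∃ z ∈ (insert a X)ᶜ, (orbit K z : Set α) = o
      · obtain ⟨z, hz, rfl⟩ := h
        obtain ⟨Tz, hTz⟩ := hL.twin_type T hA (hV.all_mem_cls ha hb hz)
        refine ⟨Tz.π, fun _ _ _ => ⟨fun k w hw => ?_, fun P hP w hw => ⟨fun h => ?_, fun h k hk => ?_⟩,
          Tz.surj⟩⟩
        · rw [Tz.map_smul k w hw, hTz]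
        · exact Tz.fixed P hP w hw (by rw [hTz]; exact h)
        · rw [← hTz, ← Tz.map_smul k w hw, h _ hk]
      · exact ⟨fun _ => ⟨0, by have := T.five_le hV.ne_two hA; omega⟩,
          fun z hz he => absurd ⟨z, hz, he⟩ h⟩
    choose β hβ using htw
    refine ⟨F, b, T, fun z => β (orbit K z) z, hA, fun z hz k => ?_, fun z hz P hP => ?_,
      fun z hz => ?_⟩
    · show β (orbit K ((k : G) • z)) ((k : G) • z) = _
      rw [orbit_eq_of_mem (smul_mem_orbit' k.2 (mem_orbit_self z))]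
      exact (hβ _ z hz rfl).1 k z (mem_orbit_self z)
    · exact (hβ _ z hz rfl).2.1 P hP z (mem_orbit_self z)
    · obtain ⟨u, hu, hne⟩ : ∃ u ∈ (insert a X)ᶜ, u ∉ orbit K z := by
        by_contra hcon
        push Not at hcon
        refine hnt a ha fun x hx y hy => ?_
        obtain ⟨k, hk⟩ : y ∈ orbit K x := by
          rw [orbit_eq_of_mem (hcon x hx)]; exact hcon y hy
        exact ⟨k, k.2, hk⟩
      obtain ⟨w, hw, hwz⟩ := (hβ _ u hu rfl).2.2 (β (orbit K z) z)
      refine ⟨w, hL.orbit_subset hu hw, fun h => hne ?_, ?_⟩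
      · rw [← h, orbit_eq_of_mem hw]; exact mem_orbit_self u
      · show β (orbit K w) w = _
        rw [orbit_eq_of_mem hw]; exact hwz
  choose F b T β hA hequiv hfix htwin using hblocks
  -- constant counts
  have hcount : ∀ a (ha : a ∉ X), ∀ z ∈ (insert a X)ᶜ, ∀ z' ∈ (insert a X)ᶜ,
      (sylFix (G := G) p (insert z (insert a X))).ncard =
        (sylFix (G := G) p (insert z' (insert a X))).ncard := by
    intro a ha z hz z' hz'
    haveI := (T a ha).range_trans
    obtain ⟨⟨_, k, rfl⟩, hk⟩ := exists_smul_eq (T a ha).act.range (β a ha z) (β a ha z')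
    have hk' : β a ha ((k : G) • z) = β a ha z' := (hequiv a ha z hz k).trans hk
    have hkz : (k : G) • z ∈ (insert a X)ᶜ := hOf_stable k.2 hz
    have h1 : sylFix (G := G) p (insert ((k : G) • z) (insert a X)) =
        sylFix p (insert z' (insert a X)) := by
      ext P
      constructor
      · intro h
        obtain ⟨h1, h2⟩ := Set.insert_subset_iff.1 h
        have hP := (le_hOf_iff _ P).2 h2
        exact Set.insert_subset ((hfix a ha z' hz' P hP).1 (hk' ▸ (hfix a ha _ hkz P hP).2 h1)) h2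
      · intro h
        obtain ⟨h1, h2⟩ := Set.insert_subset_iff.1 h
        have hP := (le_hOf_iff _ P).2 h2
        exact Set.insert_subset ((hfix a ha _ hkz P hP).1 (hk'.symm ▸ (hfix a ha z' hz' P hP).2 h1)) h2
    rw [← h1, ← ncard_sylFix_smul (k : G) (insert z (insert a X)), Set.smul_set_insert]
    congr 3
    ext x
    exact ⟨fun ⟨y, hy, e⟩ => e ▸ (show (k : G) • y ∈ insert a X by rw [hOf_fix k.2 hy]; exact hy),
      fun hx => ⟨x, hx, hOf_fix k.2 hx⟩⟩
  have hpair : ∀ a (ha : a ∉ X) (z : α), z ∈ (insert a X)ᶜ → ∀ a' (ha' : a' ∉ X) (z' : α),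
      z' ∈ (insert a' X)ᶜ → (sylFix (G := G) p (insert z (insert a X))).ncard =
        (sylFix (G := G) p (insert z' (insert a' X))).ncard := by
    intro a ha z hz a' ha' z' hz'
    obtain ⟨h, hh, rfl⟩ := hV.step.exists_smul_eq' ha ha'
    rw [← ncard_sylFix_smul h (insert z (insert a X)), Set.smul_set_insert, hOf_smul_insert hh]
    exact hcount (h • a) ha' (h • z) (hV.smul_compl hh hz) z' hz'
  obtain ⟨a, ha, _, _, _⟩ := hV.attained
  obtain ⟨P, hP⟩ := hV.step.exists_sylow ha
  have hPK := (le_hOf_iff _ P).2 hP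
  obtain ⟨i, hi, j, hj, hij⟩ := (Set.one_lt_ncard (Set.toFinite _)).1
    (show 1 < ((T a ha).blkFix P).ncard by
      rw [OType.blkFix, (T a ha).fix_blk P hPK]
      exact AltCond.two_le (p := p) (hA a ha))
  obtain ⟨y, hy', rfl⟩ := (T a ha).surj i
  -- points with the prescribed blocks
  have hpoint : ∀ m : Fin M, ∃ z ∈ (insert a X)ᶜ, β a ha z = m := by
    intro m
    have hyY : y ∈ (insert a X)ᶜ := by
      by_contra hyY
      have hby : b a ha ∈ (insert a X)ᶜ := by
        by_contra hbY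
        have h5 := (T a ha).five_le hV.ne_two (hA a ha)
        haveI : Nontrivial (Fin M) := Fin.nontrivial_iff_two_le.2 (by omega)
        obtain ⟨m', hm'⟩ := exists_ne ((T a ha).π (b a ha))
        obtain ⟨w, ⟨⟨k, hk⟩, rfl⟩, rfl⟩ := (T a ha).surj m'
        exact hm' (congrArg (T a ha).π (hOf_fix hk (not_not.1 hbY)))
      obtain ⟨⟨k, hk⟩, hky⟩ := hy'
      exact hyY (hky ▸ hOf_stable hk hby)
    haveI := (T a ha).range_trans
    obtain ⟨⟨_, k, rfl⟩, hk⟩ := exists_smul_eq (T a ha).act.range (β a ha y) m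
    exact ⟨(k : G) • y, hOf_stable k.2 hyY, (hequiv a ha y hyY k).trans hk⟩
  obtain ⟨u, hu, hui⟩ := hpoint ((T a ha).π y)
  obtain ⟨v, hv, hvj⟩ := hpoint j
  rw [← hui] at hi hij
  rw [← hvj] at hj hij
  have huX : u ∉ X := fun h => hu (Set.mem_insert_of_mem a h)
  have hvX : v ∉ X := fun h => hv (Set.mem_insert_of_mem a h)
  have huv : u ≠ v := fun h => hij (by rw [h])
  have hvu : v ∈ (insert u X)ᶜ := by
    rintro (h | h)
    · exact huv h.symm
    · exact hvX h
  obtain ⟨w, hw, hwv, hβw⟩ := htwin u huX v hvu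
  have hwX : w ∉ X := fun h => hw (Set.mem_insert_of_mem u h)
  have hwu : w ≠ u := fun h => hw (by rw [h]; exact Set.mem_insert u X)
  set S := sylFix (G := G) p (insert v (insert u X)) with hSdef
  have hSw : ∀ Q ∈ S, w ∈ pts (Q : Subgroup G) := fun Q hQ => by
    obtain ⟨h1, h2⟩ := Set.insert_subset_iff.1 (hQ : insert v (insert u X) ⊆ _)
    have hQ' := (le_hOf_iff _ Q).2 h2
    exact (hfix u huX w hw Q hQ').1 (hβw.symm ▸ (hfix u huX v hvu Q hQ').2 h1)
  -- no Sylow subgroup can separate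
  have hsep : ∀ (x q : α), x ∈ (insert a X)ᶜ → q ∈ (insert a X)ᶜ → β a ha q ≠ β a ha x →
      ¬ ∀ Q : Sylow p G, insert x (insert a X) ⊆ pts (Q : Subgroup G) → q ∈ pts (Q : Subgroup G) := by
    intro x q hx hq hne hall
    obtain ⟨Q, hQ, h1, -, h3⟩ := (T a ha).exists_sylow_fix_move hV.ne_two (hA a ha) hne hne
    exact h3 ((hfix a ha q hq Q hQ).2 (hall Q
      (Set.insert_subset ((hfix a ha x hx Q hQ).1 h1) ((le_hOf_iff _ Q).1 hQ))))
  have hwa : w ≠ a := by
    rintro rfl
    have hsub : S ⊆ sylFix p (insert u (insert w X)) := fun Q hQ => by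
      obtain ⟨-, h2⟩ := Set.insert_subset_iff.1 (hQ : insert v (insert u X) ⊆ _)
      obtain ⟨h3, h4⟩ := Set.insert_subset_iff.1 h2
      exact Set.insert_subset h3 (Set.insert_subset (hSw Q hQ) h4)
    have heq := Set.eq_of_subset_of_ncard_le hsub (hpair w ha u hu u huX v hvu).le
    refine hsep u v hu hv (Ne.symm hij) fun Q hQ => ?_
    have : Q ∈ S := by rw [heq]; exact hQ
    exact (Set.insert_subset_iff.1 this).1
  have hwY : w ∈ (insert a X)ᶜ := by
    rintro (h | h)
    · exact hwa h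
    · exact hwX h
  -- the block of `w` is a third one
  have hex : ∀ (x q : α), x ∈ (insert a X)ᶜ → q ∈ (insert a X)ᶜ → β a ha q ≠ β a ha x →
      q ∈ (insert x X)ᶜ → w ≠ x → insert q (insert x X) = insert v (insert u X) →
      β a ha w ≠ β a ha x := by
    intro x q hx hq hne hqx hwx hset hwx'
    have hxX : x ∉ X := fun h => hx (Set.mem_insert_of_mem a h)
    have hwxY : w ∈ (insert x X)ᶜ := by
      rintro (h | h)
      · exact hwx h
      · exact hwX h
    have e1 : sylFix (G := G) p (insert q (insert x X)) ⊆ sylFix p (insert w (insert x X)) :=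
      fun Q hQ => Set.insert_subset (hSw Q (by rw [hSdef, ← hset]; exact hQ))
        (Set.insert_subset_iff.1 (hQ : insert q (insert x X) ⊆ _)).2
    have e2 : sylFix (G := G) p (insert x (insert a X)) ⊆ sylFix p (insert w (insert x X)) :=
      fun Q hQ => by
        obtain ⟨h1, h2⟩ := Set.insert_subset_iff.1 (hQ : insert x (insert a X) ⊆ _)
        have hQ' := (le_hOf_iff _ Q).2 h2
        exact Set.insert_subset ((hfix a ha w hwY Q hQ').1 (hwx'.symm ▸ (hfix a ha x hx Q hQ').2 h1))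
          (Set.insert_subset h1 ((Set.subset_insert a X).trans h2))
    have f1 := Set.eq_of_subset_of_ncard_le e1 (hpair x hxX w hwxY x hxX q hqx).le
    have f2 := Set.eq_of_subset_of_ncard_le e2 (hpair x hxX w hwxY a ha x hx).le
    refine hsep x q hx hq hne fun Q hQ => ?_
    have : Q ∈ sylFix (G := G) p (insert q (insert x X)) := by rw [f1, ← f2]; exact hQ
    exact (Set.insert_subset_iff.1 this).1
  have huvY : u ∈ (insert v X)ᶜ := by
    rintro (h | h)
    · exact huv h
    · exact huX h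
  have h1 := hex u v hu hv (Ne.symm hij) hvu hwu rfl
  have h2 := hex v u hv hu hij huvY hwv (Set.insert_comm _ _ _)
  obtain ⟨Q, hQ, hQu, hQv, hQw⟩ := (T a ha).exists_sylow_fix_move hV.ne_two (hA a ha) h1 h2
  exact hQw ((hfix a ha w hwY Q hQ).2 (hSw Q (Set.insert_subset ((hfix a ha v hv Q hQ).1 hQv)
    (Set.insert_subset ((hfix a ha u hu Q hQ).1 hQu)
      ((Set.subset_insert a X).trans ((le_hOf_iff _ Q).1 hQ))))))

end AView

end Cfsg.Agent.HalfFix
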