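import Cfsg.Agent.Lib.HalfFix.View

/-!
# Classes of alternating type in all views

If no view has a covered orbit without quotient, the classes with the largest number of blocks are
the same in all views, up to exchanging the centre.
-/

set_option autoImplicit false

namespace Cfsg.Agent.HalfFix

open MulAction Equiv
open scoped Pointwise

universe u v

variable {p : ℕ} [Fact p.Prime] {G : Type u} [Group G] [Finite G] {α : Type} [MulAction G α]
  [Finite α]

theorem OType.lt_of_not_isA {α : Type v} [MulAction G α] {K K' : Subgroup G} {O O' : Set α}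
    {N F N' F' : ℕ} (T : OType p K O N F) (hA : T.IsA) (T' : OType p K' O' N' F') (hA' : ¬ T'.IsA) :
    N' < N := by
  have h1 := T.N_eq; have h2 := T'.N_eq; have := T'.F_pos
  change AltCond p F at hA
  change ¬ AltCond p F' at hA'
  unfold AltCond at hA hA'
  omega

/-- No view has a covered orbit without quotient, and `M` is the largest number of blocks. -/
structure AView (p : ℕ) [Fact p.Prime] (G : Type u) [Group G] [Finite G] {α : Type} [MulAction G α]
    (t : ℕ) (X : Set α) (M : ℕ) : Prop where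
  step : Counter.Step p G t X
  noW : ∀ a, a ∉ X → ∀ y ∈ (insert a X)ᶜ, Covered p (hOf (G := G) p (insert a X)) y →
    IsOType p (hOf (G := G) p (insert a X)) y
  le_max : ∀ a, a ∉ X → ∀ b ∈ (insert a X)ᶜ, ∀ N,
    IsAType p (hOf (G := G) p (insert a X)) b N → N ≤ M
  attained : ∃ a, a ∉ X ∧ ∃ b ∈ (insert a X)ᶜ, IsAType p (hOf (G := G) p (insert a X)) b M

namespace AView

variable {t : ℕ} {X : Set α} {M : ℕ} (hV : AView p G t X M)

include hV

theorem ne_two : p ≠ 2 := hV.step.counter.ne_two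

/-- The class of `b` in the view from `c` lies in that from `a`. -/
theorem cls_subset [FaithfulSMul G α] {a b c : α} (ha : a ∉ X) (hc : c ∈ (insert a X)ᶜ)
    (hcov : Covered p (hOf (G := G) p (insert a X)) c) (hb : b ∈ (insert a X)ᶜ)
    (hbA : IsAType p (hOf (G := G) p (insert a X)) b M)
    (hcT : c ∉ cls p (hOf (G := G) p (insert a X)) (insert a X)ᶜ b) :
    b ∈ (insert c X)ᶜ ∧ IsAType p (hOf (G := G) p (insert c X)) b M ∧
      cls p (hOf (G := G) p (insert c X)) (insert c X)ᶜ b ⊆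
        cls p (hOf (G := G) p (insert a X)) (insert a X)ᶜ b := by
  set K := hOf (G := G) p (insert a X) with hKdef
  set Y : Set α := (insert a X)ᶜ with hYdef
  set K' := hOf (G := G) p (insert c X) with hK'def
  have hL : Local p K Y := hV.step.localView ha
  obtain ⟨hca, hcX⟩ : c ≠ a ∧ c ∉ X := by simpa [hYdef, not_or] using hc
  have hL' : Local p K' (insert c X)ᶜ := hV.step.localView hcX
  obtain ⟨F, T, hA⟩ := hbA
  have hnoW := hV.noW a ha
  have hRb := hL.rOf_moves hnoW ⟨F, T, hA⟩ (⟨hb, ⟨M, F, T, hA⟩, rfl⟩ : b ∈ cls p K Y b)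
  have hRfix : ∀ g ∈ rOf p K Y b, ∀ x, x ∉ cls p K Y b → g • x = x := fun g hg x hx =>
    hL.rOf_fix b hg hx
  have haT : a ∉ cls p K Y b := fun h => h.1 (Set.mem_insert a X)
  have hRK : rOf p K Y b ≤ K' := by
    intro g hg
    have h1 : rOf p K Y b ≤ fixingSubgroup G (insert c X) := fun g hg =>
      (mem_fixingSubgroup_iff G).2 fun x hx => hRfix g hg x (by
        rcases hx with rfl | hx
        · exact hcT
        · exact fun h => h.1 (Set.mem_insert_of_mem a hx))
    have h2 := pGen_mono (p := p) h1 (show g ∈ pGen p (rOf p K Y b) from by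
      rw [rOf, pGen_idem]; exact hg)
    exact h2
  have hbc : b ∈ (insert c X)ᶜ := by
    rintro (rfl | hbX)
    · exact hcT ⟨hb, ⟨M, F, T, hA⟩, rfl⟩
    · exact hb (Set.mem_insert_of_mem a hbX)
  let ι : ↥(rOf p K Y b) →* ↥K' := Subgroup.inclusion hRK
  have himg : ∀ {N' : ℕ} (ψ : ↥K' →* Perm (Fin N')) (r : ↥(rOf p K Y b)), ψ (ι r) ≠ 1 →
      M.factorial ≤ 2 * Nat.card (ψ.comp ι).range :=
    fun ψ r hr => hL.rOf_image hnoW T hA (ψ.comp ι) ⟨r, hr⟩
  -- `rOf` acts non-trivially on the blocks of `b` in the view from `c`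
  have hbcov : Covered p K' b := by
    by_contra hn
    obtain ⟨-, hcard⟩ := hL'.not_covered_card hbc hn
    obtain ⟨g, hg, hgb⟩ := hRb
    have h1 := hL.rOf_image hnoW T hA ((toPermHom ↥K' (orbit K' b)).comp ι) ⟨⟨g, hg⟩, fun h => hgb
      (congrArg Subtype.val (congrArg (fun σ : Perm (orbit K' b) => σ ⟨b, mem_orbit_self b⟩) h))⟩
    have h2 := Subgroup.card_le_card_group
      ((toPermHom ↥K' (orbit K' b)).comp ι).range
    rw [Nat.card_perm, Nat.card_coe_set_eq, hcard] at h2
    have := T.factorial_lt hV.ne_two hA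
    omega
  obtain ⟨N', F', ⟨T'⟩⟩ := hV.noW c hcX b hbc hbcov
  have hne : ∃ r : ↥(rOf p K Y b), T'.act (ι r) ≠ 1 := by
    by_contra hcon
    push Not at hcon
    obtain ⟨g, hg, hgb⟩ := hRb
    apply hgb
    have hle : rOf p K Y b ≤ stabilizer G b := (Subgroup.closure_le _).2 fun x hx => by
      obtain ⟨j, hj⟩ := hx.2
      exact T'.ker_pElement (k := ι ⟨x, mem_pGen hx.1 hj⟩) (hcon _) (j := j) hj (mem_orbit_self b)
    exact hle hg
  obtain ⟨r₀, hr₀⟩ := hne
  have hA' : T'.IsA := by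
    by_contra hA'
    have h1 := himg T'.act r₀ hr₀
    have h2 : Nat.card (T'.act.comp ι).range ≤ Nat.card T'.act.range :=
      Subgroup.card_le_of_le (by rintro _ ⟨r, rfl⟩; exact ⟨ι r, rfl⟩)
    have h3 := T'.two_mul_card_range_le hV.ne_two
    have h4 := (Nat.factorial_lt (by have := T'.p_lt; omega : 0 < N')).2 (T.lt_of_not_isA hA T' hA')
    omega
  have hac : a ∈ (insert c X)ᶜ := by
    rintro (h | h)
    · exact hca h.symm
    · exact ha h
  have hacov := hV.step.covered_comm ha hc hcov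
  obtain ⟨Nu, Fu, ⟨Tu⟩⟩ := hV.noW c hcX a hac hacov
  -- the class of `a` differs from that of `b`
  have hdiff : ¬ ((∃ N, IsAType p K' a N) ∧ jOf p K' a = jOf p K' b) := by
    rintro ⟨⟨N, Fu', Tu', hAu⟩, hj⟩
    have heq := (ker_eq_iff_jOf_eq hV.ne_two Tu' T' hAu hA').2 hj
    have h1 := himg Tu'.act r₀ (fun h => hr₀ (by
      have : ι r₀ ∈ Tu'.act.ker := h
      rw [heq] at this
      exact this))
    -- the image fixes the block of `a`
    have hle : (Tu'.act.comp ι).range ≤
        (stabilizer Tu'.act.range (Tu'.π a)).map Tu'.act.range.subtype := by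
      rintro _ ⟨r, rfl⟩
      refine ⟨⟨_, ι r, rfl⟩, ?_, rfl⟩
      show Tu'.act (ι r) (Tu'.π a) = Tu'.π a
      rw [← Tu'.map_smul (ι r) a (mem_orbit_self a)]
      exact congrArg Tu'.π (hRfix r r.2 a haT)
    haveI := Tu'.range_trans
    have h2 := Subgroup.index_mul_card (stabilizer Tu'.act.range (Tu'.π a))
    rw [index_stabilizer_of_transitive, Nat.card_fin] at h2
    have h3 := Subgroup.card_le_of_le hle
    rw [Subgroup.card_map_of_injective Tu'.act.range.subtype_injective] at h3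
    have h4 := Tu'.two_mul_card_range_le hV.ne_two
    have h5 : N ≤ M := hV.le_max c hcX a hac N ⟨Fu', Tu', hAu⟩
    have h6 := Nat.factorial_le h5
    have h7 := Tu'.five_le hV.ne_two hAu
    have h8 : 2 * Nat.card (stabilizer Tu'.act.range (Tu'.π a)) ≤
        Nat.card (stabilizer Tu'.act.range (Tu'.π a)) * 2 := le_of_eq (mul_comm _ _)
    have h9 : 0 < Nat.card (stabilizer Tu'.act.range (Tu'.π a)) := Nat.card_pos
    have h10 := Nat.mul_le_mul_right (Nat.card (stabilizer Tu'.act.range (Tu'.π a))) h7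
    omega
  -- full image of the stabilizer of `a` on each type of the class of `b`
  set J := pGen p (K' ⊓ stabilizer G a) with hJ
  have hJK : J ≤ K := pGen_mono fun g hg => (mem_fixingSubgroup_iff G).2 (by
    rintro x (rfl | hx)
    · exact hg.2
    · exact hOf_fix hg.1 (Set.mem_insert_of_mem c hx))
  have hnorm : ∀ {N'' F'' : ℕ} {z : α} (T'' : OType p K' (orbit K' z) N'' F''), T''.IsA →
      (J.subgroupOf K').map T''.act = alternatingGroup (Fin N'') →
      (T''.act.comp ι).range = ⊥ ∨ (T''.act.comp ι).range = alternatingGroup (Fin N'') := by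
    intro N'' F'' z T'' hA'' hfull
    haveI : IsSimpleGroup (alternatingGroup (Fin N'')) :=
      alternatingGroup.isSimpleGroup (by rw [Nat.card_fin]; exact T''.five_le hV.ne_two hA'')
    have hle : (T''.act.comp ι).range ≤ alternatingGroup (Fin N'') := by
      rintro _ ⟨r, rfl⟩; exact T''.range_le_alternating hV.ne_two ⟨ι r, rfl⟩
    haveI hn : ((T''.act.comp ι).range.subgroupOf (alternatingGroup (Fin N''))).Normal := by
      refine ⟨fun x hx y => ?_⟩
      obtain ⟨k, hk, hky⟩ : (y : Perm (Fin N'')) ∈ (J.subgroupOf K').map T''.act := by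
        rw [hfull]; exact y.2
      obtain ⟨r, hrx⟩ := hx
      refine ⟨⟨(k : G) * (r : G) * (k : G)⁻¹,
        (hL.rOf_normal b).conj_mem ⟨r, hL.rOf_le b r.2⟩ r.2 ⟨k, hJK hk⟩⟩, ?_⟩
      have hι : ι ⟨(k : G) * (r : G) * (k : G)⁻¹,
          (hL.rOf_normal b).conj_mem ⟨r, hL.rOf_le b r.2⟩ r.2 ⟨k, hJK hk⟩⟩ = k * ι r * k⁻¹ := rfl
      show T''.act (ι _) = ((y * x * y⁻¹ : alternatingGroup (Fin N'')) : Perm (Fin N''))
      rw [hι, map_mul, map_mul, map_inv, hky]
      rw [show T''.act (ι r) = (x : Perm (Fin N'')) from hrx]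
      rfl
    rcases hn.eq_bot_or_eq_top with h | h
    · left
      rw [eq_bot_iff]
      intro σ hσ
      have : (⟨σ, hle hσ⟩ : alternatingGroup (Fin N'')) ∈
          (T''.act.comp ι).range.subgroupOf (alternatingGroup (Fin N'')) := hσ
      rw [h, Subgroup.mem_bot] at this
      exact Subgroup.mem_bot.2 (congrArg Subtype.val this)
    · exact Or.inr (le_antisymm hle (Subgroup.subgroupOf_eq_top.1 h))
  have hfull' := hL'.full_of_ne (b := b) hac hacov T' hA' hdiff
  have hN' : N' = M := by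
    rcases hnorm T' hA' hfull' with h | h
    · exact absurd (Subgroup.mem_bot.1 (h ▸ ⟨r₀, rfl⟩ : T'.act (ι r₀) ∈ (⊥ : Subgroup _))) hr₀
    · have h1 := himg T'.act r₀ hr₀
      rw [h, ← T'.range_eq_alt hV.ne_two hA', T'.two_mul_card_range hV.ne_two hA'] at h1
      refine le_antisymm (hV.le_max c hcX b hbc N' ⟨F', T', hA'⟩) ?_
      by_contra hlt
      have := (Nat.factorial_lt (by have := T'.p_lt; omega : 0 < N')).2 (not_le.1 hlt)
      omega
  refine ⟨hbc, hN' ▸ ⟨F', T', hA'⟩, ?_⟩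
  rintro z ⟨hz, ⟨Nz, Fz, Tz, hAz⟩, hj⟩
  have heq := (ker_eq_iff_jOf_eq hV.ne_two Tz T' hAz hA').2 hj
  have hdz : ¬ ((∃ N, IsAType p K' a N) ∧ jOf p K' a = jOf p K' z) := fun h =>
    hdiff ⟨h.1, h.2.trans hj⟩
  have hr₀z : Tz.act (ι r₀) ≠ 1 := fun h => hr₀ (by
    have : ι r₀ ∈ Tz.act.ker := h
    rw [heq] at this
    exact this)
  rcases hnorm Tz hAz (hL'.full_of_ne hac hacov Tz hAz hdz) with h | h
  · exact absurd (Subgroup.mem_bot.1 (h ▸ ⟨r₀, rfl⟩ : Tz.act (ι r₀) ∈ (⊥ : Subgroup _))) hr₀z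
  · by_contra hzT
    have hfix : ∀ σ ∈ (Tz.act.comp ι).range, σ (Tz.π z) = Tz.π z := by
      rintro _ ⟨r, rfl⟩
      show Tz.act (ι r) (Tz.π z) = _
      rw [← Tz.map_smul (ι r) z (mem_orbit_self z)]
      exact congrArg Tz.π (hRfix r r.2 z hzT)
    haveI := Tz.range_trans
    have h5 := Tz.five_le hV.ne_two hAz
    haveI : Nontrivial (Fin Nz) := Fin.nontrivial_iff_two_le.2 (by omega)
    obtain ⟨i, hi⟩ := exists_ne (Tz.π z)
    obtain ⟨⟨σ, hσ⟩, hσi⟩ := exists_smul_eq Tz.act.range (Tz.π z) i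
    rw [Tz.range_eq_alt hV.ne_two hAz, ← h] at hσ
    exact hi (hσi.symm.trans (hfix σ hσ))

end AView

end Cfsg.Agent.HalfFix
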