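import Cfsg.Agent.EqLemmas
import Mathlib.GroupTheory.Sylow
import Mathlib.GroupTheory.GroupAction.Blocks
import Mathlib.GroupTheory.GroupAction.Primitive

/-!
# Subgroups generated by `p`-elements, fixed points of Sylow subgroups and the defect

For a finite group `G` acting on a finite set `α` and a prime `p`, the defect is
`(p - 1) |α| - (2 p - 1) f`, where `f` is the number of points fixed by a Sylow `p`-subgroup.
-/

set_option autoImplicit false

namespace Cfsg.Agent.HalfFix

open MulAction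
open scoped Pointwise

universe u v w

variable (p : ℕ) {G : Type u} [Group G]

/-- The subgroup generated by the `p`-elements of `H`. -/
def pGen (H : Subgroup G) : Subgroup G :=
  Subgroup.closure {g | g ∈ H ∧ ∃ k : ℕ, g ^ p ^ k = 1}

/-- `G` is generated by its `p`-elements. -/
def IsGen (G : Type u) [Group G] : Prop := pGen p (⊤ : Subgroup G) = ⊤

variable {p}

theorem pGen_le (H : Subgroup G) : pGen p H ≤ H :=
  (Subgroup.closure_le _).2 fun _ hg => hg.1

theorem mem_pGen {H : Subgroup G} {g : G} (hg : g ∈ H) {k : ℕ} (hk : g ^ p ^ k = 1) :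
    g ∈ pGen p H :=
  Subgroup.subset_closure ⟨hg, k, hk⟩

theorem pGen_mono {H K : Subgroup G} (h : H ≤ K) : pGen p H ≤ pGen p K :=
  Subgroup.closure_mono fun _ hg => ⟨h hg.1, hg.2⟩

theorem pGen_idem (H : Subgroup G) : pGen p (pGen p H) = pGen p H :=
  le_antisymm (pGen_le _) ((Subgroup.closure_le _).2 fun _ hg =>
    mem_pGen (mem_pGen hg.1 hg.2.choose_spec) hg.2.choose_spec)

theorem le_pGen_of_isPGroup {H S : Subgroup G} (hS : IsPGroup p S) (hSH : S ≤ H) :
    S ≤ pGen p H := fun g hg => by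
  obtain ⟨k, hk⟩ := hS ⟨g, hg⟩
  exact mem_pGen (hSH hg) (congrArg Subtype.val hk)

/-- `p`-elements map to `p`-elements. -/
theorem pGen_map_le {G' : Type w} [Group G'] (φ : G →* G') (H : Subgroup G) :
    (pGen p H).map φ ≤ pGen p (H.map φ) := by
  rw [pGen, MonoidHom.map_closure, Subgroup.closure_le]
  rintro _ ⟨g, ⟨hg, k, hk⟩, rfl⟩
  exact mem_pGen ⟨g, hg, rfl⟩ (by rw [← map_pow, hk, map_one] : φ g ^ p ^ k = 1)

/-- A `p`-element of an image is the image of a `p`-element. -/
theorem exists_pElement_lift [Finite G] [hp : Fact p.Prime] {G' : Type w} [Group G'] (φ : G →* G')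
    {x : G} {k : ℕ} (hk : φ x ^ p ^ k = 1) :
    ∃ s : ℕ, (∃ j : ℕ, (x ^ s) ^ p ^ j = 1) ∧ φ (x ^ s) = φ x := by
  obtain ⟨j, m, hm, hord⟩ :=
    Nat.exists_eq_pow_mul_and_not_dvd (n := orderOf x) (orderOf_pos x).ne' p hp.out.ne_one
  have hcop : m.Coprime (p ^ k) :=
    Nat.Coprime.pow_right k ((hp.out.coprime_iff_not_dvd.2 hm).symm)
  obtain ⟨c, hc⟩ := Nat.chineseRemainder hcop 0 1
  refine ⟨c, ⟨j, ?_⟩, ?_⟩
  · rw [← pow_mul]
    apply orderOf_dvd_iff_pow_eq_one.1
    rw [hord]
    exact (mul_comm c (p ^ j)).symm ▸ Nat.mul_dvd_mul_left _ (Nat.modEq_zero_iff_dvd.1 hc.1)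
  · rw [map_pow]
    conv_rhs => rw [← pow_one (φ x)]
    exact pow_eq_pow_iff_modEq.2 (hc.2.of_dvd (orderOf_dvd_of_pow_eq_one hk))

theorem map_pGen [Finite G] [Fact p.Prime] {G' : Type w} [Group G'] (φ : G →* G')
    (H : Subgroup G) : (pGen p H).map φ = pGen p (H.map φ) := by
  refine le_antisymm (pGen_map_le φ H) ((Subgroup.closure_le _).2 ?_)
  rintro _ ⟨⟨x, hx, rfl⟩, k, hk⟩
  obtain ⟨s, ⟨j, hj⟩, hs⟩ := exists_pElement_lift φ hk
  exact ⟨x ^ s, mem_pGen (H.pow_mem hx s) hj, hs⟩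

/-- A subgroup normalizing `H` normalizes `pGen p H`. -/
theorem conj_mem_pGen {H : Subgroup G} {g x : G}
    (hg : ∀ y ∈ H, g * y * g⁻¹ ∈ H) (hx : x ∈ pGen p H) : g * x * g⁻¹ ∈ pGen p H := by
  have h : (pGen p H).map (MulAut.conj g).toMonoidHom ≤ pGen p H := by
    refine (pGen_map_le _ H).trans (pGen_mono ?_)
    rintro _ ⟨y, hy, rfl⟩
    exact hg y hy
  exact h ⟨x, hx, rfl⟩

theorem pGen_normal (H : Subgroup G) [hH : H.Normal] : (pGen p H).Normal :=
  ⟨fun _ hx g => conj_mem_pGen (fun y hy => hH.conj_mem y hy g) hx⟩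

theorem isGen_pGen (H : Subgroup G) : IsGen p ↥(pGen p H) := by
  rw [IsGen, eq_top_iff]
  rintro ⟨g, hg⟩ -
  refine Subgroup.closure_induction (p := fun g hg => (⟨g, hg⟩ : pGen p H) ∈ pGen p ⊤)
    (fun x hx => ?_) (one_mem _) (fun _ _ _ _ ha hb => mul_mem ha hb) (fun _ _ ha => inv_mem ha) hg
  obtain ⟨k, hk⟩ := hx.2
  exact mem_pGen (Subgroup.mem_top _) (Subtype.ext (by simpa using hk))

theorem pGen_eq_of_isGen (H : Subgroup G) (h : IsGen p ↥H) : pGen p H = H := by
  refine le_antisymm (pGen_le H) ?_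
  have h1 := pGen_map_le (p := p) H.subtype ⊤
  rw [h, ← MonoidHom.range_eq_map, Subgroup.range_subtype] at h1
  exact h1

theorem IsGen.of_surjective (h : IsGen p G) {G' : Type w} [Group G'] (φ : G →* G')
    (hφ : Function.Surjective φ) : IsGen p G' := by
  have h1 := pGen_map_le (p := p) φ ⊤
  rw [h, Subgroup.map_top_of_surjective φ hφ] at h1
  exact top_unique h1

/-- A group generated by `p`-elements has no non-trivial `p'`-quotient. -/
theorem IsGen.eq_one_of_not_dvd [Fact p.Prime] (h : IsGen p G) {Q : Type w} [Group Q] [Finite Q]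
    (hQ : ¬ p ∣ Nat.card Q) (φ : G →* Q) (g : G) : φ g = 1 := by
  suffices (⊤ : Subgroup G) ≤ φ.ker from this (Subgroup.mem_top g)
  refine h.ge.trans ((Subgroup.closure_le _).2 ?_)
  rintro x ⟨-, k, hk⟩
  have h1 : orderOf (φ x) ∣ p ^ k := orderOf_dvd_of_pow_eq_one (by rw [← map_pow, hk, map_one])
  obtain ⟨i, -, hi⟩ := (Nat.dvd_prime_pow (Fact.out : p.Prime)).1 h1
  rcases Nat.eq_zero_or_pos i with rfl | hi0
  · exact orderOf_eq_one_iff.1 (by rwa [pow_zero] at hi)
  · exact absurd (((dvd_pow_self p hi0.ne').trans hi.symm.dvd).trans (orderOf_dvd_natCard _)) hQ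

/-! ### Fixed points -/

variable {α : Type v} [MulAction G α]

/-- The points fixed by a subgroup. -/
def pts (S : Subgroup G) : Set α := {x | ∀ g ∈ S, g • x = x}

theorem mem_pts {S : Subgroup G} {x : α} : x ∈ pts S ↔ S ≤ stabilizer G x := Iff.rfl

theorem pts_anti {S T : Subgroup G} (h : S ≤ T) : (pts T : Set α) ⊆ pts S :=
  fun _ hx g hg => hx g (h hg)

/-- Transitive subgroups, as a pointwise statement. -/
def TransOn (K : Subgroup G) (s : Set α) : Prop := ∀ x ∈ s, ∀ y ∈ s, ∃ k ∈ K, k • x = y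

variable (p) in
/-- The defect of the set `s` for the subgroup `S`. -/
noncomputable def dset (S : Subgroup G) (s : Set α) : ℤ :=
  ((p : ℤ) - 1) * s.ncard - (2 * (p : ℤ) - 1) * (s ∩ pts S).ncard

theorem dset_union [Finite α] (S : Subgroup G) {s t : Set α} (h : Disjoint s t) :
    dset p S (s ∪ t) = dset p S s + dset p S t := by
  rw [dset, dset, dset, Set.ncard_union_eq h, Set.union_inter_distrib_right,
    Set.ncard_union_eq (h.mono Set.inter_subset_left Set.inter_subset_left)]
  push_cast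
  ring

theorem dset_singleton_of_mem {S : Subgroup G} {a : α} (ha : a ∈ pts S) :
    dset p S ({a} : Set α) = -(p : ℤ) := by
  rw [dset, Set.inter_eq_left.2 (Set.singleton_subset_iff.2 ha), Set.ncard_singleton]
  push_cast
  ring

theorem dset_finset_biUnion [Finite α] (S : Subgroup G) {ι : Type w} (t : Finset ι)
    (s : ι → Set α) (h : (t : Set ι).PairwiseDisjoint s) :
    dset p S (⋃ i ∈ t, s i) = ∑ i ∈ t, dset p S (s i) := by
  classical
  induction t using Finset.induction_on with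
  | empty => simp [dset]
  | insert a t hat ih =>
    rw [Finset.set_biUnion_insert, Finset.sum_insert hat, dset_union, ih]
    · exact h.subset (by simp)
    · refine Set.disjoint_iUnion₂_right.2 fun i hi => h (by simp) (by simp [hi]) ?_
      rintro rfl; exact hat hi

/-- `K`-orbits partition an invariant set; the defect is the sum over the orbits. -/
theorem dset_eq_sum_orbits [Finite α] (S : Subgroup G) (K : Subgroup G) {s : Set α}
    (hs : ∀ k ∈ K, ∀ x ∈ s, k • x ∈ s) :
    ∃ t : Finset (Set α), (∀ o ∈ t, ∃ x ∈ s, o = orbit K x) ∧ (∀ x ∈ s, orbit K x ∈ t) ∧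
      dset p S s = ∑ o ∈ t, dset p S o := by
  classical
  have hf : ((fun x => orbit K x) '' s).Finite := Set.toFinite _
  refine ⟨hf.toFinset, fun o ho => ?_, fun x hx => hf.mem_toFinset.2 ⟨x, hx, rfl⟩, ?_⟩
  · obtain ⟨x, hx, rfl⟩ := hf.mem_toFinset.1 ho
    exact ⟨x, hx, rfl⟩
  rw [← dset_finset_biUnion S hf.toFinset (fun o => o)]
  · congr 1
    ext y
    simp only [Set.mem_iUnion, Set.Finite.mem_toFinset, Set.mem_image, exists_prop]
    constructor
    · exact fun hy => ⟨_, ⟨y, hy, rfl⟩, mem_orbit_self y⟩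
    · rintro ⟨_, ⟨x, hx, rfl⟩, ⟨k, rfl⟩⟩
      exact hs k k.2 x hx
  · intro o ho o' ho' hne
    obtain ⟨x, -, rfl⟩ := hf.mem_toFinset.1 ho
    obtain ⟨x', -, rfl⟩ := hf.mem_toFinset.1 ho'
    refine Set.disjoint_left.2 fun z hz hz' => hne ?_
    exact (orbit_eq_iff.2 hz).symm.trans (orbit_eq_iff.2 hz')

theorem ncard_smul_set (g : G) (s : Set α) : (g • s).ncard = s.ncard :=
  Set.ncard_image_of_injective s (MulAction.injective g)

variable [Finite G] [Fact p.Prime]

theorem exists_conj_of_le {K : Subgroup G} (P Q : Sylow p G) (hP : (P : Subgroup G) ≤ K)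
    (hQ : (Q : Subgroup G) ≤ K) : ∃ k ∈ K, k • P = Q := by
  obtain ⟨k, hk⟩ := MulAction.exists_smul_eq K (P.subtype hP) (Q.subtype hQ)
  rw [Sylow.smul_subtype] at hk
  exact ⟨k, k.2, Sylow.subtype_injective hk⟩

theorem sylow_smul_coe (g : G) (P : Sylow p G) :
    ((g • P : Sylow p G) : Subgroup G) = MulAut.conj g • (P : Subgroup G) := rfl

theorem pts_smul_sylow (g : G) (P : Sylow p G) :
    (pts ((g • P : Sylow p G) : Subgroup G) : Set α) = g • pts (P : Subgroup G) := by
  ext x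
  rw [Set.mem_smul_set_iff_inv_smul_mem, sylow_smul_coe]
  constructor
  · intro h y hy
    have := h (g * y * g⁻¹) (Subgroup.smul_mem_pointwise_smul y (MulAut.conj g) _ hy)
    rwa [mul_smul, mul_smul, ← eq_inv_smul_iff] at this
  · intro h y hy
    obtain ⟨z, hz, rfl⟩ := hy
    have : z • g⁻¹ • x = g⁻¹ • x := h z hz
    simp only [MulDistribMulAction.toMonoidEnd_apply, MulDistribMulAction.toMonoidHom_apply,
      MulAut.smul_def, MulAut.conj_apply]
    rw [mul_smul, mul_smul, this, smul_inv_smul]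

theorem dset_smul (g : G) (P : Sylow p G) (s : Set α) :
    dset p ((g • P : Sylow p G) : Subgroup G) (g • s) = dset p (P : Subgroup G) s := by
  rw [dset, dset, pts_smul_sylow, ← Set.smul_set_inter, ncard_smul_set, ncard_smul_set]

variable (p G α) in
/-- The number of fixed points of a Sylow `p`-subgroup. -/
noncomputable def fixCount : ℕ :=
  (pts ((default : Sylow p G) : Subgroup G) : Set α).ncard

theorem fixCount_eq (P : Sylow p G) : fixCount p G α = (pts (P : Subgroup G) : Set α).ncard := by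
  obtain ⟨g, hg⟩ := MulAction.exists_smul_eq G P (default : Sylow p G)
  rw [fixCount, ← hg, pts_smul_sylow, ncard_smul_set]

variable (p G α) in
/-- The defect of an action. -/
noncomputable def defect : ℤ :=
  ((p : ℤ) - 1) * Nat.card α - (2 * (p : ℤ) - 1) * fixCount p G α

theorem defect_eq_dset (P : Sylow p G) :
    defect p G α = dset p (P : Subgroup G) (Set.univ : Set α) := by
  rw [defect, dset, Set.univ_inter, Set.ncard_univ, fixCount_eq P]

/-- The defect of `K` on an orbit. -/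
theorem defect_orbit {K : Subgroup G} (P : Sylow p G) (hP : (P : Subgroup G) ≤ K) (b : α) :
    defect p ↥K ↥(orbit K b) = dset p (P : Subgroup G) (orbit K b) := by
  rw [defect_eq_dset (P.subtype hP), dset, dset, Set.univ_inter, Set.ncard_univ,
    Nat.card_coe_set_eq]
  congr 3
  rw [← Set.ncard_image_of_injective _ Subtype.val_injective]
  congr 1
  ext x
  constructor
  · rintro ⟨y, hy, rfl⟩
    exact ⟨y.2, fun g hg => congrArg Subtype.val (hy ⟨g, hP hg⟩ hg)⟩
  · rintro ⟨hx, hx'⟩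
    exact ⟨⟨x, hx⟩, fun g hg => Subtype.ext (hx' g hg), rfl⟩

theorem dvd_defect [Finite α] : (p : ℤ) ∣ defect p G α := by
  set P : Sylow p G := default
  have h := P.isPGroup'.card_modEq_card_fixedPoints (α := α)
  have hfix : Nat.card (fixedPoints (P : Subgroup G) α) = fixCount p G α := by
    rw [fixCount_eq P, ← Nat.card_coe_set_eq]
    exact Nat.card_congr (Equiv.subtypeEquivRight fun x =>
      ⟨fun hx g hg => hx ⟨g, hg⟩, fun hx g => hx g g.2⟩)
  rw [hfix] at h
  obtain ⟨c, hc⟩ := Nat.modEq_iff_dvd.1 h.symm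
  refine ⟨((p : ℤ) - 1) * c - fixCount p G α, ?_⟩
  rw [defect, eq_add_of_sub_eq hc]
  ring

/-- Two fixed points of `P` in one orbit differ by an element normalizing `P`. -/
theorem exists_normalizer_smul {K : Subgroup G} (P : Sylow p G) (hP : (P : Subgroup G) ≤ K)
    {x : α} {g : G} (hg : g ∈ K) (hx : x ∈ pts (P : Subgroup G))
    (hgx : g • x ∈ pts (P : Subgroup G)) : ∃ n ∈ K, n • P = P ∧ n • x = g • x := by
  have h1 : (P : Subgroup G) ≤ stabilizer G (g • x) ⊓ K := le_inf hgx hP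
  have h2 : ((g • P : Sylow p G) : Subgroup G) ≤ stabilizer G (g • x) ⊓ K := by
    rw [sylow_smul_coe]
    rintro _ ⟨z, hz, rfl⟩
    refine ⟨?_, K.mul_mem (K.mul_mem hg (hP hz)) (K.inv_mem hg)⟩
    change (g * z * g⁻¹) • g • x = g • x
    rw [← mul_smul, inv_mul_cancel_right, mul_smul]
    exact congrArg (g • ·) (hx z hz)
  obtain ⟨k, hk, hkP⟩ := exists_conj_of_le _ _ h2 h1
  exact ⟨k * g, K.mul_mem hk.2 hg, by rw [mul_smul, hkP], by rw [mul_smul]; exact hk.1⟩

/-- The fixed points of a Sylow subgroup in a transitive action: their number is prime to `p`. -/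
theorem not_dvd_fixCount [Finite α] [IsPretransitive G α] (h : 0 < fixCount p G α) :
    ¬ p ∣ fixCount p G α := by
  set P : Sylow p G := default
  rw [fixCount_eq P] at h ⊢
  obtain ⟨x, hx⟩ := Set.nonempty_of_ncard_ne_zero h.ne'
  set N : Subgroup G := stabilizer G P
  have horb : orbit N x = pts (P : Subgroup G) := by
    ext y
    constructor
    · rintro ⟨n, rfl⟩
      have h1 : ((n : G) • P : Sylow p G) = P := n.2
      rw [← h1, pts_smul_sylow]
      exact Set.smul_mem_smul_set hx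
    · intro hy
      obtain ⟨g, rfl⟩ := exists_smul_eq G x y
      obtain ⟨n, -, hn, hnx⟩ :=
        exists_normalizer_smul P le_top (Subgroup.mem_top g) hx hy
      exact ⟨⟨n, hn⟩, hnx⟩
  rw [← horb, ← Nat.card_coe_set_eq, Nat.card_coe_set_eq, ← index_stabilizer]
  have hPN : (P : Subgroup G) ≤ N := fun g hg => Sylow.smul_eq_iff_mem_normalizer.2
    (Subgroup.le_normalizer hg)
  intro hd
  have hle : (P : Subgroup G).subgroupOf N ≤ stabilizer N x := fun g hg => hx _ hg
  refine (P.subtype hPN).not_dvd_index ?_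
  exact hd.trans (Subgroup.index_dvd_of_le (by simpa using hle))

/-- `P` has a Sylow conjugate inside any subgroup of `p'`-index containing a Sylow subgroup. -/
theorem exists_sylow_mem {K : Subgroup G} (P : Sylow p G) (hP : (P : Subgroup G) ≤ K) {g : G}
    (hg : g ∈ K) {k : ℕ} (hk : g ^ p ^ k = 1) :
    ∃ Q : Sylow p G, (Q : Subgroup G) ≤ K ∧ g ∈ (Q : Subgroup G) := by
  have hz : IsPGroup p (Subgroup.zpowers (⟨g, hg⟩ : K)) := by
    rintro ⟨x, hx⟩
    obtain ⟨i, rfl⟩ := Subgroup.mem_zpowers_iff.1 hx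
    refine ⟨k, Subtype.ext ?_⟩
    simp only [SubmonoidClass.coe_pow, OneMemClass.coe_one]
    rw [← zpow_natCast, ← zpow_mul, mul_comm, zpow_mul, zpow_natCast,
      Subtype.ext hk (a1 := (⟨g, hg⟩ : K) ^ p ^ k) (a2 := 1), one_zpow]
  obtain ⟨R, hR⟩ := hz.exists_le_sylow
  obtain ⟨c, hc⟩ := MulAction.exists_smul_eq K (P.subtype hP) R
  rw [Sylow.smul_subtype] at hc
  refine ⟨(c : G) • P, Sylow.smul_le hP c, ?_⟩
  have h1 := hR (Subgroup.mem_zpowers (⟨g, hg⟩ : K))
  rw [← hc] at h1
  exact h1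

end Cfsg.Agent.HalfFix
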