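import Cfsg.Agent.Lib.HalfFix.Basic
import Mathlib.Tactic.Linarith

/-!
# Block systems and the defect

For an equivariant surjection onto a quotient action with `N` points, `F` of them fixed by a
Sylow `p`-subgroup, the defect is `e D_q + (2 p - 1) (e F - f)`.
-/

set_option autoImplicit false

namespace Cfsg.Agent.HalfFix

open MulAction
open scoped Pointwise

universe u v w

variable {p : ℕ} [Fact p.Prime] {G : Type u} [Group G] [Finite G]
  {α : Type v} [MulAction G α] [Finite α]

/-- In a group generated by `p`-elements a point fixed by every Sylow subgroup is fixed. -/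
theorem smul_eq_of_forall_sylow (hgen : IsGen p G) {x : α}
    (h : ∀ P : Sylow p G, x ∈ pts (P : Subgroup G)) (g : G) : g • x = x := by
  suffices (⊤ : Subgroup G) ≤ stabilizer G x from this (Subgroup.mem_top g)
  refine hgen.ge.trans ((Subgroup.closure_le _).2 ?_)
  rintro y ⟨-, k, hk⟩
  obtain ⟨Q, -, hQ⟩ := exists_sylow_mem (default : Sylow p G) le_top (Subgroup.mem_top y) hk
  exact h Q y hQ

/-- A non-trivial transitive group generated by `p`-elements has a point moved by each Sylow. -/
theorem fixCount_lt [IsPretransitive G α] (hgen : IsGen p G) (h : 1 < Nat.card α) :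
    fixCount p G α < Nat.card α := by
  by_contra hle
  have hall : ∀ (P : Sylow p G) (x : α), x ∈ pts (P : Subgroup G) := fun P x => by
    have h1 : (pts (P : Subgroup G) : Set α) = Set.univ := by
      refine Set.eq_of_subset_of_ncard_le (Set.subset_univ _) ?_
      rw [Set.ncard_univ, ← fixCount_eq P]
      exact not_lt.1 hle
    rw [h1]; trivial
  haveI : Nontrivial α := Finite.one_lt_card_iff_nontrivial.1 h
  obtain ⟨x, y, hxy⟩ := exists_pair_ne α
  obtain ⟨g, rfl⟩ := exists_smul_eq G x y
  exact hxy (smul_eq_of_forall_sylow hgen (fun P => hall P x) g).symm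

theorem fixCount_le : fixCount p G α ≤ Nat.card α := by
  rw [fixCount, ← Set.ncard_univ]
  exact Set.ncard_le_ncard (Set.subset_univ _)

theorem fix_modEq : Nat.card α ≡ fixCount p G α [MOD p] := by
  set P : Sylow p G := default
  have h := P.isPGroup'.card_modEq_card_fixedPoints (α := α)
  rwa [show Nat.card (fixedPoints (P : Subgroup G) α) = fixCount p G α from by
    rw [fixCount_eq P, ← Nat.card_coe_set_eq]
    exact Nat.card_congr (Equiv.subtypeEquivRight fun x =>
      ⟨fun hx g hg => hx ⟨g, hg⟩, fun hx g => hx g g.2⟩)] at h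

/-- `N = F + k p` with `k ≥ 1`. -/
theorem exists_card_eq [IsPretransitive G α] (hgen : IsGen p G) (h : 1 < Nat.card α) :
    ∃ k : ℕ, 1 ≤ k ∧ Nat.card α = fixCount p G α + k * p := by
  have hlt := fixCount_lt hgen h
  obtain ⟨k, hk⟩ := (Nat.modEq_iff_dvd' hlt.le).1 fix_modEq.symm
  refine ⟨k, ?_, ?_⟩
  · rcases Nat.eq_zero_or_pos k with rfl | hk0
    · omega
    · exact hk0
  · rw [mul_comm]; omega

/-- A transitive action with at most `p - 1` fixed points has non-negative defect. -/
theorem defect_nonneg_of_fix_lt [IsPretransitive G α] (hgen : IsGen p G) (h : 1 < Nat.card α)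
    (hF : fixCount p G α < p) : 0 ≤ defect p G α := by
  obtain ⟨k, hk, hN⟩ := exists_card_eq hgen h
  have hp : 2 ≤ p := (Fact.out : p.Prime).two_le
  obtain ⟨q, rfl⟩ : ∃ q, p = q + 2 := ⟨p - 2, by omega⟩
  rw [defect, hN]
  push_cast
  have h1 : (fixCount (q + 2) G α : ℤ) ≤ (q : ℤ) + 1 := by omega
  have h2 : (1 : ℤ) ≤ k := by exact_mod_cast hk
  have h3 := mul_le_mul_of_nonneg_right h2
    (show (0 : ℤ) ≤ ((q : ℤ) + 1) * ((q : ℤ) + 2) by positivity)
  have h4 := mul_le_mul_of_nonneg_left h1 (show (0 : ℤ) ≤ (q : ℤ) + 2 by positivity)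
  nlinarith

variable {β : Type w} [MulAction G β] [Finite β] {π : α → β}

theorem fibre_card [IsPretransitive G α] (hπ : ∀ (g : G) (x : α), π (g • x) = g • π x)
    (hsurj : Function.Surjective π) :
    ∃ e : ℕ, (Nonempty α → 1 ≤ e) ∧ (∀ i, (π ⁻¹' {i}).ncard = e) ∧
      Nat.card α = e * Nat.card β := by
  rcases isEmpty_or_nonempty α with hα | hα
  · refine ⟨0, fun h => isEmptyElim h.some, fun i => ?_, by simp⟩
    obtain ⟨x, -⟩ := hsurj i
    exact isEmptyElim x
  obtain ⟨a⟩ := hα
  have hfib : ∀ i, (π ⁻¹' {i}).ncard = (π ⁻¹' {π a}).ncard := by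
    intro i
    obtain ⟨y, rfl⟩ := hsurj i
    obtain ⟨g, rfl⟩ := exists_smul_eq G a y
    rw [← ncard_smul_set g (π ⁻¹' {π a})]
    congr 1
    ext z
    rw [Set.mem_smul_set_iff_inv_smul_mem]
    simp only [Set.mem_preimage, Set.mem_singleton_iff, hπ]
    rw [inv_smul_eq_iff]
  refine ⟨(π ⁻¹' {π a}).ncard, fun _ => ?_, hfib, ?_⟩
  · exact (Set.ncard_pos).2 ⟨a, rfl⟩
  · classical
    haveI := Fintype.ofFinite α
    haveI := Fintype.ofFinite β
    rw [Nat.card_eq_fintype_card, Nat.card_eq_fintype_card, ← Finset.card_univ (α := α),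
      Finset.card_eq_sum_card_fiberwise (f := π) (t := Finset.univ) (fun _ _ => Finset.mem_univ _)]
    rw [Finset.sum_congr rfl (fun i _ => show _ = (π ⁻¹' {π a}).ncard from ?_), Finset.sum_const,
      smul_eq_mul, mul_comm, Finset.card_univ]
    rw [← hfib i, ← Set.ncard_coe_finset]
    congr 1
    ext z; simp

omit [Fact p.Prime] [Finite G] [Finite β] [Finite α] in
theorem map_mem_pts (hπ : ∀ (g : G) (x : α), π (g • x) = g • π x) {S : Subgroup G} {x : α}
    (hx : x ∈ pts S) : π x ∈ pts S := fun g hg => by rw [← hπ, hx g hg]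

/-- The fixed points lie over the fixed blocks. -/
theorem preimage_pts_ncard [IsPretransitive G α] (hπ : ∀ (g : G) (x : α), π (g • x) = g • π x)
    (hsurj : Function.Surjective π) (P : Sylow p G) {e : ℕ}
    (he : ∀ i, (π ⁻¹' {i}).ncard = e) :
    (π ⁻¹' pts (P : Subgroup G)).ncard = e * fixCount p G β := by
  classical
  haveI := Fintype.ofFinite α
  haveI := Fintype.ofFinite β
  rw [fixCount_eq P, Set.ncard_eq_toFinset_card', Set.ncard_eq_toFinset_card',
    Finset.card_eq_sum_card_fiberwise (f := π) (t := (pts (P : Subgroup G) : Set β).toFinset)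
      (fun x hx => by simpa using hx)]
  rw [Finset.sum_congr rfl (fun i hi => show _ = e from ?_), Finset.sum_const, smul_eq_mul,
    mul_comm]
  rw [← he i, ← Set.ncard_coe_finset]
  congr 1
  ext z
  simp only [Set.mem_toFinset] at hi
  simp only [Finset.coe_filter, Set.mem_toFinset, Set.mem_preimage, Set.mem_setOf_eq,
    Set.mem_singleton_iff]
  exact ⟨fun h => h.2, fun h => ⟨h ▸ hi, h⟩⟩

/-- The defect formula for a quotient action, and the fixed points for small defect. -/
theorem defect_of_quotient [IsPretransitive G α] (hπ : ∀ (g : G) (x : α), π (g • x) = g • π x)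
    (hsurj : Function.Surjective π) {e : ℕ} (he : ∀ i, (π ⁻¹' {i}).ncard = e)
    (hcard : Nat.card α = e * Nat.card β) :
    fixCount p G α ≤ e * fixCount p G β ∧ p ∣ e * fixCount p G β - fixCount p G α ∧
      defect p G α = e * defect p G β
        + (2 * (p : ℤ) - 1) * ((e * fixCount p G β : ℕ) - (fixCount p G α : ℤ)) := by
  set P : Sylow p G := default
  have h1 : fixCount p G α ≤ e * fixCount p G β := by
    rw [← preimage_pts_ncard hπ hsurj P he, fixCount_eq P]
    exact Set.ncard_le_ncard fun x hx => map_mem_pts hπ hx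
  refine ⟨h1, ?_, ?_⟩
  · refine (Nat.modEq_iff_dvd' h1).1 ?_
    calc fixCount p G α ≡ Nat.card α [MOD p] := fix_modEq.symm
      _ ≡ e * fixCount p G β [MOD p] := by rw [hcard]; exact fix_modEq.mul_left e
  · rw [defect, defect, hcard]
    push_cast
    ring

/-- If the defect is small then a point over a fixed block is fixed. -/
theorem pointwise_of_small [IsPretransitive G α] (hπ : ∀ (g : G) (x : α), π (g • x) = g • π x)
    (hsurj : Function.Surjective π) {e : ℕ} (he : ∀ i, (π ⁻¹' {i}).ncard = e)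
    (hcard : Nat.card α = e * Nat.card β) (hq : 0 ≤ defect p G β)
    (hD : defect p G α ≤ p * (2 * (p : ℤ) - 3)) :
    fixCount p G α = e * fixCount p G β ∧ defect p G α = e * defect p G β ∧
      ∀ (P : Sylow p G) (x : α), π x ∈ pts (P : Subgroup G) → x ∈ pts (P : Subgroup G) := by
  obtain ⟨h1, ⟨c, hc⟩, h3⟩ := defect_of_quotient (p := p) hπ hsurj he hcard
  have hp : (2 : ℤ) ≤ p := by exact_mod_cast (Fact.out : p.Prime).two_le
  have hc' : ((e * fixCount p G β : ℕ) : ℤ) - (fixCount p G α : ℤ) = (p : ℤ) * c := by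
    rw [← Nat.cast_sub h1, hc]; push_cast; ring
  have hc0 : c = 0 := by
    rcases Nat.eq_zero_or_pos c with h | h
    · exact h
    exfalso
    have : (1 : ℤ) ≤ c := by exact_mod_cast h
    have h4 : (2 * (p : ℤ) - 1) * p ≤ (2 * (p : ℤ) - 1) * ((p : ℤ) * c) := by
      refine mul_le_mul_of_nonneg_left ?_ (by linarith)
      nlinarith
    rw [h3, hc'] at hD
    have h5 : (0 : ℤ) ≤ e * defect p G β := mul_nonneg (Int.natCast_nonneg e) hq
    nlinarith
  subst hc0
  have heq : fixCount p G α = e * fixCount p G β := by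
    rw [mul_zero] at hc; omega
  refine ⟨heq, ?_, fun P x hx => ?_⟩
  · rw [h3, hc']; simp
  · have h6 : (pts (P : Subgroup G) : Set α) = π ⁻¹' pts (P : Subgroup G) := by
      refine Set.eq_of_subset_of_ncard_le (fun x hx => map_mem_pts hπ hx) ?_
      rw [preimage_pts_ncard hπ hsurj P he, ← fixCount_eq P, heq]
    rw [h6]; exact hx

end Cfsg.Agent.HalfFix
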