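import Cfsg.Agent.Lib.HalfFix.Local

/-!
# The group of a class

If no covered orbit is without quotient, the subgroup `rOf` generated by the `p`-elements trivial
outside a class induces the alternating group on its blocks, and has no small non-trivial image.
-/

set_option autoImplicit false

namespace Cfsg.Agent.HalfFix

open MulAction Equiv
open scoped Pointwise

universe u w

variable {p : ℕ} [Fact p.Prime] {G : Type u} [Group G] [Finite G] {α : Type} [MulAction G α]

/-- The pointwise stabilizer in `K` of an invariant set is normal in `K`. -/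
theorem fixing_subgroupOf_normal {K : Subgroup G} {s : Set α}
    (hst : ∀ k ∈ K, ∀ x ∈ s, k • x ∈ s) : ((fixingSubgroup G s).subgroupOf K).Normal :=
  ⟨fun m hm k => (mem_fixingSubgroup_iff G).2 fun x hx => by
    have h1 : (m : G) • (k : G)⁻¹ • x = (k : G)⁻¹ • x :=
      (mem_fixingSubgroup_iff G).1 hm _ (hst _ (K.inv_mem k.2) x hx)
    simp only [Subgroup.coe_mul, Subgroup.coe_inv, Subgroup.coe_subtype, mul_smul]
    rw [h1, smul_inv_smul]⟩

theorem stable_diff {K : Subgroup G} {s t : Set α} (hs : ∀ k ∈ K, ∀ x ∈ s, k • x ∈ s)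
    (ht : ∀ k ∈ K, ∀ x ∈ t, k • x ∈ t) : ∀ k ∈ K, ∀ x ∈ s \ t, k • x ∈ s \ t :=
  fun k hk x hx => ⟨hs k hk x hx.1, fun h => hx.2 (by simpa using ht k⁻¹ (K.inv_mem hk) _ h)⟩

theorem cls_stable {K : Subgroup G} {Y : Set α} (hst : ∀ k ∈ K, ∀ x ∈ Y, k • x ∈ Y) (b : α) :
    ∀ k ∈ K, ∀ x ∈ cls p K Y b, k • x ∈ cls p K Y b := by
  rintro k hk x ⟨hx, ⟨N, hN⟩, hj⟩
  exact ⟨hst k hk x hx, ⟨N, isAType_of_mem (smul_mem_orbit' hk (mem_orbit_self x)) hN⟩,
    by rw [jOf_eq_of_mem (smul_mem_orbit' hk (mem_orbit_self x)), hj]⟩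

namespace OType

variable {K : Subgroup G} {O : Set α} {N F : ℕ} (T : OType p K O N F)

/-- The intersection of two normal subgroups with full image has full image. -/
theorem inf_not_le_ker (hp : p ≠ 2) (hA : T.IsA) {M₁ M₂ : Subgroup ↥K} [M₁.Normal] [M₂.Normal]
    (h₁ : ¬ M₁ ≤ T.act.ker) (h₂ : ¬ M₂ ≤ T.act.ker) : ¬ M₁ ⊓ M₂ ≤ T.act.ker := by
  intro hle
  have e₁ := (T.map_normal hp hA M₁).resolve_left h₁
  have e₂ := (T.map_normal hp hA M₂).resolve_left h₂
  have hcomm : ∀ x ∈ alternatingGroup (Fin N), ∀ y ∈ alternatingGroup (Fin N), x * y = y * x := by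
    intro x hx y hy
    rw [← e₁] at hx
    rw [← e₂] at hy
    obtain ⟨m, hm, rfl⟩ := hx
    obtain ⟨n, hn, rfl⟩ := hy
    have h3 : m * n * m⁻¹ * n⁻¹ ∈ M₁ ⊓ M₂ := by
      refine ⟨?_, M₂.mul_mem (‹M₂.Normal›.conj_mem n hn m) (M₂.inv_mem hn)⟩
      rw [show m * n * m⁻¹ * n⁻¹ = m * (n * m⁻¹ * n⁻¹) by group]
      exact M₁.mul_mem hm (‹M₁.Normal›.conj_mem _ (M₁.inv_mem hm) n)
    have h4 := hle h3
    rw [MonoidHom.mem_ker, map_mul, map_mul, map_mul, map_inv, map_inv] at h4
    calc T.act m * T.act n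
        = (T.act m * T.act n * (T.act m)⁻¹ * (T.act n)⁻¹) * (T.act n * T.act m) := by group
      _ = T.act n * T.act m := by rw [h4, one_mul]
  haveI : IsMulCommutative (alternatingGroup (Fin N)) :=
    ⟨⟨fun x y => Subtype.ext (hcomm x x.2 y y.2)⟩⟩
  have h5 := T.five_le hp hA
  haveI : IsSimpleGroup (alternatingGroup (Fin N)) :=
    alternatingGroup.isSimpleGroup (by rw [Nat.card_fin]; exact h5)
  letI : CommGroup (alternatingGroup (Fin N)) :=
    { mul_comm := fun x y => Subtype.ext (hcomm x x.2 y y.2) }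
  have hprime : (Nat.card (alternatingGroup (Fin N))).Prime := IsSimpleGroup.prime_card
  haveI : Nontrivial (Fin N) := Fin.nontrivial_iff_two_le.2 (by omega)
  have h6 : 2 * Nat.card (alternatingGroup (Fin N)) = N.factorial := by
    rw [two_mul_nat_card_alternatingGroup, Nat.card_perm, Nat.card_fin]
  have h7 : (5 : ℕ).factorial ∣ N.factorial := Nat.factorial_dvd_factorial h5
  rw [← h6, show (5 : ℕ).factorial = 2 * 60 from rfl] at h7
  have h8 : 60 ∣ Nat.card (alternatingGroup (Fin N)) := Nat.dvd_of_mul_dvd_mul_left two_pos h7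
  have := (Nat.dvd_prime hprime).1 ((show 4 ∣ 60 by norm_num).trans h8)
  rcases this with h | h
  · omega
  · rw [← h] at hprime; exact absurd hprime (by norm_num)

end OType

namespace Local

variable {K : Subgroup G} {Y : Set α} (hL : Local p K Y)

include hL

theorem rOf_le (b : α) : rOf p K Y b ≤ K := (pGen_le _).trans inf_le_left

theorem rOf_fix (b : α) {g : G} (hg : g ∈ rOf p K Y b) {x : α} (hx : x ∉ cls p K Y b) :
    g • x = x := by
  by_cases hxY : x ∈ Y
  · exact (mem_fixingSubgroup_iff G).1 (pGen_le _ hg).2 x ⟨hxY, hx⟩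
  · exact hL.outside g (hL.rOf_le b hg) x hxY

theorem rOf_normal (b : α) : ((rOf p K Y b).subgroupOf K).Normal := by
  refine ⟨fun m hm k => ?_⟩
  show (k : G) * (m : G) * (k : G)⁻¹ ∈ rOf p K Y b
  refine conj_mem_pGen (fun y hy => ⟨K.mul_mem (K.mul_mem k.2 hy.1) (K.inv_mem k.2), ?_⟩) hm
  exact (fixing_subgroupOf_normal (stable_diff hL.stable (cls_stable hL.stable b))).conj_mem
    ⟨y, hy.1⟩ hy.2 k

variable [Finite α]

/-- Outside the class, the pointwise stabilizer of an orbit is not in the kernel. -/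
theorem fixing_not_le_ker (hnoW : ∀ y ∈ Y, Covered p K y → IsOType p K y) {b : α} {N F : ℕ}
    (T : OType p K (orbit K b) N F) (hA : T.IsA) {z : α} (hz : z ∈ Y \ cls p K Y b) :
    ¬ (fixingSubgroup G (orbit K z : Set α)).subgroupOf K ≤ T.act.ker := by
  intro hle
  by_cases hcov : Covered p K z
  · obtain ⟨N', F', ⟨T'⟩⟩ := hnoW z hz.1 hcov
    have hk : T'.act.ker ≤ T.act.ker := by
      refine T.le_ker_of_pElements hL.ne_two hA _ fun k hk j hj => ?_
      exact hle (show (k : G) ∈ fixingSubgroup G (orbit K z : Set α) from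
        (mem_fixingSubgroup_iff G).2 fun x hx => T'.ker_pElement hk hj hx)
    obtain ⟨-, hA', heq, -⟩ := T.eq_of_ker_le T' hL.ne_two hA hk
    exact hz.2 ⟨hz.1, ⟨N', F', T', hA'⟩, (ker_eq_iff_jOf_eq hL.ne_two T' T hA' hA).1 heq⟩
  · obtain ⟨-, hcard⟩ := hL.not_covered_card hz.1 hcov
    set φ := toPermHom ↥K (orbit K z) with hφ
    have hker : φ.ker ≤ T.act.ker := fun k hk => hle (show (k : G) ∈ fixingSubgroup G
      (orbit K z : Set α) from (mem_fixingSubgroup_iff G).2 fun x hx =>
        congrArg Subtype.val (congrArg (fun σ : Perm (orbit K z) => σ ⟨x, hx⟩) hk))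
    have h1 : Nat.card T.act.range ≤ Nat.card φ.range := by
      rw [← Subgroup.index_ker, ← Subgroup.index_ker]
      exact Nat.le_of_dvd (Nat.pos_of_ne_zero Subgroup.index_ne_zero_of_finite)
        (Subgroup.index_dvd_of_le hker)
    have h2 : Nat.card φ.range ≤ p.factorial := by
      refine (Subgroup.card_le_card_group φ.range).trans ?_
      rw [Nat.card_perm, Nat.card_coe_set_eq, hcard]
    have h3 := T.two_mul_card_range hL.ne_two hA
    have h4 := T.factorial_lt hL.ne_two hA
    omega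

/-- `rOf` induces the alternating group on the class of `b`. -/
theorem rOf_map (hnoW : ∀ y ∈ Y, Covered p K y → IsOType p K y) {b : α} {N F : ℕ}
    (T : OType p K (orbit K b) N F) (hA : T.IsA) :
    ((rOf p K Y b).subgroupOf K).map T.act = alternatingGroup (Fin N) := by
  classical
  haveI := hL.rOf_normal b
  refine (T.map_normal hL.ne_two hA _).resolve_left fun hle => ?_
  -- the pointwise stabilizer of the complement of the class
  have key : ∀ t : Finset α, (∀ z ∈ t, z ∈ Y \ cls p K Y b) →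
      ¬ (fixingSubgroup G (⋃ z ∈ t, (orbit K z : Set α))).subgroupOf K ≤ T.act.ker := by
    intro t
    induction t using Finset.induction_on with
    | empty =>
      intro _ h
      obtain ⟨P, hP⟩ := T.sylow
      obtain ⟨c, -, hord, -⟩ := T.exists_cycle P hP
      have h1 : c ∈ T.act.ker := h ((mem_fixingSubgroup_iff G).2 fun x hx => by simp at hx)
      rw [MonoidHom.mem_ker.1 h1, orderOf_one] at hord
      exact (Fact.out : p.Prime).ne_one hord.symm
    | insert a t _ ih =>
      intro hmem h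
      haveI : ((fixingSubgroup G (orbit K a : Set α)).subgroupOf K).Normal :=
        fixing_subgroupOf_normal fun _ hk _ hx => smul_mem_orbit' hk hx
      haveI : ((fixingSubgroup G (⋃ z ∈ t, (orbit K z : Set α))).subgroupOf K).Normal :=
        fixing_subgroupOf_normal fun k hk x hx => by
          simp only [Set.mem_iUnion] at hx ⊢
          obtain ⟨z, hz, hxz⟩ := hx
          exact ⟨z, hz, smul_mem_orbit' hk hxz⟩
      refine T.inf_not_le_ker hL.ne_two hA
        (hL.fixing_not_le_ker hnoW T hA (hmem a (Finset.mem_insert_self a t)))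
        (ih fun z hz => hmem z (Finset.mem_insert_of_mem hz)) ?_
      rintro k ⟨h1, h2⟩
      refine h ((mem_fixingSubgroup_iff G).2 fun x hx => ?_)
      rw [Finset.set_biUnion_insert] at hx
      rcases hx with hx | hx
      · exact (mem_fixingSubgroup_iff G).1 h1 x hx
      · exact (mem_fixingSubgroup_iff G).1 h2 x hx
  have hfin : (Y \ cls p K Y b).Finite := Set.toFinite _
  haveI : ((fixingSubgroup G (Y \ cls p K Y b)).subgroupOf K).Normal :=
    fixing_subgroupOf_normal (stable_diff hL.stable (cls_stable hL.stable b))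
  have h1 : ¬ (fixingSubgroup G (Y \ cls p K Y b)).subgroupOf K ≤ T.act.ker := by
    intro h
    refine key hfin.toFinset (fun z hz => hfin.mem_toFinset.1 hz) ?_
    intro k hk
    refine h ((mem_fixingSubgroup_iff G).2 fun x hx => (mem_fixingSubgroup_iff G).1 hk x ?_)
    simp only [Set.mem_iUnion]
    exact ⟨x, hfin.mem_toFinset.2 hx, mem_orbit_self x⟩
  refine h1 (T.le_ker_of_pElements hL.ne_two hA _ fun k hk j hj => ?_)
  exact hle (show (k : G) ∈ rOf p K Y b from mem_pGen ⟨k.2, hk⟩ hj)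

/-- `rOf` moves every point of the class. -/
theorem rOf_moves (hnoW : ∀ y ∈ Y, Covered p K y → IsOType p K y) {b : α} {N : ℕ}
    (hb : IsAType p K b N) {z : α} (hz : z ∈ cls p K Y b) :
    ∃ g ∈ rOf p K Y b, g • z ≠ z := by
  obtain ⟨F, T, hA⟩ := hb
  obtain ⟨hzY, ⟨N', F', T', hA'⟩, hj⟩ := hz
  have heq := (ker_eq_iff_jOf_eq hL.ne_two T' T hA' hA).2 hj
  haveI := hL.rOf_normal b
  have h1 := hL.rOf_map hnoW T hA
  have h2 : ¬ (rOf p K Y b).subgroupOf K ≤ T'.act.ker := by
    intro h
    rw [heq] at h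
    have h5 := T.five_le hL.ne_two hA
    have h3 : ((rOf p K Y b).subgroupOf K).map T.act = ⊥ := (Subgroup.map_eq_bot_iff _).2 h
    rw [h1] at h3
    have h6 : Nat.card (alternatingGroup (Fin N)) = 1 := by rw [h3]; simp
    have h7 := T.two_mul_card_range hL.ne_two hA
    rw [T.range_eq_alt hL.ne_two hA, h6] at h7
    have : (5 : ℕ).factorial ≤ N.factorial := Nat.factorial_le h5
    rw [show (5 : ℕ).factorial = 120 from rfl] at this
    omega
  obtain ⟨k, hk, -, hkz⟩ := T'.exists_pElement_moving hL.ne_two hA' _ h2 (mem_orbit_self z)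
  exact ⟨k, hk, hkz⟩

/-- Every non-trivial action of `rOf` through the action on `α` has large image. -/
theorem rOf_image [FaithfulSMul G α] (hnoW : ∀ y ∈ Y, Covered p K y → IsOType p K y) {b : α}
    {N F : ℕ} (T : OType p K (orbit K b) N F) (hA : T.IsA) {M : Type w} [Group M] [Finite M]
    (ψ : ↥(rOf p K Y b) →* M) (hψ : ∃ r, ψ r ≠ 1) :
    N.factorial ≤ 2 * Nat.card ψ.range := by
  let ι : ↥(rOf p K Y b) →* ↥K := Subgroup.inclusion (hL.rOf_le b)
  let φ := T.act.comp ι
  have hrange : φ.range = alternatingGroup (Fin N) := by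
    rw [← hL.rOf_map hnoW T hA]
    ext σ
    constructor
    · rintro ⟨r, rfl⟩; exact ⟨ι r, r.2, rfl⟩
    · rintro ⟨k, hk, rfl⟩; exact ⟨⟨k, hk⟩, rfl⟩
  have h5 := T.five_le hL.ne_two hA
  haveI : IsSimpleGroup (alternatingGroup (Fin N)) :=
    alternatingGroup.isSimpleGroup (by rw [Nat.card_fin]; exact h5)
  haveI : IsSimpleGroup φ.range := by rw [hrange]; infer_instance
  haveI : (ψ.ker.map φ.rangeRestrict).Normal :=
    Subgroup.Normal.map inferInstance _ φ.rangeRestrict_surjective
  haveI : Nontrivial (Fin N) := Fin.nontrivial_iff_two_le.2 (by omega)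
  have hcard : 2 * Nat.card φ.range = N.factorial := by
    rw [hrange, two_mul_nat_card_alternatingGroup, Nat.card_perm, Nat.card_fin]
  rcases (inferInstance : (ψ.ker.map φ.rangeRestrict).Normal).eq_bot_or_eq_top with h | h
  · -- the kernel is inside the kernel of the action on the blocks
    have hle : ψ.ker ≤ φ.ker := fun r hr => by
      have : φ.rangeRestrict r ∈ ψ.ker.map φ.rangeRestrict := ⟨r, hr, rfl⟩
      rw [h, Subgroup.mem_bot] at this
      exact congrArg Subtype.val this
    rw [← hcard]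
    refine Nat.mul_le_mul_left 2 ?_
    rw [← Subgroup.index_ker, ← Subgroup.index_ker]
    exact Nat.le_of_dvd (Nat.pos_of_ne_zero Subgroup.index_ne_zero_of_finite)
      (Subgroup.index_dvd_of_le hle)
  · -- the image is an image of a `p'`-group
    exfalso
    have hp : ¬ p ∣ Nat.card φ.ker := by
      intro hdvd
      obtain ⟨x, hx⟩ := exists_prime_orderOf_dvd_card' (G := φ.ker) p hdvd
      have hx1 : ((x : ↥(rOf p K Y b)) : G) ^ p = 1 := by
        have h1 := pow_orderOf_eq_one x
        rw [hx] at h1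
        simpa using congrArg (fun w : φ.ker => ((w : ↥(rOf p K Y b)) : G)) h1
      have hfix : ∀ z : α, ((x : ↥(rOf p K Y b)) : G) • z = z := by
        intro z
        by_cases hz : z ∈ cls p K Y b
        · obtain ⟨hzY, ⟨N', F', T', hA'⟩, hj⟩ := hz
          have heq := (ker_eq_iff_jOf_eq hL.ne_two T' T hA' hA).2 hj
          exact T'.ker_pElement (k := ι x) (by rw [heq]; exact x.2) (j := 1)
            (by rw [pow_one]; exact hx1) (mem_orbit_self z)
        · exact hL.rOf_fix b (x : ↥(rOf p K Y b)).2 hz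
      have h1 : ((x : ↥(rOf p K Y b)) : G) = 1 := eq_of_smul_eq_smul fun z : α => by rw [hfix z, one_smul]
      have h2 : x = 1 := Subtype.ext (Subtype.ext h1)
      rw [h2, orderOf_one] at hx
      exact (Fact.out : p.Prime).ne_one hx.symm
    obtain ⟨r, hr⟩ := hψ
    apply hr
    have hgen : IsGen p ↥(rOf p K Y b) := isGen_pGen _
    let ψ' : ↥(rOf p K Y b) →* ↥(φ.ker.map ψ) := ψ.codRestrict _ fun r => by
      have : φ.rangeRestrict r ∈ ψ.ker.map φ.rangeRestrict := by rw [h]; exact Subgroup.mem_top _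
      obtain ⟨k, hk, hkr⟩ := this
      refine ⟨k⁻¹ * r, ?_, by rw [map_mul, map_inv, MonoidHom.mem_ker.1 hk, inv_one, one_mul]⟩
      rw [SetLike.mem_coe, MonoidHom.mem_ker, map_mul, map_inv, inv_mul_eq_one]
      exact congrArg Subtype.val hkr
    refine congrArg Subtype.val (hgen.eq_one_of_not_dvd ?_ ψ' r)
    intro hdvd
    exact hp (hdvd.trans (Subgroup.card_map_dvd _ _))

end Local

end Cfsg.Agent.HalfFix
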