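import Cfsg.Agent.Lib.HalfFix.Basic
import Cfsg.Agent.Lib.Coprime.Invariant

/-!
# Coprime action on a transitive group: the fixed point number divides the degree
-/

set_option autoImplicit false

namespace Cfsg.Agent.HalfFix

open MulAction
open scoped Pointwise

universe u v

variable {G : Type u} [Group G] [Finite G]

theorem inf_card_mul_le {A B X : Subgroup G} (hA : A ≤ X) (hB : B ≤ X) :
    Nat.card A * Nat.card B ≤ Nat.card X * Nat.card (A ⊓ B : Subgroup G) := by
  have h1 : Nat.card (A ⊓ B : Subgroup G) * B.relIndex A = Nat.card A := by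
    have h := (B.subgroupOf A).card_mul_index
    rwa [← Subgroup.relIndex, ← Subgroup.inf_subgroupOf_left,
      Nat.card_congr (Subgroup.subgroupOfEquivOfLe (inf_le_left : A ⊓ B ≤ A)).toEquiv] at h
  have h2 : Nat.card B * B.relIndex X = Nat.card X := by
    have h := (B.subgroupOf X).card_mul_index
    rwa [← Subgroup.relIndex, Nat.card_congr (Subgroup.subgroupOfEquivOfLe hB).toEquiv] at h
  have h3 : B.relIndex A ≤ B.relIndex X :=
    Subgroup.relIndex_le_of_le_right hA
      (fun h => by rw [h, mul_zero] at h2; exact Nat.card_pos.ne' h2.symm)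
  calc Nat.card A * Nat.card B = Nat.card B * B.relIndex A * Nat.card (A ⊓ B : Subgroup G) := by
        rw [← h1]; ring
    _ ≤ Nat.card B * B.relIndex X * Nat.card (A ⊓ B : Subgroup G) :=
        Nat.mul_le_mul_right _ (Nat.mul_le_mul_left _ h3)
    _ = _ := by rw [h2]

variable {p : ℕ} [Fact p.Prime] {W : Type v} [MulAction G W] [Finite W]

theorem fix_dvd_card (L P : Subgroup G) (hPL : P ≤ Subgroup.normalizer (L : Set G))
    (hP : IsPGroup p P) (hL : ¬ p ∣ Nat.card L) (htr : ∀ x y : W, ∃ l ∈ L, l • x = y) {y : W}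
    (hy : y ∈ pts P) : (pts P : Set W).ncard ∣ Nat.card W := by
  classical
  obtain ⟨a, ha⟩ := IsPGroup.iff_card.1 hP
  have hcop : (Nat.card P).Coprime (Nat.card L) := by
    rw [ha]; exact (((Fact.out : p.Prime).coprime_iff_not_dvd).2 hL).pow_left a
  have hsolv : Group.IsSolvable P ∨ Group.IsSolvable L := by
    have := hP.isNilpotent
    exact Or.inl inferInstance
  set C := L ⊓ Subgroup.centralizer (P : Set G) with hC
  have horb : (orbit C y : Set W) = pts P := by
    ext z
    constructor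
    · rintro ⟨⟨c, hc⟩, rfl⟩ g hg
      have h1 : g * c = c * g := Subgroup.mem_centralizer_iff.1 hc.2 g hg
      show g • c • y = c • y
      rw [← mul_smul, h1, mul_smul, hy g hg]
    · intro hz
      obtain ⟨l, hl, rfl⟩ := htr y z
      obtain ⟨c, hc, hcy⟩ :=
        Coprime.exists_mem_centralizer_smul_eq hPL hcop hsolv hl (fun g hg => hy g hg) (fun g hg => hz g hg)
      exact ⟨⟨c, hc⟩, hcy⟩
  have hLorb : (orbit L y : Set W) = Set.univ := Set.eq_univ_of_forall fun z => by
    obtain ⟨l, hl, rfl⟩ := htr y z; exact ⟨⟨l, hl⟩, rfl⟩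
  set Ly := L ⊓ stabilizer G y with hLy
  set Cy := C ⊓ stabilizer G y with hCy
  have hcard : ∀ (H : Subgroup G), Nat.card (H ⊓ stabilizer G y : Subgroup G) * (orbit H y : Set W).ncard =
      Nat.card H := by
    intro H
    rw [← index_stabilizer, show stabilizer H y = (stabilizer G y).subgroupOf H from rfl,
      ← Nat.card_congr (Subgroup.subgroupOfEquivOfLe (inf_le_left : H ⊓ stabilizer G y ≤ H)).toEquiv,
      Subgroup.inf_subgroupOf_left]
    exact Subgroup.card_mul_index _
  have hn0 : Nat.card W ≠ 0 := by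
    haveI : Nonempty W := ⟨y⟩
    exact Nat.card_pos.ne'
  have hf0 : (pts P : Set W).ncard ≠ 0 := by
    rw [← Nat.pos_iff_ne_zero]
    exact (Set.ncard_pos).2 ⟨y, hy⟩
  have hcL := hcard L
  rw [hLorb, Set.ncard_univ, ← hLy] at hcL
  have hcC := hcard C
  rw [horb, ← hCy] at hcC
  rw [← Nat.factorization_prime_le_iff_dvd hf0 hn0]
  intro q hq
  haveI : Fact q.Prime := ⟨hq⟩
  -- invariant Sylow subgroups
  have hPLy : P ≤ Subgroup.normalizer (Ly : Set G) := fun g hg => by
    refine Subgroup.mem_normalizer_fintype fun x hx => ⟨(Subgroup.mem_normalizer_iff.1 (hPL hg) x).1 hx.1, ?_⟩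
    show (g * x * g⁻¹) • y = y
    rw [mul_smul, mul_smul, inv_smul_eq_iff.2 (hy g hg).symm, show x • y = y from hx.2, hy g hg]
  have hcopy : (Nat.card P).Coprime (Nat.card Ly) :=
    hcop.coprime_dvd_right (Subgroup.card_dvd_of_le inf_le_left)
  have hsolvy : Group.IsSolvable P ∨ Group.IsSolvable Ly := by
    have := hP.isNilpotent
    exact Or.inl inferInstance
  obtain ⟨X0, hX0⟩ := Coprime.exists_invariant_sylow hPLy hcopy hsolvy q
  set X0' := (X0 : Subgroup Ly).map Ly.subtype
  have hX0L : X0' ≤ L := (Subgroup.map_subtype_le _).trans inf_le_left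
  obtain ⟨X, hX0X, hPX⟩ := Coprime.exists_invariant_sylow_ge hPL hcop hsolv hX0L (X0.isPGroup'.map _) hX0
  obtain ⟨Y⟩ := (inferInstance : Nonempty (Sylow q C))
  set Y' := (Y : Subgroup C).map C.subtype with hY'
  have hY'C : Y' ≤ C := Subgroup.map_subtype_le _
  have hPY : P ≤ Subgroup.normalizer (Y' : Set G) := fun g hg => by
    refine Subgroup.mem_normalizer_fintype fun x hx => ?_
    have h1 : g * x = x * g := Subgroup.mem_centralizer_iff.1 (hY'C hx).2 g hg
    rwa [h1, mul_inv_cancel_right]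
  obtain ⟨X2, hYX2, hPX2⟩ := Coprime.exists_invariant_sylow_ge hPL hcop hsolv
    (hY'C.trans inf_le_left) (Y.isPGroup'.map _) hPY
  obtain ⟨c, hc, hcX⟩ := Coprime.invariant_sylow_conj hPL hcop hsolv X2 X hPX2 hPX
  set Yc : Subgroup G := MulAut.conj (c : G) • Y'
  have hYcX : Yc ≤ (X : Subgroup L).map L.subtype := by
    rw [← hcX, Coprime.map_subtype_smul]
    exact Subgroup.pointwise_smul_le_pointwise_smul_iff.2 hYX2
  have hYcC : Yc ≤ C := by
    rintro _ ⟨x, hx, rfl⟩
    exact C.mul_mem (C.mul_mem ⟨c.2, hc⟩ (hY'C hx)) (C.inv_mem ⟨c.2, hc⟩)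
  have hcardYc : Nat.card Yc = q ^ (Nat.card C).factorization q := by
    rw [show Nat.card Yc = Nat.card Y' from
      (Nat.card_congr (Subgroup.equivSMul (MulAut.conj (c : G)) Y').toEquiv).symm, hY',
      Subgroup.card_map_of_injective C.subtype_injective, Y.card_eq_multiplicity]
  have hcardX0 : Nat.card X0' = q ^ (Nat.card Ly).factorization q := by
    rw [Subgroup.card_map_of_injective Ly.subtype_injective, X0.card_eq_multiplicity]
  have hcardX : Nat.card ((X : Subgroup L).map L.subtype) = q ^ (Nat.card L).factorization q := by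
    rw [Subgroup.card_map_of_injective L.subtype_injective, X.card_eq_multiplicity]
  have hinf : Nat.card (X0' ⊓ Yc : Subgroup G) ≤ q ^ (Nat.card Cy).factorization q := by
    have hp' : IsPGroup q (X0' ⊓ Yc : Subgroup G) := (X0.isPGroup'.map _).to_le inf_le_left
    obtain ⟨b, hb⟩ := IsPGroup.iff_card.1 hp'
    have hd : q ^ b ∣ Nat.card Cy := hb ▸ Subgroup.card_dvd_of_le (show X0' ⊓ Yc ≤ Cy from
      fun x hx => ⟨hYcC hx.2, ((Subgroup.map_subtype_le _) hx.1 : x ∈ Ly).2⟩)
    rw [hb]
    exact Nat.pow_le_pow_right hq.pos ((hq.pow_dvd_iff_le_factorization Nat.card_pos.ne').1 hd)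
  have hmain := (inf_card_mul_le hX0X hYcX).trans (Nat.mul_le_mul_left _ hinf)
  rw [hcardX0, hcardYc, hcardX, ← pow_add, ← pow_add, Nat.pow_le_pow_iff_right hq.one_lt,
    ← hcL, ← hcC, Nat.factorization_mul Nat.card_pos.ne' hn0,
    Nat.factorization_mul Nat.card_pos.ne' hf0] at hmain
  simp only [Finsupp.add_apply] at hmain
  omega

end Cfsg.Agent.HalfFix
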