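import Cfsg.Agent.Lib.HalfFix.Main

/-!
# Fewer than half of the points are fixed by a Sylow subgroup

In a transitive action on more than one point of a group generated by its `p`-elements, a Sylow
`p`-subgroup fixes at most `(p - 1) / (2 p - 1)` of the points.
-/

set_option autoImplicit false

namespace Cfsg.Agent.HalfFix

open MulAction Equiv
open scoped Pointwise

universe u v

/-- The case `p = 2`. -/
theorem defect_nonneg_two (n : ℕ) : ∀ {G : Type u} [Group G] [Finite G] {α : Type} [MulAction G α]
    [Finite α] [IsPretransitive G α], Nat.card α = n → IsGen 2 G → 1 < Nat.card α →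
      0 ≤ defect 2 G α := by
  induction n using Nat.strong_induction_on with
  | h n ih =>
  intro G _ _ α _ _ _ hn hgen h1
  subst hn
  haveI : Fact (Nat.Prime 2) := ⟨Nat.prime_two⟩
  by_contra hneg
  push Not at hneg
  obtain ⟨N, S, hN, hprim⟩ := exists_primitive_sys (G := G) h1
  haveI : Nonempty α := (Nat.card_pos_iff.1 (by omega)).1
  obtain ⟨he1, he, hc⟩ := S.fib_spec
  haveI := hprim
  have hcb : 1 < Nat.card S.Blk := by rw [Sys.card_blk]; exact hN
  obtain ⟨hq1, -, hq3⟩ := defect_of_quotient (p := 2) S.proj_smul S.proj_surj he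
    (by rw [Sys.card_blk]; exact hc)
  -- a minimal counterexample is primitive
  obtain he2 : S.fib = 1 := by
    by_contra h
    have hlt : Nat.card S.Blk < Nat.card α := by
      rw [Sys.card_blk, hc]
      exact (Nat.lt_mul_iff_one_lt_left (by omega)).2 (by omega)
    have hq := ih _ hlt (α := S.Blk) rfl hgen hcb
    rw [hq3] at hneg
    have h4 : (0 : ℤ) ≤ ((S.fib * fixCount 2 G S.Blk : ℕ) : ℤ) - (fixCount 2 G α : ℤ) := by
      rw [sub_nonneg]; exact_mod_cast hq1
    have := mul_nonneg (Int.natCast_nonneg S.fib) hq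
    push_cast at hneg h4
    linarith
  have hinj : Function.Injective S.proj := fun x y hxy => by
    have h4 : (S.proj ⁻¹' {S.proj x}).ncard ≤ 1 := by rw [he (S.proj x), he2]
    exact (Set.ncard_le_one (Set.toFinite _)).1 h4 x rfl y hxy.symm
  let f : α ≃ S.Blk := Equiv.ofBijective S.proj ⟨hinj, S.proj_surj⟩
  let f' : α →ₑ[(id : G → G)] S.Blk := { toFun := f, map_smul' := fun g x => S.proj_smul g x }
  have hprimα : IsPreprimitive G α :=
    (isPreprimitive_congr (f := f') Function.surjective_id f.bijective).2 hprim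
  haveI := hprimα
  have hD : defect 2 G α ≤ -2 := by
    obtain ⟨c, hc⟩ : ((2 : ℕ) : ℤ) ∣ defect 2 G α := dvd_defect
    omega
  have hfn := fixCount_lt (p := 2) (α := α) hgen h1
  have hf0 : 0 < fixCount 2 G α := by
    by_contra h
    have h0 : fixCount 2 G α = 0 := by omega
    rw [defect, h0] at hD
    push_cast at hD
    omega
  -- the subgroup generated by the `2`-elements fixing `a` moves every other point
  set U : α → Subgroup G := fun x => pGen 2 (stabilizer G x) with hU
  have hUle : ∀ x, U x ≤ stabilizer G x := fun x => pGen_le _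
  have hUsmul : ∀ (g : G) (x : α) (k : G), k ∈ U (g • x) ↔ g⁻¹ * k * g ∈ U x := by
    have key : ∀ (g : G) (x : α) (k : G), k ∈ U x → g * k * g⁻¹ ∈ U (g • x) := by
      intro g x k hk
      have h1 : (U x).map (MulAut.conj g).toMonoidHom ≤ U (g • x) := by
        refine (pGen_map_le _ _).trans (pGen_mono ?_)
        rintro _ ⟨z, hz, rfl⟩
        show (g * z * g⁻¹) • g • x = g • x
        rw [← mul_smul, inv_mul_cancel_right, mul_smul, show z • x = x from hz]
      exact h1 ⟨k, hk, rfl⟩
    intro g x k
    constructor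
    · intro hk
      have := key g⁻¹ _ k hk
      rwa [inv_smul_smul, inv_inv] at this
    · intro hk
      have := key g x _ hk
      rwa [show g * (g⁻¹ * k * g) * g⁻¹ = k by group] at this
  have hmove : ∀ a x : α, x ≠ a → ∃ k ∈ U a, k • x ≠ x := by
    intro a x hxa
    by_contra hcon
    push Not at hcon
    have hle : U a ≤ U x := by
      refine le_of_eq_of_le (pGen_idem (p := 2) (stabilizer G a)).symm (pGen_mono fun k hk => ?_)
      exact hcon k hk
    obtain ⟨g, hg⟩ := exists_smul_eq G a x
    have heq : U a = U x := Subgroup.eq_of_le_of_card_ge hle <| by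
      refine Nat.card_le_card_of_injective (fun k : U x => (⟨g⁻¹ * (k : G) * g,
        (hUsmul g a _).1 (by rw [hg]; exact k.2)⟩ : U a)) fun k l h => ?_
      exact Subtype.ext (mul_left_cancel (mul_right_cancel (congrArg Subtype.val h)))
    let r : α → α → Prop := fun u v => U u = U v
    have hr : ∀ (g : G) (u v : α), r u v → r (g • u) (g • v) := fun g u v h => by
      show U (g • u) = U (g • v)
      ext k
      rw [hUsmul, hUsmul, show U u = U v from h]
    rcases Cfsg.Agent.Perm.eq_or_all_of_invariant_equivalence r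
      ⟨fun _ => rfl, fun {_ _} h => h.symm, fun {_ _ _} h h' => h.trans h'⟩ hr with h | h
    · exact hxa (h a x heq).symm
    · set P : Sylow 2 G := default
      obtain ⟨z, hz⟩ := Set.nonempty_of_ncard_ne_zero
        (s := (pts (P : Subgroup G) : Set α)) (by rw [← fixCount_eq P]; omega)
      have hall : (pts (P : Subgroup G) : Set α) = Set.univ := Set.eq_univ_of_forall fun w g hg => by
        have h2 : g ∈ U z := le_pGen_of_isPGroup P.isPGroup' hz hg
        rw [show U z = U w from h z w] at h2
        exact hUle w h2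
      rw [fixCount_eq P, hall, Set.ncard_univ] at hfn
      omega
  -- any two points are fixed by a common Sylow subgroup
  have hpair : ∀ a x : α, x ≠ a → ∃ P : Sylow 2 G, a ∈ pts (P : Subgroup G) ∧ x ∈ pts (P : Subgroup G) := by
    intro a x hxa
    set Q : Sylow 2 G := default
    obtain ⟨z, hz⟩ := Set.nonempty_of_ncard_ne_zero
      (s := (pts (Q : Subgroup G) : Set α)) (by rw [← fixCount_eq Q]; omega)
    obtain ⟨g, rfl⟩ := exists_smul_eq G z a
    set P : Sylow 2 G := g • Q
    have haP : g • z ∈ pts (P : Subgroup G) := by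
      rw [pts_smul_sylow]; exact Set.smul_mem_smul_set hz
    set K := U (g • z)
    have hPK : (P : Subgroup G) ≤ K := le_pGen_of_isPGroup P.isPGroup' haP
    have hK : IsGen 2 ↥K := isGen_pGen _
    have hst : ∀ k ∈ K, ∀ w ∈ ({g • z}ᶜ : Set α), k • w ∈ ({g • z}ᶜ : Set α) := fun k hk w hw h =>
      hw (MulAction.injective k (h.trans (hUle _ hk).symm))
    obtain ⟨t, ht, ht', hsum⟩ := dset_eq_sum_orbits (p := 2) (P : Subgroup G) K hst
    have hnn : ∀ o ∈ t, 0 ≤ dset 2 (P : Subgroup G) o := by
      intro o ho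
      obtain ⟨w, hw, rfl⟩ := ht o ho
      rw [← defect_orbit P hPK w]
      obtain ⟨k, hk, hkw⟩ := hmove _ w hw
      have hsub : (orbit K w : Set α) ⊆ {g • z}ᶜ := by
        rintro _ ⟨k, rfl⟩; exact hst k k.2 w hw
      refine ih _ ?_ rfl hK ?_
      · rw [Nat.card_coe_set_eq]
        refine lt_of_le_of_lt (Set.ncard_le_ncard hsub) ?_
        rw [Set.ncard_compl, Set.ncard_singleton]
        omega
      · rw [Nat.card_coe_set_eq]
        exact (Set.one_lt_ncard (Set.toFinite _)).2
          ⟨k • w, ⟨⟨k, hk⟩, rfl⟩, w, mem_orbit_self w, hkw⟩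
    have htot : dset 2 (P : Subgroup G) ({g • z}ᶜ : Set α) ≤ 0 := by
      have h2 := defect_eq_dset (α := α) P
      rw [← Set.union_compl_self ({g • z} : Set α), dset_union _ disjoint_compl_right,
        dset_singleton_of_mem haP] at h2
      push_cast at h2
      linarith
    have hx0 : dset 2 (P : Subgroup G) (orbit K x : Set α) ≤ 0 :=
      le_trans (Finset.single_le_sum hnn (ht' x hxa)) (hsum ▸ htot)
    have hpos : 0 < (orbit K x : Set α).ncard := (Set.ncard_pos).2 ⟨x, mem_orbit_self x⟩
    obtain ⟨w, ⟨⟨k, hk⟩, rfl⟩, hwP⟩ : ((orbit K x : Set α) ∩ pts (P : Subgroup G)).Nonempty := by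
      refine Set.nonempty_of_ncard_ne_zero fun h => ?_
      rw [dset, h] at hx0
      push_cast at hx0
      omega
    refine ⟨k⁻¹ • P, ?_, ?_⟩
    · rw [pts_smul_sylow, Set.mem_inv_smul_set_iff, show k • g • z = g • z from hUle _ hk]
      exact haP
    · rw [pts_smul_sylow, Set.mem_inv_smul_set_iff]; exact hwP
  -- a `2`-element interchanging two points
  obtain ⟨h, j, hj, x, hx⟩ : ∃ (h : G) (j : ℕ), h ^ 2 ^ j = 1 ∧ ∃ x : α, h • x ≠ x := by
    by_contra hcon
    push Not at hcon
    obtain ⟨a, b, hab⟩ := Finite.one_lt_card_iff_nontrivial.1 h1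
    obtain ⟨g, hg⟩ := exists_smul_eq G a b
    have hall : (⊤ : Subgroup G) ≤ stabilizer G a := by
      rw [← show pGen 2 (⊤ : Subgroup G) = ⊤ from hgen]
      exact (Subgroup.closure_le _).2 fun k hk => hcon k hk.2.choose hk.2.choose_spec a
    exact hab ((hall (Subgroup.mem_top g) : g • a = a).symm.trans hg)
  have hex : ∃ i, h ^ 2 ^ i • x = x := ⟨j, by rw [hj, one_smul]⟩
  classical
  set m := Nat.find hex with hm
  have hm0 : m ≠ 0 := fun h0 => hx (by
    have := Nat.find_spec hex
    rw [← hm, h0, pow_zero, pow_one] at this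
    exact this)
  set g := h ^ 2 ^ (m - 1) with hg
  have hgx : g • x ≠ x := Nat.find_min hex (show m - 1 < Nat.find hex by omega)
  have hggx : g • g • x = x := by
    rw [← mul_smul, hg, ← pow_add, ← two_mul, ← pow_succ', show m - 1 + 1 = m by omega]
    exact Nat.find_spec hex
  obtain ⟨Q, hxQ, hyQ⟩ := hpair x (g • x) hgx
  set A := stabilizer G x ⊓ stabilizer G (g • x) with hA
  have hgA : g ∈ Subgroup.normalizer (A : Set G) := by
    refine Subgroup.mem_normalizer_fintype fun k hk => ⟨?_, ?_⟩
    · show (g * k * g⁻¹) • x = x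
      rw [mul_smul, mul_smul, inv_smul_eq_iff.2 hggx.symm, show k • g • x = g • x from hk.2, hggx]
    · show (g * k * g⁻¹) • g • x = g • x
      rw [mul_smul, mul_smul, inv_smul_smul, show k • x = x from hk.1]
  obtain ⟨R, hR, hgR⟩ := exists_sylow_mem Q ((le_inf hxQ hyQ).trans Subgroup.le_normalizer) hgA
    (k := j) (by rw [hg, ← pow_mul, mul_comm, pow_mul, hj, one_pow])
  obtain ⟨c, hc, hcQ⟩ := exists_conj_of_le Q R ((le_inf hxQ hyQ).trans Subgroup.le_normalizer) hR
  rw [← hcQ, sylow_smul_coe, Subgroup.mem_pointwise_smul_iff_inv_smul_mem] at hgR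
  have h5 : c⁻¹ * g * c ∈ A := by
    have := (le_inf hxQ hyQ : (Q : Subgroup G) ≤ A) hgR
    rwa [MulAut.smul_def, MulAut.conj_inv_apply] at this
  have h6 : g ∈ A := by
    have := (Subgroup.mem_normalizer_iff.1 hc _).1 h5
    rwa [show c * (c⁻¹ * g * c) * c⁻¹ = g by group] at this
  exact hgx h6.1

variable {p : ℕ} [Fact p.Prime]

/-- Every non-trivial transitive action of a group generated by `p`-elements has non-negative
defect. -/
theorem defect_nonneg {G : Type u} [Group G] [Finite G] {α : Type} [MulAction G α] [Finite α]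
    [IsPretransitive G α] (hgen : IsGen p G) (h : 1 < Nat.card α) : 0 ≤ defect p G α := by
  rcases Nat.lt_or_ge p 3 with hp | hp
  · obtain rfl : p = 2 := by have := (Fact.out : p.Prime).two_le; omega
    exact defect_nonneg_two (G := G) _ rfl hgen h
  · exact defect_nonneg_of_main (mainBelow hp (Nat.card α + 1)) (Nat.lt_succ_self _) hgen h

/-- A Sylow `p`-subgroup fixes at most `(p - 1) / (2 p - 1)` of the points. -/
theorem fix_bound {G : Type u} [Group G] [Finite G] {α : Type v} [MulAction G α] [Finite α]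
    [IsPretransitive G α] (hgen : IsGen p G) (h : 1 < Nat.card α) (P : Sylow p G) :
    (2 * p - 1) * (pts (P : Subgroup G) : Set α).ncard ≤ (p - 1) * Nat.card α := by
  rw [← fixCount_eq P]
  let e := Finite.equivFin α
  letI : MulAction G (Fin (Nat.card α)) :=
    MulAction.compHom _ ((e.permCongrHom.toMonoidHom).comp (toPermHom G α))
  have he : ∀ (g : G) (x : α), e (g • x) = g • e x := fun g x => by
    show e (g • x) = e.permCongrHom (toPermHom G α g) (e x)
    simp [Equiv.permCongrHom]
  haveI : IsPretransitive G (Fin (Nat.card α)) := ⟨fun i j => by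
    obtain ⟨g, hg⟩ := exists_smul_eq G (e.symm i) (e.symm j)
    refine ⟨g, e.symm.injective ?_⟩
    rw [← hg, e.eq_symm_apply.2 (he g (e.symm i)), e.apply_symm_apply]⟩
  have h2 : 0 ≤ defect p G (Fin (Nat.card α)) := defect_nonneg hgen (by rwa [Nat.card_fin])
  rw [← defect_congr e he, defect] at h2
  have hp := (Fact.out : p.Prime).two_le
  obtain ⟨q, rfl⟩ : ∃ q, p = q + 2 := ⟨p - 2, by omega⟩
  rw [show 2 * (q + 2) - 1 = 2 * q + 3 by omega, show q + 2 - 1 = q + 1 by omega]
  push_cast at h2
  zify
  linarith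

end Cfsg.Agent.HalfFix
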