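import Cfsg.Agent.Lib.HalfFix.Class

/-!
# A counterexample to the main lemma and the inductive statement

`TransUpTo p G α t`: for every set `X` of at most `t` points fixed by a Sylow subgroup the subgroup
generated by the `p`-elements fixing `X` is transitive on the other points.
-/

set_option autoImplicit false

namespace Cfsg.Agent.HalfFix

open MulAction Equiv
open scoped Pointwise

universe u

/-- A counterexample to the main lemma with all smaller cases known. -/
structure Counter (p : ℕ) [Fact p.Prime] (G : Type u) [Group G] [Finite G] (α : Type)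
    [MulAction G α] : Prop where
  three : 3 ≤ p
  gen : IsGen p G
  prim : IsPreprimitive G α
  one_lt : 1 < Nat.card α
  big : p ≤ fixCount p G α
  small : defect p G α ≤ (p : ℤ) * ((p : ℤ) - 2)
  main : MainBelow.{u} p (Nat.card α)

variable (p : ℕ) {G : Type u} [Group G] {α : Type} [MulAction G α]

/-- The subgroup generated by the `p`-elements fixing `X` pointwise. -/
def hOf (X : Set α) : Subgroup G := pGen p (fixingSubgroup G X)

variable (G α) in
/-- Multiple transitivity through the subgroups generated by `p`-elements. -/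
def TransUpTo (t : ℕ) : Prop :=
  ∀ X : Set α, X.ncard ≤ t → (∃ P : Sylow p G, X ⊆ pts (P : Subgroup G)) →
    TransOn (hOf (G := G) p X) Xᶜ

/-- The Sylow subgroups fixing `Z` pointwise. -/
def sylFix (Z : Set α) : Set (Sylow p G) := {P | Z ⊆ pts (P : Subgroup G)}

variable {p}

theorem hOf_fix {X : Set α} {g : G} (hg : g ∈ hOf p X) {x : α} (hx : x ∈ X) : g • x = x :=
  (mem_fixingSubgroup_iff G).1 (pGen_le _ hg) x hx

theorem hOf_stable {X : Set α} {g : G} (hg : g ∈ hOf p X) {x : α} (hx : x ∈ Xᶜ) : g • x ∈ Xᶜ :=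
  fun h => hx (by
    have := hOf_fix ((hOf (G := G) p X).inv_mem hg) h
    rw [inv_smul_smul] at this
    exact this ▸ h)

theorem pGen_hOf (X : Set α) : pGen p (hOf (G := G) p X) = hOf p X := pGen_idem _

theorem le_hOf_iff (X : Set α) (P : Sylow p G) :
    (P : Subgroup G) ≤ hOf p X ↔ X ⊆ pts (P : Subgroup G) :=
  ⟨fun h _ hx _ hg => hOf_fix (h hg) hx,
    fun h => le_pGen_of_isPGroup P.isPGroup' fun g hg => (mem_fixingSubgroup_iff G).2 fun _ hx => h hx g hg⟩

theorem hOf_mono {X Y : Set α} (h : X ⊆ Y) : hOf (G := G) p Y ≤ hOf p X :=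
  pGen_mono fun _ hg => (mem_fixingSubgroup_iff G).2 fun _ hx => (mem_fixingSubgroup_iff G).1 hg _ (h hx)

theorem dset_of_subset [Finite α] {S : Subgroup G} {X : Set α} (hX : X ⊆ pts S) :
    dset p S X = -(p : ℤ) * X.ncard := by
  rw [dset, Set.inter_eq_left.2 hX]
  ring

theorem dset_compl [Finite α] {S : Subgroup G} {X : Set α} (hX : X ⊆ pts S) :
    dset p S Xᶜ = dset p S (Set.univ : Set α) + (p : ℤ) * X.ncard := by
  rw [← Set.union_compl_self X, dset_union S disjoint_compl_right, dset_of_subset hX]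
  ring

theorem ncard_pts_inter_compl [Finite α] {S : Subgroup G} {X : Set α} (hX : X ⊆ pts S) :
    (Xᶜ ∩ pts S).ncard = (pts S : Set α).ncard - X.ncard := by
  rw [Set.inter_comm, ← Set.sdiff_eq, Set.ncard_sdiff hX]

variable [Finite G] [Fact p.Prime]

theorem fixCount_orbit {K : Subgroup G} (P : Sylow p G) (hP : (P : Subgroup G) ≤ K) (b : α) :
    fixCount p ↥K ↥(orbit K b) = ((orbit K b : Set α) ∩ pts (P : Subgroup G)).ncard := by
  rw [fixCount_eq (P.subtype hP), ← Set.ncard_image_of_injective _ Subtype.val_injective]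
  congr 1
  ext x
  constructor
  · rintro ⟨y, hy, rfl⟩
    exact ⟨y.2, fun g hg => congrArg Subtype.val (hy ⟨g, hP hg⟩ hg)⟩
  · rintro ⟨hx, hx'⟩
    exact ⟨⟨x, hx⟩, fun g hg => Subtype.ext (hx' g hg), rfl⟩

theorem sylFix_smul (g : G) (Z : Set α) : sylFix (G := G) p (g • Z) = (g • ·) '' sylFix p Z := by
  ext P
  constructor
  · intro h
    refine ⟨g⁻¹ • P, ?_, smul_inv_smul g P⟩
    intro z hz
    rw [pts_smul_sylow, Set.mem_inv_smul_set_iff]
    exact h (Set.smul_mem_smul_set hz)
  · rintro ⟨Q, hQ, rfl⟩ _ ⟨z, hz, rfl⟩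
    rw [pts_smul_sylow]
    exact Set.smul_mem_smul_set (hQ hz)

theorem ncard_sylFix_smul (g : G) (Z : Set α) :
    (sylFix (G := G) p (g • Z)).ncard = (sylFix (G := G) p Z).ncard := by
  rw [sylFix_smul, Set.ncard_image_of_injective _ (MulAction.injective g)]

namespace Counter

variable [Finite α] (hC : Counter p G α)

include hC

theorem ne_two : p ≠ 2 := by have := hC.three; omega

theorem pts_ncard (P : Sylow p G) : (pts (P : Subgroup G) : Set α).ncard = fixCount p G α :=
  (fixCount_eq P).symm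

theorem univ_small (P : Sylow p G) :
    dset p (P : Subgroup G) (Set.univ : Set α) ≤ (p : ℤ) * ((p : ℤ) - 2) := by
  rw [← defect_eq_dset P]; exact hC.small

theorem transUpTo_zero : TransUpTo p G α 0 := by
  intro X hX _
  obtain rfl : X = ∅ := (Set.ncard_eq_zero).1 (Nat.le_zero.1 hX)
  intro x _ y _
  haveI := hC.prim
  obtain ⟨g, hg⟩ := exists_smul_eq G x y
  refine ⟨g, ?_, hg⟩
  rw [hOf, show fixingSubgroup G (∅ : Set α) = ⊤ from
    eq_top_iff.2 fun g _ => (mem_fixingSubgroup_iff G).2 fun x hx => hx.elim,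
    show pGen p (⊤ : Subgroup G) = ⊤ from hC.gen]
  trivial

variable {t : ℕ} (ht : TransUpTo p G α t)

include ht

/-- No number `f - i` with `i ≤ t` is divisible by `p`. -/
theorem not_dvd {i : ℕ} (hi : i ≤ t) (hif : i < fixCount p G α) :
    ¬ p ∣ fixCount p G α - i := by
  set P : Sylow p G := default
  obtain ⟨X, hXP, hXc⟩ := Set.exists_subset_card_eq (s := (pts (P : Subgroup G) : Set α)) (n := i)
    (by rw [hC.pts_ncard]; omega)
  obtain ⟨a, ha, haX⟩ : ∃ a ∈ (pts (P : Subgroup G) : Set α), a ∉ X := by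
    by_contra h
    push Not at h
    have := Set.ncard_le_ncard h
    rw [hC.pts_ncard] at this
    omega
  set H := hOf (G := G) p X
  have htr := ht X (by omega) ⟨P, hXP⟩
  have horb : (orbit H a : Set α) = Xᶜ := by
    ext y
    refine ⟨?_, fun hy => ?_⟩
    · rintro ⟨h, rfl⟩; exact hOf_stable h.2 haX
    · obtain ⟨h, hh, rfl⟩ := htr a haX y hy
      exact ⟨⟨h, hh⟩, rfl⟩
  have hPH : (P : Subgroup G) ≤ H := (le_hOf_iff X P).2 hXP
  have hf : fixCount p ↥H ↥(orbit H a) = fixCount p G α - i := by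
    rw [fixCount_orbit P hPH, horb, ncard_pts_inter_compl hXP, hC.pts_ncard, hXc]
  rw [← hf]
  exact not_dvd_fixCount (by rw [hf]; omega)

theorem succ_p_le (htp : t < p) : p + 1 + t ≤ fixCount p G α := by
  by_contra h
  have hb := hC.big
  refine hC.not_dvd ht (i := fixCount p G α - p) (by omega)
    (by have := (Fact.out : p.Prime).pos; omega) ?_
  rw [Nat.sub_sub_self hb]

/-- Any two sets of the same size at most `t + 1` are conjugate. -/
theorem exists_smul_set (htp : t < p) : ∀ (m : ℕ), m ≤ t + 1 → ∀ (Z Z' : Set α), Z.ncard = m →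
    Z'.ncard = m → ∃ g : G, g • Z = Z' := by
  intro m
  induction m with
  | zero =>
    intro _ Z Z' hZ hZ'
    exact ⟨1, by rw [(Set.ncard_eq_zero).1 hZ, (Set.ncard_eq_zero).1 hZ', one_smul]⟩
  | succ m ih =>
    intro hm Z Z' hZ hZ'
    obtain ⟨z, hz⟩ := Set.nonempty_of_ncard_ne_zero (s := Z) (by omega)
    obtain ⟨z', hz'⟩ := Set.nonempty_of_ncard_ne_zero (s := Z') (by omega)
    have h1 : (Z \ {z}).ncard = m := by rw [Set.ncard_sdiff_singleton_of_mem hz, hZ]; omega
    have h1' : (Z' \ {z'}).ncard = m := by rw [Set.ncard_sdiff_singleton_of_mem hz', hZ']; omega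
    obtain ⟨g, hg⟩ := ih (by omega) _ _ h1 h1'
    -- the set `Z' \ {z'}` is covered
    set P : Sylow p G := default
    obtain ⟨X, hXP, hXc⟩ := Set.exists_subset_card_eq (s := (pts (P : Subgroup G) : Set α)) (n := m)
      (by rw [hC.pts_ncard]; have := hC.big; omega)
    obtain ⟨c, hc⟩ := ih (by omega) X _ hXc h1'
    have hcov : Z' \ {z'} ⊆ pts ((c • P : Sylow p G) : Subgroup G) := by
      rw [← hc, pts_smul_sylow]; exact Set.smul_set_mono hXP
    have hgz : g • z ∈ (Z' \ {z'})ᶜ := by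
      rw [← hg]
      intro h
      rw [Set.smul_mem_smul_set_iff] at h
      exact h.2 rfl
    obtain ⟨h, hh, hhz⟩ :=
      ht _ (by omega) ⟨_, hcov⟩ (g • z) hgz z' (fun h => h.2 rfl)
    refine ⟨h * g, ?_⟩
    have hfix : h • (Z' \ {z'}) = Z' \ {z'} := by
      ext w
      constructor
      · rintro ⟨v, hv, rfl⟩; show h • v ∈ _; rw [hOf_fix hh hv]; exact hv
      · intro hw; exact ⟨w, hw, hOf_fix hh hw⟩
    rw [← Set.insert_sdiff_self_of_mem hz, ← Set.insert_sdiff_self_of_mem hz', Set.smul_set_insert,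
      mul_smul, mul_smul, hg, hfix, hhz]

/-- Every set of at most `t + 1` points is fixed by a Sylow subgroup. -/
theorem sylFix_nonempty (htp : t < p) {Z : Set α} (hZ : Z.ncard ≤ t + 1) :
    (sylFix (G := G) p Z).Nonempty := by
  set P : Sylow p G := default
  have := hC.succ_p_le ht htp
  obtain ⟨X, hXP, hXc⟩ := Set.exists_subset_card_eq (s := (pts (P : Subgroup G) : Set α))
    (n := Z.ncard) (by rw [hC.pts_ncard]; omega)
  obtain ⟨g, rfl⟩ := hC.exists_smul_set ht htp _ hZ X Z hXc rfl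
  exact ⟨g • P, by
    show g • X ⊆ pts _
    rw [pts_smul_sylow]; exact Set.smul_set_mono hXP⟩

theorem sylFix_ncard_eq (htp : t < p) {Z Z' : Set α} (hZ : Z.ncard = t + 1)
    (hZ' : Z'.ncard = t + 1) :
    (sylFix (G := G) p Z).ncard = (sylFix (G := G) p Z').ncard := by
  obtain ⟨g, rfl⟩ := hC.exists_smul_set ht htp _ le_rfl Z Z' hZ hZ'
  exact (ncard_sylFix_smul g Z).symm

theorem sylFix_eq_of_subset (htp : t < p) {Z Z' : Set α} (hZ : Z.ncard = t + 1)
    (hZ' : Z'.ncard = t + 1) (h : sylFix (G := G) p Z ⊆ sylFix p Z') :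
    sylFix (G := G) p Z = sylFix p Z' :=
  Set.eq_of_subset_of_ncard_le h (hC.sylFix_ncard_eq ht htp hZ' hZ).le

theorem transOn_hOf (htp : t < p) {X : Set α} (hX : X.ncard ≤ t) :
    TransOn (hOf (G := G) p X) Xᶜ := by
  obtain ⟨P, hP⟩ := hC.sylFix_nonempty ht htp (Z := X) (by omega)
  exact ht X hX ⟨P, hP⟩

end Counter

end Cfsg.Agent.HalfFix
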