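import Cfsg.Agent.Lib.HalfFix.Kernels
import Mathlib.GroupTheory.GroupAction.MultipleTransitivity

/-!
# Sylow subgroups fixing two given blocks and moving a third
-/

set_option autoImplicit false

namespace Cfsg.Agent.HalfFix

open MulAction Equiv
open scoped Pointwise

universe u v

variable {p : ℕ} [Fact p.Prime] {G : Type u} [Group G] [Finite G] {α : Type v} [MulAction G α]
  {K : Subgroup G} {O : Set α} {N F : ℕ}

theorem exists_alt_triple (h5 : 5 ≤ N) {a b c i j k : Fin N} (hab : a ≠ b) (hac : a ≠ c)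
    (hbc : b ≠ c) (hij : i ≠ j) (hik : i ≠ k) (hjk : j ≠ k) :
    ∃ g ∈ alternatingGroup (Fin N), g a = i ∧ g b = j ∧ g c = k := by
  haveI := alternatingGroup.isMultiplyPretransitive (Fin N)
  haveI : IsMultiplyPretransitive (alternatingGroup (Fin N)) (Fin N) 3 :=
    isMultiplyPretransitive_of_le (n := Nat.card (Fin N) - 2)
      (by rw [Nat.card_fin]; omega) (Nat.sub_le _ 2)
  have hu : Function.Injective ![a, b, c] := by
    intro x y h
    fin_cases x <;> fin_cases y <;> simp_all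
  have hv : Function.Injective ![i, j, k] := by
    intro x y h
    fin_cases x <;> fin_cases y <;> simp_all
  obtain ⟨g, hg⟩ := exists_smul_eq (alternatingGroup (Fin N))
    (⟨![a, b, c], hu⟩ : Fin 3 ↪ Fin N) ⟨![i, j, k], hv⟩
  refine ⟨g, g.2, ?_, ?_, ?_⟩
  · simpa using! congrArg (fun e : Fin 3 ↪ Fin N => e 0) hg
  · simpa using! congrArg (fun e : Fin 3 ↪ Fin N => e 1) hg
  · simpa using! congrArg (fun e : Fin 3 ↪ Fin N => e 2) hg

namespace OType

variable (T : OType p K O N F)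

theorem smul_blkFix (k : ↥K) (S : Sylow p G) (hS : (S : Subgroup G) ≤ K) {i : Fin N}
    (hi : i ∈ T.blkFix S) : T.act k i ∈ T.blkFix ((k : G) • S : Sylow p G) := by
  intro m hm
  rw [sylow_smul_coe, Subgroup.mem_pointwise_smul_iff_inv_smul_mem] at hm
  have h1 := hi (k⁻¹ * m * k) (by simpa [MulAut.smul_def, MulAut.conj_inv_apply] using hm)
  rw [map_mul, map_mul, map_inv, Perm.mul_apply, Perm.mul_apply, Perm.inv_eq_iff_eq] at h1
  exact h1

theorem exists_sylow_fix_move (hp : p ≠ 2) (hA : T.IsA) {i j k : Fin N} (hki : k ≠ i)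
    (hkj : k ≠ j) : ∃ P : Sylow p G, (P : Subgroup G) ≤ K ∧ i ∈ T.blkFix P ∧ j ∈ T.blkFix P ∧
      k ∉ T.blkFix P := by
  classical
  have h5 := T.five_le hp hA
  have hF := AltCond.two_le (p := p) (F := F) hA
  -- make `i` and `j` distinct
  obtain ⟨j', hj'i, hj'k, hjj'⟩ : ∃ j', j' ≠ i ∧ j' ≠ k ∧ (j ≠ i → j' = j) := by
    by_cases h : j = i
    · obtain ⟨m, hm⟩ : ∃ m, m ∉ ({i, k} : Finset (Fin N)) := by
        by_contra hcon
        push Not at hcon
        have h1 := Finset.card_le_card (fun m _ => hcon m : (Finset.univ : Finset (Fin N)) ⊆ _)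
        have h2 := Finset.card_le_two (a := i) (b := k)
        rw [Finset.card_univ, Fintype.card_fin] at h1
        omega
      simp only [Finset.mem_insert, Finset.mem_singleton, not_or] at hm
      exact ⟨m, hm.1, hm.2, fun h' => absurd h h'⟩
    · exact ⟨j, h, hkj.symm, fun _ => rfl⟩
  obtain ⟨P₀, hP₀⟩ := T.sylow
  obtain ⟨c, hc, hord, -, hfix⟩ := T.exists_cycle P₀ hP₀
  obtain ⟨a, ha, b, hb, hab⟩ := (Set.one_lt_ncard (Set.toFinite _)).1
    (show 1 < (T.blkFix P₀).ncard by rw [blkFix, T.fix_blk P₀ hP₀]; omega)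
  obtain ⟨m, hm⟩ : ∃ m, T.act c m ≠ m :=
    ((isCycle_of_orderOf hord T.lt_two_mul).1).imp fun _ h => h.1
  have hm' : m ∉ T.blkFix P₀ := fun h => hm ((hfix m).1 h)
  obtain ⟨g, hg, hga, hgb, hgm⟩ := exists_alt_triple h5 hab (fun h : a = m => hm' (h ▸ ha))
    (fun h : b = m => hm' (h ▸ hb)) hj'i.symm hki.symm hj'k
  obtain ⟨x, rfl⟩ : g ∈ T.act.range := (T.range_eq_alt hp hA).symm ▸ hg
  refine ⟨(x : G) • P₀, Sylow.smul_le hP₀ x, hga ▸ T.smul_blkFix x P₀ hP₀ ha, ?_, fun h => hm' ?_⟩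
  · by_cases h : j = i
    · rw [h, ← hga]; exact T.smul_blkFix x P₀ hP₀ ha
    · rw [← hjj' h, ← hgb]; exact T.smul_blkFix x P₀ hP₀ hb
  · have h1 := T.smul_blkFix x⁻¹ ((x : G) • P₀) (Sylow.smul_le hP₀ x) h
    rw [Subgroup.coe_inv, inv_smul_smul, ← hgm, map_inv, Perm.inv_def, Equiv.symm_apply_apply] at h1
    exact h1

end OType

end Cfsg.Agent.HalfFix
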