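import Cfsg.Agent.Lib.HalfFix.Counter
import Cfsg.Agent.Lib.HalfFix.Move
import Cfsg.Agent.Lib.Perm.Regular

/-!
# The stabilizer of `t` points is primitive on the rest
-/

set_option autoImplicit false

namespace Cfsg.Agent.HalfFix

open MulAction Equiv
open scoped Pointwise

universe u v

variable {p : ℕ} [Fact p.Prime] {G : Type u} [Group G] [Finite G]

/-- A type with singleton blocks makes the action on the orbit primitive. -/
theorem OType.isPreprimitive_of_e {α : Type v} [MulAction G α] [Finite α] {K : Subgroup G} {b : α}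
    {N F : ℕ} (T : OType p K (orbit K b) N F) (he : T.e = 1) : IsPreprimitive K (orbit K b) := by
  obtain ⟨P, hP⟩ := T.sylow
  obtain ⟨c, -, hord, -⟩ := T.exists_cycle P hP
  haveI := T.range_trans
  haveI := isPreprimitive_of_orderOf T.act.range ⟨c, rfl⟩ hord T.lt_two_mul
  letI : MulAction ↥K (Fin N) := MulAction.compHom (Fin N) T.act
  have hinj : Function.Injective fun z : orbit K b => T.π z := by
    intro z z' h
    refine Subtype.ext ((Set.ncard_le_one (Set.toFinite _)).1 (?_ : ((orbit K b : Set α) ∩ T.π ⁻¹' {T.π z}).ncard ≤ 1)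
      _ ⟨z.2, rfl⟩ _ ⟨z'.2, h.symm⟩)
    rw [T.fibre_ncard, he]
  let f : orbit K b ≃ Fin N := Equiv.ofBijective _ ⟨hinj, fun i => by
    obtain ⟨z, hz, rfl⟩ := T.surj i
    exact ⟨⟨z, hz⟩, rfl⟩⟩
  let g : orbit K b →ₑ[T.act.rangeRestrict] Fin N :=
    { toFun := f
      map_smul' := fun k z => T.map_smul k z z.2 }
  haveI : IsPreprimitive T.act.range (Fin N) := ‹_›
  exact (isPreprimitive_congr (f := g) T.act.rangeRestrict_surjective f.bijective).2 ‹_›

variable {α : Type} [MulAction G α]

theorem orbit_hOf {X : Set α} (htr : TransOn (hOf (G := G) p X) Xᶜ) {a : α} (ha : a ∉ X) :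
    (orbit (hOf (G := G) p X) a : Set α) = Xᶜ := by
  ext y
  refine ⟨?_, fun hy => ?_⟩
  · rintro ⟨h, rfl⟩; exact hOf_stable h.2 ha
  · obtain ⟨h, hh, rfl⟩ := htr a ha y hy
    exact ⟨⟨h, hh⟩, rfl⟩

variable [Finite α]

namespace Counter

variable (hC : Counter p G α)

include hC

/-- The subgroup fixing at most `p - 2` points is primitive on the others. -/
theorem isPreprimitive_hOf {t : ℕ} (ht : TransUpTo p G α t) (htp : t + 2 ≤ p) {X : Set α}
    (hX : X.ncard = t) {a : α} (ha : a ∉ X) :
    IsPreprimitive (hOf (G := G) p X) (orbit (hOf (G := G) p X) a) := by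
  have hpp := (Fact.out : p.Prime).two_le
  set H := hOf (G := G) p X with hH
  have horb : (orbit H a : Set α) = Xᶜ := orbit_hOf (hC.transOn_hOf ht (by omega) hX.le) ha
  rcases Nat.eq_zero_or_pos t with rfl | ht0
  · obtain rfl : X = ∅ := (Set.ncard_eq_zero).1 hX
    have htop : H = ⊤ := by
      rw [hH, hOf, show fixingSubgroup G (∅ : Set α) = ⊤ from
        eq_top_iff.2 fun g _ => (mem_fixingSubgroup_iff G).2 fun x hx => hx.elim]
      exact hC.gen
    have hsurj : Function.Surjective H.subtype := fun g =>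
      ⟨⟨g, by rw [htop]; trivial⟩, rfl⟩
    let f : orbit H a →ₑ[H.subtype] α :=
      { toFun := Subtype.val
        map_smul' := fun _ _ => rfl }
    exact (isPreprimitive_congr (f := f) hsurj ⟨Subtype.val_injective,
      fun x => ⟨⟨x, by rw [horb]; simp⟩, rfl⟩⟩).2 hC.prim
  obtain ⟨P, hPX⟩ := hC.sylFix_nonempty ht (by omega) (Z := X) (by omega)
  have hPH : (P : Subgroup G) ≤ H := (le_hOf_iff X P).2 hPX
  have hD : dset p (P : Subgroup G) (orbit H a : Set α) ≤ (p : ℤ) * (2 * (p : ℤ) - 4) := by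
    rw [horb, dset_compl hPX, hX]
    have h1 := hC.univ_small P
    have h2 : (t : ℤ) ≤ (p : ℤ) - 2 := by omega
    have := mul_le_mul_of_nonneg_left h2 (show (0 : ℤ) ≤ p by positivity)
    linarith
  have hlt : (orbit H a : Set α).ncard < Nat.card α := by
    rw [horb, Set.ncard_compl, hX]
    have : 0 < Nat.card α := by have := hC.one_lt; omega
    omega
  have hf := hC.succ_p_le ht (by omega)
  have h1 : 1 < (orbit H a : Set α).ncard := by
    rw [horb, Set.ncard_compl, hX]
    have := fixCount_le (p := p) (G := G) (α := α)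
    omega
  rcases classify_orbit hC.main hC.three (pGen_hOf X) P hPH a hlt h1
      (hD.trans (by nlinarith)) with ⟨N, F, ⟨T⟩⟩ | ⟨h, -⟩
  swap
  · exact h
  by_cases he : T.e = 1
  · exact T.isPreprimitive_of_e he
  exfalso
  have he2 : 2 ≤ T.e := by have := T.e_pos; omega
  have hfix : T.e * F = fixCount p G α - t := by
    rw [← T.ncard_fix P hPH, horb, ncard_pts_inter_compl hPX, hC.pts_ncard, hX]
  have hF2 : 2 ≤ F := by
    by_contra h
    have hF : F = 1 := by have := T.F_pos; omega
    have h2 : (T.e : ℤ) * p * ((p : ℤ) - 1 - F) ≤ (p : ℤ) * (2 * (p : ℤ) - 4) := T.dset_eq P hPH ▸ hD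
    subst hF
    have h3 : T.e ≤ 2 := by
      by_contra h4
      have h5 : (3 : ℤ) ≤ T.e := by exact_mod_cast (show 3 ≤ T.e by omega)
      have hp3 : (3 : ℤ) ≤ p := by exact_mod_cast hC.three
      have := mul_le_mul_of_nonneg_right h5
        (show (0 : ℤ) ≤ (p : ℤ) * ((p : ℤ) - 2) by nlinarith)
      push_cast at h2
      nlinarith
    omega
  have hsame : ∀ (Q : Sylow p G), X ⊆ pts (Q : Subgroup G) → ∀ z ∈ (Xᶜ : Set α),
      (T.π z ∈ T.blkFix (Q : Subgroup G) ↔ z ∈ pts (Q : Subgroup G)) := by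
    intro Q hQ z hz
    have hQH : (Q : Subgroup G) ≤ H := (le_hOf_iff X Q).2 hQ
    refine ⟨T.fixed Q hQH z (horb ▸ hz), fun h k hk => ?_⟩
    rw [← T.map_smul k z (horb ▸ hz), h _ hk]
  -- a block other than that of `y` is moved by some Sylow subgroup fixing `y`
  haveI := T.range_trans
  obtain ⟨c, -, hord, -⟩ := T.exists_cycle P hPH
  haveI := isPreprimitive_of_orderOf T.act.range ⟨c, rfl⟩ hord T.lt_two_mul
  let r : Fin N → Fin N → Prop := fun i j =>
    ∀ Q : Sylow p G, (Q : Subgroup G) ≤ H → i ∈ T.blkFix Q → j ∈ T.blkFix Q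
  have hr_smul : ∀ (g : T.act.range) (i j : Fin N), r i j → r (g • i) (g • j) := by
    rintro ⟨_, k, rfl⟩ i j hij Q hQ hi
    have h2 := hij ((k : G)⁻¹ • Q : Sylow p G) (Sylow.smul_le hQ k⁻¹) (by
      have := T.smul_blkFix k⁻¹ Q hQ hi
      rw [map_inv] at this
      simpa [smul_fin_eq] using this)
    have h3 := T.smul_blkFix k _ (Sylow.smul_le hQ k⁻¹) h2
    have h4 : T.act k j ∈ T.blkFix ((k : G) • ((k : G)⁻¹ • Q) : Sylow p G) := h3
    rw [smul_inv_smul] at h4
    exact h4
  have hrefl : ∀ i, r i i := fun i Q _ h => h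
  have htrans : ∀ i j k, r i j → r j k → r i k := fun i j k h1 h2 Q hQ h => h2 Q hQ (h1 Q hQ h)
  have hsymm : ∀ i j, r i j → r j i := by
    intro i j hij
    have hcard : ∀ (g : T.act.range) (i : Fin N), {k | r (g • i) k}.ncard = {k | r i k}.ncard := by
      intro g i
      rw [← ncard_smul_set g {k | r i k}]
      congr 1
      ext k
      rw [Set.mem_smul_set_iff_inv_smul_mem]
      exact ⟨fun h => by simpa using hr_smul g⁻¹ _ _ h, fun h => by simpa using hr_smul g _ _ h⟩
    have hsub : {k | r j k} ⊆ {k | r i k} := fun k hk => htrans i j k hij hk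
    obtain ⟨g, rfl⟩ := exists_smul_eq T.act.range i j
    have := Set.eq_of_subset_of_ncard_le hsub (hcard g i).ge
    show i ∈ {k | r (g • i) k}
    rw [this]
    exact hrefl i
  have hblk : ∀ i j, r i j → i = j := by
    rcases Cfsg.Agent.Perm.eq_or_all_of_invariant_equivalence r
      ⟨hrefl, fun {i j} => hsymm i j, fun {i j k} => htrans i j k⟩ hr_smul with h | h
    · exact fun i j hij => h i j hij
    · exfalso
      obtain ⟨i, hi⟩ := Set.nonempty_of_ncard_ne_zero (s := T.blkFix P)
        (by rw [OType.blkFix, T.fix_blk P hPH]; omega)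
      have : T.blkFix P = Set.univ := Set.eq_univ_of_forall fun j => h i j P hPH hi
      have h2 := T.fix_blk P hPH
      rw [← OType.blkFix, this, Set.ncard_univ, Nat.card_fin] at h2
      have := T.N_eq
      omega
  have hX1 : ∀ y ∈ (Xᶜ : Set α), (insert y X).ncard = t + 1 := fun y hy => by
    rw [Set.ncard_insert_of_notMem hy, hX]
  -- two fixed blocks
  obtain ⟨i, hi, j, hj, hij⟩ := (Set.one_lt_ncard (Set.toFinite _)).1
    (show 1 < (T.blkFix P).ncard by rw [OType.blkFix, T.fix_blk P hPH]; omega)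
  obtain ⟨y, hy, rfl⟩ := T.surj i
  obtain ⟨z, hz, rfl⟩ := T.surj j
  rw [horb] at hy hz
  have hyz : y ≠ z := fun h => hij (by rw [h])
  obtain ⟨x, hx⟩ := Set.nonempty_of_ncard_ne_zero (s := X) (by omega)
  set Z : Set α := insert y (insert z (X \ {x})) with hZ
  have hzX' : z ∉ X \ {x} := fun h => hz h.1
  have hyZ : y ∉ insert z (X \ {x}) := by
    rintro (h | h)
    · exact hyz h
    · exact hy h.1
  have hZc : Z.ncard = t + 1 := by
    rw [hZ, Set.ncard_insert_of_notMem hyZ, Set.ncard_insert_of_notMem hzX',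
      Set.ncard_sdiff_singleton_of_mem hx, hX]
    omega
  -- `Z` has a further point in its closure
  obtain ⟨w, hwZ, hw⟩ : ∃ w, w ∉ Z ∧ ∀ Q ∈ sylFix (G := G) p Z, w ∈ pts (Q : Subgroup G) := by
    obtain ⟨y', hy', hne⟩ : ∃ y' ∈ (orbit H a : Set α) ∩ T.π ⁻¹' {T.π y}, y' ≠ y := by
      refine Set.exists_ne_of_one_lt_ncard ?_ y
      rw [T.fibre_ncard]; omega
    obtain ⟨g, hg⟩ := hC.exists_smul_set ht (by omega) _ le_rfl (insert y X) Z (hX1 y hy) hZc
    have hy'X : y' ∉ X := by
      have h := hy'.1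
      rw [horb] at h
      exact h
    refine ⟨g • y', ?_, fun Q hQ => ?_⟩
    · rw [← hg, Set.smul_mem_smul_set_iff]
      rintro (h | h)
      · exact hne h
      · exact hy'X h
    · rw [← hg, sylFix_smul] at hQ
      obtain ⟨R, hR, rfl⟩ := hQ
      rw [pts_smul_sylow, Set.smul_mem_smul_set_iff]
      have hRX : X ⊆ pts (R : Subgroup G) := (Set.subset_insert y X).trans hR
      have := (hsame R hRX y hy).2 (hR (Set.mem_insert y X))
      exact (hsame R hRX y' hy'X).1 (hy'.2.symm ▸ this)
  have hPZ : P ∈ sylFix (G := G) p Z := by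
    refine Set.insert_subset ((hsame P hPX y hy).1 hi) (Set.insert_subset ((hsame P hPX z hz).1 hj) ?_)
    exact Set.sdiff_subset.trans hPX
  -- replacing a point of `Z` by `w`
  have hexch : ∀ (u v : α), u ∈ (Xᶜ : Set α) → v ∈ (Xᶜ : Set α) → T.π u ≠ T.π v →
      insert u (insert v (X \ {x})) = Z → w ≠ x ∧ T.π w ≠ T.π u := by
    intro u v hu hv huv hZ'
    have hQfix : sylFix (G := G) p Z ⊆ sylFix p (insert u X) → False := by
      intro hsub
      have heq := hC.sylFix_eq_of_subset ht (by omega) hZc (hX1 u hu) hsub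
      refine huv (hblk _ _ fun Q hQ hQu => ?_)
      have hQX : X ⊆ pts (Q : Subgroup G) := (le_hOf_iff X Q).1 hQ
      have hQ' : Q ∈ sylFix (G := G) p (insert u X) :=
        Set.insert_subset ((hsame Q hQX u hu).1 hQu) hQX
      rw [← heq] at hQ'
      exact (hsame Q hQX v hv).2 (hQ' (by rw [← hZ']; simp))
    refine ⟨?_, fun hwu => ?_⟩
    · rintro rfl
      refine hQfix fun Q hQ => Set.insert_subset (hQ (by rw [← hZ']; simp)) fun q hq => ?_
      by_cases hqx : q = w
      · rw [hqx]; exact hw Q hQ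
      · exact hQ (by rw [← hZ']; simp [hq, hqx])
    · by_cases hwX : w ∈ X
      · by_cases hwx : w = x
        · subst hwx
          refine hQfix fun Q hQ => Set.insert_subset (hQ (by rw [← hZ']; simp)) fun q hq => ?_
          by_cases hqx : q = w
          · rw [hqx]; exact hw Q hQ
          · exact hQ (by rw [← hZ']; simp [hq, hqx])
        · exact hwZ (by rw [← hZ']; simp [hwX, hwx])
      have hwu' : w ≠ u := fun h => hwZ (by rw [h, ← hZ']; simp)
      set Z'' : Set α := insert w (insert u (X \ {x})) with hZ''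
      have hc'' : Z''.ncard = t + 1 := by
        have h1 : u ∉ X \ {x} := fun h => hu h.1
        have h2 : w ∉ insert u (X \ {x}) := by
          rintro (h | h)
          · exact hwu' h
          · exact hwX h.1
        rw [hZ'', Set.ncard_insert_of_notMem h2, Set.ncard_insert_of_notMem h1,
          Set.ncard_sdiff_singleton_of_mem hx, hX]
        omega
      have e1 : sylFix (G := G) p Z ⊆ sylFix p Z'' := fun Q hQ =>
        Set.insert_subset (hw Q hQ) (Set.insert_subset (hQ (by rw [← hZ']; simp))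
          (fun q hq => hQ (by rw [← hZ']; simp [hq.1, (show q ≠ x from hq.2)])))
      have e2 : sylFix (G := G) p (insert u X) ⊆ sylFix p Z'' := fun Q hQ => by
        have hQX : X ⊆ pts (Q : Subgroup G) := (Set.subset_insert u X).trans hQ
        refine Set.insert_subset ?_ (Set.insert_subset (hQ (Set.mem_insert u X))
          (Set.sdiff_subset.trans hQX))
        exact (hsame Q hQX w hwX).1 (hwu.symm ▸ (hsame Q hQX u hu).2 (hQ (Set.mem_insert u X)))
      refine hQfix ?_
      rw [hC.sylFix_eq_of_subset ht (by omega) hZc hc'' e1,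
        hC.sylFix_eq_of_subset ht (by omega) (hX1 u hu) hc'' e2]
  obtain ⟨hwx, hwy⟩ := hexch y z hy hz hij rfl
  obtain ⟨-, hwz⟩ := hexch z y hz hy (Ne.symm hij) (Set.insert_comm _ _ _)
  have hwX : w ∉ X := fun h => hwZ (by rw [hZ]; simp [h, hwx])
  have hwP : T.π w ∈ T.blkFix P := (hsame P hPX w hwX).2 (hw P hPZ)
  have hF3 : 3 ≤ F := by
    have hsub : ({T.π y, T.π z, T.π w} : Set (Fin N)) ⊆ T.blkFix P :=
      Set.insert_subset hi (Set.insert_subset hj (Set.singleton_subset_iff.2 hwP))
    have := Set.ncard_le_ncard hsub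
    rw [OType.blkFix, T.fix_blk P hPH, Set.ncard_insert_of_notMem (by simp [hij, Ne.symm hwy]),
      Set.ncard_pair (Ne.symm hwz)] at this
    exact this
  obtain ⟨Q, hQH, hQy, hQz, hQw⟩ := T.exists_sylow_fix_move hC.ne_two (Or.inl hF3) hwy hwz
  have hQX : X ⊆ pts (Q : Subgroup G) := (le_hOf_iff X Q).1 hQH
  refine hQw ((hsame Q hQX w hwX).2 (hw Q ?_))
  exact Set.insert_subset ((hsame Q hQX y hy).1 hQy)
    (Set.insert_subset ((hsame Q hQX z hz).1 hQz) (Set.sdiff_subset.trans hQX))

end Counter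

end Cfsg.Agent.HalfFix
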