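import Cfsg.Agent.Lib.HalfFix.OType

/-!
# Kernels and images of orbit types
-/

set_option autoImplicit false

namespace Cfsg.Agent.HalfFix

open MulAction Equiv
open scoped Pointwise

universe u v

variable {p : ℕ} [Fact p.Prime] {G : Type u} [Group G] [Finite G] {α : Type v} [MulAction G α]
  {K : Subgroup G}

namespace OType

variable {O : Set α} {N F : ℕ} (T : OType p K O N F)

include T in
theorem five_le (hp : p ≠ 2) (hA : T.IsA) : 5 ≤ N := by
  have := T.N_eq
  have := AltCond.two_le (p := p) (F := F) hA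
  have := (Fact.out : p.Prime).two_le
  omega

theorem two_mul_card_range_le (hp : p ≠ 2) :
    2 * Nat.card T.act.range ≤ N.factorial := by
  haveI : Nontrivial (Fin N) := by
    have := T.p_lt; have := (Fact.out : p.Prime).two_le
    exact Fin.nontrivial_iff_two_le.2 (by omega)
  calc 2 * Nat.card T.act.range ≤ 2 * Nat.card (alternatingGroup (Fin N)) :=
        Nat.mul_le_mul_left 2 (Subgroup.card_le_of_le (T.range_le_alternating hp))
    _ = N.factorial := by rw [two_mul_nat_card_alternatingGroup, Nat.card_perm, Nat.card_fin]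

theorem two_mul_card_range (hp : p ≠ 2) (hA : T.IsA) :
    2 * Nat.card T.act.range = N.factorial := by
  haveI : Nontrivial (Fin N) := Fin.nontrivial_iff_two_le.2 (by have := T.five_le hp hA; omega)
  rw [T.range_eq_alt hp hA, two_mul_nat_card_alternatingGroup, Nat.card_perm, Nat.card_fin]

/-- A normal subgroup acts on the blocks of an alternating type trivially or as the whole group. -/
theorem map_normal (hp : p ≠ 2) (hA : T.IsA) (M : Subgroup ↥K) [hM : M.Normal] :
    M ≤ T.act.ker ∨ M.map T.act = alternatingGroup (Fin N) := by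
  haveI : IsSimpleGroup (alternatingGroup (Fin N)) :=
    alternatingGroup.isSimpleGroup (by rw [Nat.card_fin]; exact T.five_le hp hA)
  have hle : M.map T.act ≤ alternatingGroup (Fin N) := by
    rintro _ ⟨k, -, rfl⟩; exact T.range_le_alternating hp ⟨k, rfl⟩
  have hn : ((M.map T.act).subgroupOf (alternatingGroup (Fin N))).Normal := by
    refine ⟨fun x hx y => ?_⟩
    obtain ⟨k, hk⟩ : (y : Perm (Fin N)) ∈ T.act.range := (T.range_eq_alt hp hA).symm ▸ y.2
    obtain ⟨m, hm, hmx⟩ := hx
    refine ⟨k * m * k⁻¹, hM.conj_mem m hm k, ?_⟩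
    rw [map_mul, map_mul, map_inv, hk, hmx]; rfl
  rcases hn.eq_bot_or_eq_top with h | h
  · left
    intro k hk
    rw [MonoidHom.mem_ker]
    have : (⟨T.act k, hle ⟨k, hk, rfl⟩⟩ : alternatingGroup (Fin N)) ∈
        (M.map T.act).subgroupOf (alternatingGroup (Fin N)) := ⟨k, hk, rfl⟩
    rw [h, Subgroup.mem_bot] at this
    exact congrArg Subtype.val this
  · exact Or.inr (le_antisymm hle (Subgroup.subgroupOf_eq_top.1 h))

/-- A normal subgroup whose `p`-elements act trivially on the blocks lies in the kernel. -/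
theorem le_ker_of_pElements (hp : p ≠ 2) (hA : T.IsA) (M : Subgroup ↥K) [M.Normal]
    (h : ∀ k : ↥K, k ∈ M → ∀ j : ℕ, (k : G) ^ p ^ j = 1 → T.act k = 1) : M ≤ T.act.ker := by
  rcases T.map_normal hp hA M with h1 | h1
  · exact h1
  exfalso
  obtain ⟨P, hP⟩ := T.sylow
  obtain ⟨c, -, hord, -⟩ := T.exists_cycle P hP
  obtain ⟨m, hm, hmc⟩ : T.act c ∈ M.map T.act := by
    rw [h1]; exact T.range_le_alternating hp ⟨c, rfl⟩
  obtain ⟨s, ⟨j, hj⟩, hs⟩ := exists_pElement_lift (p := p) T.act (x := m) (k := 1)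
    (by rw [hmc, pow_one]; exact orderOf_dvd_iff_pow_eq_one.1 (dvd_of_eq hord))
  have h2 := h (m ^ s) (M.pow_mem hm s) j (by simpa using congrArg Subtype.val hj)
  rw [hs, hmc] at h2
  rw [h2, orderOf_one] at hord
  exact (Fact.out : p.Prime).ne_one hord.symm

/-- A normal subgroup not in the kernel has elements of `p`-power order moving every point. -/
theorem exists_pElement_moving (hp : p ≠ 2) (hA : T.IsA) (M : Subgroup ↥K) [M.Normal]
    (hM : ¬ M ≤ T.act.ker) {x : α} (hx : x ∈ O) :
    ∃ k : ↥K, k ∈ M ∧ (∃ j : ℕ, (k : G) ^ p ^ j = 1) ∧ (k : G) • x ≠ x := by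
  by_contra hcon
  push Not at hcon
  refine hM (T.le_ker_of_pElements hp hA M fun k hk j hj => Equiv.ext fun i => ?_)
  obtain ⟨z, hz, rfl⟩ := T.surj i
  obtain ⟨t, ht, rfl⟩ := T.trans x hx z hz
  rw [← T.map_smul k _ hz]
  have h1 := hcon ((⟨t, ht⟩ : ↥K)⁻¹ * k * ⟨t, ht⟩)
    (by simpa using ‹M.Normal›.conj_mem k hk (⟨t, ht⟩ : ↥K)⁻¹) ⟨j, by
      simp only [Subgroup.coe_mul, Subgroup.coe_inv]
      rw [show t⁻¹ * (k : G) * t = (MulAut.conj t⁻¹) (k : G) by simp, ← map_pow, hj, map_one]⟩
  simp only [Subgroup.coe_mul, Subgroup.coe_inv, mul_smul, inv_smul_eq_iff] at h1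
  rw [h1]; rfl

/-- The kernel of a type acts trivially, up to `p'`-elements. -/
theorem ker_pElement {k : ↥K} (hk : k ∈ T.act.ker) {j : ℕ} (hj : (k : G) ^ p ^ j = 1) {x : α}
    (hx : x ∈ O) : (k : G) • x = x := T.smul_eq_of_kernel k.2 hj hk hx

/-- If the blocks of `T` are a function of the points of `O'`, the kernels are nested. -/
theorem ker_le_of_map {O' : Set α} {N' F' : ℕ} (T' : OType p K O' N' F') (hp : p ≠ 2) (hA : T.IsA)
    (σ : α → Fin N) (hσ : ∀ (k : ↥K), ∀ z ∈ O', σ ((k : G) • z) = T.act k (σ z))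
    (hsurj : ∀ i, ∃ z ∈ O', σ z = i) : T'.act.ker ≤ T.act.ker := by
  refine T.le_ker_of_pElements hp hA _ fun k hk j hj => Equiv.ext fun i => ?_
  obtain ⟨z, hz, rfl⟩ := hsurj i
  rw [← hσ k z hz, T'.ker_pElement hk hj hz]
  rfl

/-- Comparison of two types with nested kernels. -/
theorem eq_of_ker_le {O' : Set α} {N' F' : ℕ} (T' : OType p K O' N' F') (hp : p ≠ 2) (hA : T.IsA)
    (hle : T'.act.ker ≤ T.act.ker) :
    N ≤ N' ∧ T'.IsA ∧ (T'.act.ker = T.act.ker) ∧ N' = N := by
  have hdvd : Nat.card T.act.range ∣ Nat.card T'.act.range := by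
    rw [← Subgroup.index_ker, ← Subgroup.index_ker]
    exact Subgroup.index_dvd_of_le hle
  have h1 : N.factorial ≤ N'.factorial :=
    calc N.factorial = 2 * Nat.card T.act.range := (T.two_mul_card_range hp hA).symm
      _ ≤ 2 * Nat.card T'.act.range := Nat.mul_le_mul_left 2 (Nat.le_of_dvd Nat.card_pos hdvd)
      _ ≤ N'.factorial := T'.two_mul_card_range_le hp
  have hN : N ≤ N' := by
    by_contra h
    have h0 : 0 < N' := by have := T'.p_lt; omega
    exact absurd h1 (not_le.2 ((Nat.factorial_lt h0).2 (by omega)))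
  have hA' : T'.IsA := by
    have := T'.N_eq; have := T.N_eq
    rcases hA with h | ⟨h, h'⟩ | ⟨h, h'⟩
    · exact Or.inl (by omega)
    · rcases Nat.lt_or_ge F' 3 with h'' | h''
      · exact Or.inr (Or.inl ⟨h, by omega⟩)
      · exact Or.inl h''
    · rcases Nat.lt_or_ge F' 3 with h'' | h''
      · exact Or.inr (Or.inr ⟨h, by omega⟩)
      · exact Or.inl h''
  have heq : T'.act.ker = T.act.ker := by
    refine le_antisymm hle ?_
    haveI := T.act.normal_ker
    rcases T'.map_normal hp hA' T.act.ker with h | h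
    · exact h
    exfalso
    obtain ⟨P, hP⟩ := T.sylow
    obtain ⟨c, -, hord, -⟩ := T.exists_cycle P hP
    obtain ⟨z, hz, hzc⟩ : T'.act c ∈ T.act.ker.map T'.act := by
      rw [h]; exact T'.range_le_alternating hp ⟨c, rfl⟩
    have h2 : z⁻¹ * c ∈ T.act.ker := hle (MonoidHom.mem_ker.2 (by rw [map_mul, map_inv, hzc, inv_mul_cancel]))
    have h3 : c ∈ T.act.ker := by simpa using T.act.ker.mul_mem hz h2
    rw [MonoidHom.mem_ker.1 h3, orderOf_one] at hord
    exact (Fact.out : p.Prime).ne_one hord.symm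
  refine ⟨hN, hA', heq, ?_⟩
  have h2 : N'.factorial = N.factorial := by
    rw [← T.two_mul_card_range hp hA, ← T'.two_mul_card_range hp hA', ← Subgroup.index_ker,
      ← Subgroup.index_ker, heq]
  rcases lt_or_eq_of_le hN with h3 | h3
  · exact absurd ((Nat.factorial_lt (by have := T.p_lt; omega)).2 h3) (by rw [h2]; exact lt_irrefl _)
  · exact h3.symm

/-- The type of an orbit is unique. -/
theorem unique {N' F' : ℕ} (T' : OType p K O N' F') (hp : p ≠ 2) (hA : T.IsA) :
    T'.IsA ∧ T'.act.ker = T.act.ker ∧ N' = N :=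
  (T.eq_of_ker_le T' hp hA (T.ker_le_of_map T' hp hA T.π T.map_smul T.surj)).2

include T in
theorem factorial_lt (hp : p ≠ 2) (hA : T.IsA) : 2 * p.factorial < N.factorial := by
  have := T.N_eq
  have := AltCond.two_le (p := p) (F := F) hA
  have h0 := Nat.factorial_pos p
  calc 2 * p.factorial < (p + 2) * (p + 1) * p.factorial := by
        have : 3 ≤ (p + 2) * (p + 1) := by nlinarith [(Fact.out : p.Prime).two_le]
        nlinarith
    _ = (p + 2).factorial := by rw [Nat.factorial_succ, Nat.factorial_succ, mul_assoc]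
    _ ≤ N.factorial := Nat.factorial_le (by omega)

end OType

end Cfsg.Agent.HalfFix
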