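import Cfsg.Agent.Lib.HalfFix.Sys

/-!
# The two types of transitive actions of small defect
-/

set_option autoImplicit false

namespace Cfsg.Agent.HalfFix

open MulAction
open scoped Pointwise

universe u v

/-- The main lemma below degree `n`: primitive, generated by `p`-elements, at least `p` fixed points
gives defect larger than `p (p - 2)`. -/
def MainBelow.{u'} (p : ℕ) [Fact p.Prime] (n : ℕ) : Prop :=
  ∀ {G : Type u'} [Group G] [Finite G] {α : Type} [MulAction G α] [Finite α],
    Nat.card α < n → IsGen p G → IsPreprimitive G α → 1 < Nat.card α → p ≤ fixCount p G α →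
      (p : ℤ) * ((p : ℤ) - 2) < defect p G α

/-- A quotient with `N = F + p` blocks, fixed blocks being pointwise fixed. -/
structure Known (p : ℕ) [Fact p.Prime] (G : Type u) [Group G] [Finite G] (α : Type v)
    [MulAction G α] (N F : ℕ) extends Sys G α N where
  prim : IsPreprimitive G toSys.Blk
  fix_blk : fixCount p G toSys.Blk = F
  N_eq : N = F + p
  F_pos : 1 ≤ F
  F_lt : F < p
  fixed : ∀ (P : Sylow p G) (x : α),
    toSys.proj x ∈ pts (P : Subgroup G) → x ∈ pts (P : Subgroup G)

variable {p : ℕ} [Fact p.Prime]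

theorem le_defect_of_main {n : ℕ} {G : Type u} [Group G] [Finite G] {α : Type} [MulAction G α]
    [Finite α] (hmain : MainBelow.{u} p n) (hlt : Nat.card α < n) (hgen : IsGen p G)
    [IsPreprimitive G α] (h : 1 < Nat.card α) (hF : p ≤ fixCount p G α) :
    (p : ℤ) * ((p : ℤ) - 1) ≤ defect p G α := by
  have h1 := hmain hlt hgen inferInstance h hF
  obtain ⟨c, hc⟩ : (p : ℤ) ∣ defect p G α := dvd_defect
  rw [hc] at h1 ⊢
  have hp : (0 : ℤ) < p := by exact_mod_cast (Fact.out : p.Prime).pos
  have := lt_of_mul_lt_mul_left h1 hp.le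
  exact mul_le_mul_of_nonneg_left (by omega) hp.le

/-- Every non-trivial transitive action below degree `n` has non-negative defect. -/
theorem defect_nonneg_of_main {n : ℕ} {G : Type u} [Group G] [Finite G] {α : Type} [MulAction G α]
    [Finite α] [IsPretransitive G α] (hmain : MainBelow.{u} p n) (hlt : Nat.card α < n)
    (hgen : IsGen p G) (h : 1 < Nat.card α) : 0 ≤ defect p G α := by
  obtain ⟨N, S, hN, hprim⟩ := exists_primitive_sys (G := G) h
  haveI : Nonempty α := (Nat.card_pos_iff.1 (by omega)).1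
  obtain ⟨he1, he, hc⟩ := S.fib_spec
  haveI := hprim
  have hcb : 1 < Nat.card S.Blk := by rw [Sys.card_blk]; exact hN
  have hq : 0 ≤ defect p G S.Blk := by
    rcases Nat.lt_or_ge (fixCount p G S.Blk) p with hF | hF
    · exact defect_nonneg_of_fix_lt hgen hcb hF
    · have h2 : Nat.card S.Blk ≤ Nat.card α := by
        rw [Sys.card_blk, hc]; exact Nat.le_mul_of_pos_left _ he1
      refine le_trans ?_ (le_defect_of_main hmain (lt_of_le_of_lt h2 hlt) hgen hcb hF)
      have : (2 : ℤ) ≤ p := by exact_mod_cast (Fact.out : p.Prime).two_le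
      nlinarith
  obtain ⟨h1, -, h3⟩ := defect_of_quotient (p := p) S.proj_smul S.proj_surj he
    (by rw [Sys.card_blk]; exact hc)
  rw [h3]
  have hp : (2 : ℤ) ≤ p := by exact_mod_cast (Fact.out : p.Prime).two_le
  have h4 : (0 : ℤ) ≤ ((S.fib * fixCount p G S.Blk : ℕ) : ℤ) - (fixCount p G α : ℤ) := by
    rw [sub_nonneg]; exact_mod_cast h1
  exact add_nonneg (mul_nonneg (Int.natCast_nonneg _) hq) (mul_nonneg (by linarith) h4)

/-- The classification of transitive actions of defect at most `p (2 p - 3)`. -/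
theorem classify {n : ℕ} {G : Type u} [Group G] [Finite G] {α : Type} [MulAction G α]
    [Finite α] [IsPretransitive G α] (hmain : MainBelow.{u} p n) (hlt : Nat.card α < n)
    (hgen : IsGen p G) (h : 1 < Nat.card α) (hp3 : 3 ≤ p)
    (hD : defect p G α ≤ p * (2 * (p : ℤ) - 3)) :
    (∃ N F, Nonempty (Known p G α N F)) ∨
      (IsPreprimitive G α ∧ (p : ℤ) * ((p : ℤ) - 1) ≤ defect p G α ∧
        (fixCount p G α = 0 → Nat.card α = p)) := by
  obtain ⟨N, S, hN, hprim⟩ := exists_primitive_sys (G := G) h
  haveI : Nonempty α := (Nat.card_pos_iff.1 (by omega)).1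
  obtain ⟨he1, he, hc⟩ := S.fib_spec
  haveI := hprim
  have hcb : 1 < Nat.card S.Blk := by rw [Sys.card_blk]; exact hN
  have h2 : Nat.card S.Blk < n := by
    refine lt_of_le_of_lt ?_ hlt
    rw [Sys.card_blk, hc]; exact Nat.le_mul_of_pos_left _ he1
  have hp' : (3 : ℤ) ≤ p := by exact_mod_cast hp3
  have hbig : (p : ℤ) * ((p : ℤ) - 1) ≤ defect p G S.Blk ∨
      (1 ≤ fixCount p G S.Blk ∧ fixCount p G S.Blk < p ∧ N = fixCount p G S.Blk + p) := by
    rcases Nat.lt_or_ge (fixCount p G S.Blk) p with hF | hF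
    · obtain ⟨k, hk, hk'⟩ := exists_card_eq hgen hcb
      have hNk : (N : ℤ) = fixCount p G S.Blk + k * p := by
        rw [Sys.card_blk] at hk'; exact_mod_cast hk'
      by_cases hk2 : k = 1 ∧ 1 ≤ fixCount p G S.Blk
      · exact Or.inr ⟨hk2.2, hF, by rw [Sys.card_blk, hk2.1] at hk'; omega⟩
      · left
        rw [defect, Sys.card_blk, hNk]
        have h5 : (fixCount p G S.Blk : ℤ) ≤ (p : ℤ) - 1 := by omega
        by_cases hk1 : k = 1
        · have h6 : fixCount p G S.Blk = 0 := by
            by_contra h7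
            exact hk2 ⟨hk1, by omega⟩
          subst hk1
          rw [h6]; push_cast; linarith
        · have h7 : (2 : ℤ) ≤ k := by exact_mod_cast (show 2 ≤ k by omega)
          have h8 := mul_le_mul_of_nonneg_right h7
            (show (0 : ℤ) ≤ ((p : ℤ) - 1) * p by nlinarith)
          have h9 := mul_le_mul_of_nonneg_left h5 (show (0 : ℤ) ≤ (p : ℤ) by linarith)
          nlinarith
    · exact Or.inl (le_defect_of_main hmain h2 hgen hcb hF)
  have hq : 0 ≤ defect p G S.Blk := by
    rcases hbig with h3 | ⟨-, h3, -⟩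
    · exact le_trans (by nlinarith) h3
    · exact defect_nonneg_of_fix_lt hgen hcb h3
  obtain ⟨hf, hDe, hfixed⟩ := S.small_fix hq hD
  rcases hbig with h3 | ⟨hF1, hF2, hNF⟩
  · right
    have he2 : S.fib = 1 := by
      by_contra h4
      have h5 : (2 : ℤ) ≤ S.fib := by exact_mod_cast (show 2 ≤ S.fib by omega)
      have h6 := mul_le_mul h5 h3 (by nlinarith) (by linarith)
      nlinarith
    have hinj : Function.Injective S.proj := fun x y hxy => by
      have h4 : (S.proj ⁻¹' {S.proj x}).ncard ≤ 1 := by rw [he (S.proj x), he2]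
      exact (Set.ncard_le_one (Set.toFinite _)).1 h4 x rfl y hxy.symm
    let f : α ≃ S.Blk := Equiv.ofBijective S.proj ⟨hinj, S.proj_surj⟩
    let g : S.Blk →[G] α :=
      { toFun := f.symm
        map_smul' := fun g i => by
          apply f.injective
          show f (f.symm (g • i)) = S.proj (g • f.symm i)
          rw [S.proj_smul, Equiv.apply_symm_apply]
          exact congrArg (g • ·) (f.apply_symm_apply i).symm }
    refine ⟨IsPreprimitive.of_surjective (f := g) f.symm.surjective, ?_, fun h0 => ?_⟩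
    · rw [hDe, he2]; simpa using h3
    · obtain ⟨k, hk, hk'⟩ := exists_card_eq hgen h
      rw [defect, hk', h0] at hD
      have : k ≤ 1 := by
        by_contra hk2
        have h7 : (2 : ℤ) ≤ k := by exact_mod_cast (show 2 ≤ k by omega)
        have h8 := mul_le_mul_of_nonneg_right h7
          (show (0 : ℤ) ≤ ((p : ℤ) - 1) * p by nlinarith)
        push_cast at hD
        nlinarith
      rw [hk', h0]
      obtain rfl : k = 1 := by omega
      omega
  · exact Or.inl ⟨N, fixCount p G S.Blk, ⟨{ S with
      prim := hprim, fix_blk := rfl, N_eq := hNF, F_pos := hF1, F_lt := hF2, fixed := hfixed }⟩⟩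

end Cfsg.Agent.HalfFix
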