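import Cfsg.Agent.Lib.HalfFix.Twin

/-!
# A subgroup of small defect on an invariant set

`Local p K Y`: `K` is generated by `p`-elements, contains a Sylow subgroup, fixes exactly the points
outside `Y`, and has defect at most `p (2 p - 3)` on `Y`.
-/

set_option autoImplicit false

namespace Cfsg.Agent.HalfFix

open MulAction Equiv
open scoped Pointwise

universe u

variable {p : ℕ} [Fact p.Prime] {G : Type u} [Group G] [Finite G] {α : Type} [MulAction G α]

/-- The setting of one point stabilizer. -/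
structure Local (p : ℕ) [Fact p.Prime] (K : Subgroup G) (Y : Set α) : Prop where
  three : 3 ≤ p
  gen : pGen p K = K
  sylow : ∃ P : Sylow p G, (P : Subgroup G) ≤ K
  stable : ∀ k ∈ K, ∀ x ∈ Y, k • x ∈ Y
  outside : ∀ k ∈ K, ∀ x, x ∉ Y → k • x = x
  moving : ∀ b ∈ Y, ∃ k ∈ K, k • b ≠ b
  proper : Y ≠ Set.univ
  small : ∀ P : Sylow p G, (P : Subgroup G) ≤ K →
    dset p (P : Subgroup G) Y ≤ p * (2 * (p : ℤ) - 3)
  main : MainBelow.{u} p (Nat.card α)

/-- `b` is fixed by a Sylow subgroup inside `K`. -/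
def Covered (p : ℕ) (K : Subgroup G) (b : α) : Prop :=
  ∃ P : Sylow p G, (P : Subgroup G) ≤ K ∧ b ∈ pts (P : Subgroup G)

/-- The orbit of `b` has a quotient with pointwise fixed blocks. -/
def IsOType (p : ℕ) (K : Subgroup G) (b : α) : Prop :=
  ∃ N F, Nonempty (OType p K (orbit K b) N F)

/-- The orbit of `b` is of alternating type with `N` blocks. -/
def IsAType (p : ℕ) (K : Subgroup G) (b : α) (N : ℕ) : Prop :=
  ∃ F, ∃ T : OType p K (orbit K b) N F, T.IsA

/-- The subgroup generated by the `p`-elements of `K` fixing the orbit of `b` pointwise. -/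
def jOf (p : ℕ) (K : Subgroup G) (b : α) : Subgroup G :=
  pGen p (K ⊓ fixingSubgroup G (orbit K b : Set α))

/-- The class of `b`: the points with the same kernel. -/
def cls (p : ℕ) (K : Subgroup G) (Y : Set α) (b : α) : Set α :=
  {z | z ∈ Y ∧ (∃ N, IsAType p K z N) ∧ jOf p K z = jOf p K b}

/-- The subgroup generated by the `p`-elements of `K` trivial outside the class of `b`. -/
def rOf (p : ℕ) (K : Subgroup G) (Y : Set α) (b : α) : Subgroup G :=
  pGen p (K ⊓ fixingSubgroup G (Y \ cls p K Y b))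

omit [Finite G] in
theorem orbit_eq_of_mem {K : Subgroup G} {b z : α} (hz : z ∈ orbit K b) :
    (orbit K z : Set α) = orbit K b := orbit_eq_iff.2 hz

omit [Finite G] in
theorem jOf_eq_of_mem {K : Subgroup G} {b z : α} (hz : z ∈ orbit K b) :
    jOf p K z = jOf p K b := by rw [jOf, jOf, orbit_eq_of_mem hz]

omit [Finite G] in
theorem isAType_of_mem {K : Subgroup G} {b z : α} {N : ℕ} (hz : z ∈ orbit K b)
    (h : IsAType p K b N) : IsAType p K z N := by rwa [IsAType, orbit_eq_of_mem hz]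

omit [Finite G] in
theorem isOType_of_mem {K : Subgroup G} {b z : α} (hz : z ∈ orbit K b)
    (h : IsOType p K b) : IsOType p K z := by rwa [IsOType, orbit_eq_of_mem hz]

omit [Finite G] in
theorem IsAType.isOType {K : Subgroup G} {b : α} {N : ℕ} (h : IsAType p K b N) : IsOType p K b :=
  let ⟨F, T, _⟩ := h; ⟨N, F, ⟨T⟩⟩

omit [Finite G] in
theorem smul_mem_orbit' {K : Subgroup G} {k : G} (hk : k ∈ K) {b z : α} (hz : z ∈ orbit K b) :
    k • z ∈ orbit K b := MulAction.mem_orbit_of_mem_orbit (⟨k, hk⟩ : K) hz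

theorem Covered.smul {K : Subgroup G} {b : α} (h : Covered p K b) {k : G} (hk : k ∈ K) :
    Covered p K (k • b) := by
  obtain ⟨P, hP, hb⟩ := h
  refine ⟨k • P, Sylow.smul_le hP ⟨k, hk⟩, ?_⟩
  rw [pts_smul_sylow]
  exact Set.smul_mem_smul_set hb

namespace OType

variable {K : Subgroup G} {O : Set α} {N F : ℕ} (T : OType p K O N F)

include T in
theorem covered {z : α} (hz : z ∈ O) : Covered p K z := by
  obtain ⟨P, hP, hi⟩ := T.exists_fix_block (T.π z)
  exact ⟨P, hP, T.fixed P hP z hz hi⟩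

theorem jOf_eq {b : α} (hO : O = orbit K b) :
    jOf p K b = pGen p (T.act.ker.map K.subtype) := by
  subst hO
  refine le_antisymm ((Subgroup.closure_le _).2 ?_) ((Subgroup.closure_le _).2 ?_)
  · rintro g ⟨⟨hg, hfix⟩, j, hj⟩
    refine mem_pGen ⟨⟨g, hg⟩, Equiv.ext fun i => ?_, rfl⟩ hj
    obtain ⟨x, hx, rfl⟩ := T.surj i
    rw [← T.map_smul ⟨g, hg⟩ x hx]
    show T.π (g • x) = T.π x
    rw [(mem_fixingSubgroup_iff G).1 hfix x hx]
  · rintro _ ⟨⟨k, hk, rfl⟩, j, hj⟩
    refine mem_pGen ⟨k.2, (mem_fixingSubgroup_iff G).2 fun x hx => ?_⟩ hj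
    exact T.ker_pElement hk hj hx

end OType

/-- Equal `jOf` means equal kernels, for alternating types. -/
theorem ker_eq_iff_jOf_eq (hp : p ≠ 2) {K : Subgroup G} {b b' : α} {N F N' F' : ℕ}
    (T : OType p K (orbit K b) N F) (T' : OType p K (orbit K b') N' F') (hA : T.IsA)
    (hA' : T'.IsA) : T.act.ker = T'.act.ker ↔ jOf p K b = jOf p K b' := by
  refine ⟨fun h => by rw [T.jOf_eq rfl, T'.jOf_eq rfl, h], fun h => ?_⟩
  rw [T.jOf_eq rfl, T'.jOf_eq rfl] at h
  have key : ∀ {z z' : α} {M E M' E' : ℕ} (S : OType p K (orbit K z) M E)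
      (S' : OType p K (orbit K z') M' E'), S.IsA →
      pGen p (S'.act.ker.map K.subtype) ≤ pGen p (S.act.ker.map K.subtype) →
      S'.act.ker ≤ S.act.ker := by
    intro z z' M E M' E' S S' hS hle
    refine S.le_ker_of_pElements hp hS _ fun k hk j hj => ?_
    have h1 := pGen_le _ (hle (mem_pGen ⟨k, hk, rfl⟩ hj))
    obtain ⟨k', hk', he⟩ := h1
    obtain rfl : k' = k := Subtype.ext he
    exact hk'
  exact le_antisymm (key T' T hA' h.le) (key T T' hA h.ge)

namespace Local

variable {K : Subgroup G} {Y : Set α} (hL : Local p K Y)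

include hL

theorem ne_two : p ≠ 2 := by have := hL.three; omega

theorem orbit_subset {b : α} (hb : b ∈ Y) : (orbit K b : Set α) ⊆ Y := by
  rintro _ ⟨k, rfl⟩; exact hL.stable k k.2 b hb

variable [Finite α]

theorem one_lt_orbit {b : α} (hb : b ∈ Y) : 1 < (orbit K b : Set α).ncard := by
  obtain ⟨k, hk, hkb⟩ := hL.moving b hb
  exact (Set.one_lt_ncard (Set.toFinite _)).2
    ⟨k • b, smul_mem_orbit' hk (mem_orbit_self b), b, mem_orbit_self b, hkb⟩

theorem orbit_lt {b : α} (hb : b ∈ Y) : (orbit K b : Set α).ncard < Nat.card α := by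
  refine lt_of_le_of_lt (Set.ncard_le_ncard (hL.orbit_subset hb)) ?_
  rw [← Set.ncard_univ]
  exact Set.ncard_lt_ncard (Set.ssubset_univ_iff.2 hL.proper) (Set.toFinite _)

theorem dset_orbit_nonneg {P : Sylow p G} (hP : (P : Subgroup G) ≤ K) {b : α} (hb : b ∈ Y) :
    0 ≤ dset p (P : Subgroup G) (orbit K b : Set α) := by
  rw [← defect_orbit P hP b]
  have hgen : IsGen p ↥K := by
    have := isGen_pGen (p := p) K
    rwa [hL.gen] at this
  exact defect_nonneg_of_main hL.main (by rw [Nat.card_coe_set_eq]; exact hL.orbit_lt hb) hgen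
    (by rw [Nat.card_coe_set_eq]; exact hL.one_lt_orbit hb)

theorem dset_nonneg {P : Sylow p G} (hP : (P : Subgroup G) ≤ K) {s : Set α} (hs : s ⊆ Y)
    (hst : ∀ k ∈ K, ∀ x ∈ s, k • x ∈ s) : 0 ≤ dset p (P : Subgroup G) s := by
  obtain ⟨t, ht, -, hsum⟩ := dset_eq_sum_orbits (p := p) (P : Subgroup G) K hst
  rw [hsum]
  refine Finset.sum_nonneg fun o ho => ?_
  obtain ⟨x, hx, rfl⟩ := ht o ho
  exact hL.dset_orbit_nonneg hP (hs hx)

/-- The defect of an invariant subset is at most that of `Y`. -/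
theorem dset_le {P : Sylow p G} (hP : (P : Subgroup G) ≤ K) {s : Set α} (hs : s ⊆ Y)
    (hst : ∀ k ∈ K, ∀ x ∈ s, k • x ∈ s) :
    dset p (P : Subgroup G) s ≤ dset p (P : Subgroup G) Y := by
  have h1 : dset p (P : Subgroup G) Y = dset p (P : Subgroup G) s + dset p (P : Subgroup G) (Y \ s) := by
    rw [← dset_union _ Set.disjoint_sdiff_right, Set.union_sdiff_cancel hs]
  have h2 := hL.dset_nonneg hP (s := Y \ s) Set.sdiff_subset fun k hk x hx => by
    refine ⟨hL.stable k hk x hx.1, fun h => hx.2 ?_⟩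
    simpa using hst k⁻¹ (K.inv_mem hk) _ h
  linarith

theorem orbit_small {P : Sylow p G} (hP : (P : Subgroup G) ≤ K) {b : α} (hb : b ∈ Y) :
    dset p (P : Subgroup G) (orbit K b : Set α) ≤ p * (2 * (p : ℤ) - 3) :=
  (hL.dset_le hP (hL.orbit_subset hb) fun _ hk _ hx => smul_mem_orbit' hk hx).trans (hL.small P hP)

/-- An orbit without quotient: primitive, large defect, and of size `p` without fixed points. -/
theorem unknown {P : Sylow p G} (hP : (P : Subgroup G) ≤ K) {b : α} (hb : b ∈ Y)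
    (h : ¬ IsOType p K b) : IsPreprimitive K (orbit K b) ∧
      (p : ℤ) * ((p : ℤ) - 1) ≤ dset p (P : Subgroup G) (orbit K b : Set α) ∧
      ((orbit K b : Set α) ∩ pts (P : Subgroup G) = ∅ → (orbit K b : Set α).ncard = p) :=
  (classify_orbit hL.main hL.three hL.gen P hP b (hL.orbit_lt hb) (hL.one_lt_orbit hb)
    (hL.orbit_small hP hb)).resolve_left h

/-- There is at most one orbit without quotient. -/
theorem unknown_unique {b b' : α} (hb : b ∈ Y) (hb' : b' ∈ Y) (h : ¬ IsOType p K b)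
    (h' : ¬ IsOType p K b') : b' ∈ orbit K b := by
  by_contra hne
  obtain ⟨P, hP⟩ := hL.sylow
  have hdis : Disjoint (orbit K b : Set α) (orbit K b') := Set.disjoint_left.2 fun z hz hz' => hne (by
    rw [← orbit_eq_iff.2 hz, orbit_eq_iff.2 hz']; exact mem_orbit_self b')
  have h1 := hL.dset_le hP (s := (orbit K b : Set α) ∪ orbit K b')
    (Set.union_subset (hL.orbit_subset hb) (hL.orbit_subset hb')) (fun k hk x hx => by
      rcases hx with hx | hx
      · exact Or.inl (smul_mem_orbit' hk hx)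
      · exact Or.inr (smul_mem_orbit' hk hx))
  rw [dset_union _ hdis] at h1
  have := (hL.unknown hP hb h).2.1
  have := (hL.unknown hP hb' h').2.1
  have := hL.small P hP
  have : (3 : ℤ) ≤ p := by exact_mod_cast hL.three
  nlinarith

theorem not_covered_card {b : α} (hb : b ∈ Y) (h : ¬ Covered p K b) :
    ¬ IsOType p K b ∧ (orbit K b : Set α).ncard = p := by
  have h1 : ¬ IsOType p K b := fun ⟨_, _, ⟨T⟩⟩ => h (T.covered (mem_orbit_self b))
  obtain ⟨P, hP⟩ := hL.sylow
  refine ⟨h1, (hL.unknown hP hb h1).2.2 (Set.eq_empty_iff_forall_notMem.2 ?_)⟩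
  rintro z ⟨⟨k, rfl⟩, hz⟩
  have h2 := Covered.smul (show Covered p K ((k : G) • b) from ⟨P, hP, hz⟩) (K.inv_mem k.2)
  rw [inv_smul_smul] at h2
  exact h h2

/-- Twins: a covered point outside the class of `b` induces everything on the blocks of `b`. -/
theorem full_of_ne {b y : α} (hy : y ∈ Y) (hcov : Covered p K y) {N F : ℕ}
    (T : OType p K (orbit K b) N F) (hA : T.IsA)
    (hne : ¬ ((∃ M, IsAType p K y M) ∧ jOf p K y = jOf p K b)) :
    ((pGen p (K ⊓ stabilizer G y)).subgroupOf K).map T.act = alternatingGroup (Fin N) := by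
  obtain ⟨P, hP, hyP⟩ := hcov
  refine (T.full_or_twin hL.ne_two hA P hP hyP (hL.orbit_small hP hy)).resolve_right ?_
  rintro ⟨σ, hσ⟩
  have hsurj : ∀ i, ∃ z ∈ (orbit K y : Set α), σ z = i := by
    intro i
    obtain ⟨⟨_, k, rfl⟩, hk⟩ := T.range_trans.exists_smul_eq (σ y) i
    exact ⟨(k : G) • y, smul_mem_orbit' k.2 (mem_orbit_self y),
      (hσ k y (mem_orbit_self y)).trans hk⟩
  by_cases h : IsOType p K y
  · obtain ⟨N', F', ⟨T'⟩⟩ := h
    obtain ⟨-, hA', heq, -⟩ :=
      T.eq_of_ker_le T' hL.ne_two hA (T.ker_le_of_map T' hL.ne_two hA σ hσ hsurj)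
    exact hne ⟨⟨N', F', T', hA'⟩, (ker_eq_iff_jOf_eq hL.ne_two T' T hA' hA).1 heq⟩
  obtain ⟨hprim, hbig, -⟩ := hL.unknown hP hy h
  haveI := hprim
  have hinj : Set.InjOn σ (orbit K y) := by
    intro z hz z' hz' hzz'
    have hB : IsBlock K {w : orbit K y | σ (w : α) = σ z} := by
      refine (isBlock_iff_smul_eq_or_disjoint).2 fun k => ?_
      rcases eq_or_ne (T.act k (σ z)) (σ z) with h1 | h1
      · left
        ext w
        rw [Set.mem_smul_set_iff_inv_smul_mem]
        show σ (((k⁻¹ : K) : G) • (w : α)) = σ z ↔ σ (w : α) = σ z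
        rw [hσ k⁻¹ w w.2, map_inv, Perm.inv_eq_iff_eq, h1]
      · right
        rw [Set.disjoint_left]
        rintro _ ⟨w, hw, rfl⟩ hw'
        apply h1
        have h2 := hσ k w w.2
        rw [show σ ((k : G) • (w : α)) = σ z from hw', show σ (w : α) = σ z from hw] at h2
        exact h2.symm
    rcases IsPreprimitive.isTrivialBlock_of_isBlock hB with h1 | h1
    · exact congrArg Subtype.val (h1 (x := ⟨z, hz⟩) rfl (y := ⟨z', hz'⟩) hzz'.symm)
    · exfalso
      obtain ⟨i, hi⟩ : ∃ i, i ≠ σ z := by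
        have h5 := T.five_le hL.ne_two hA
        haveI : Nontrivial (Fin N) := Fin.nontrivial_iff_two_le.2 (by omega)
        exact exists_ne _
      obtain ⟨w, hw, rfl⟩ := hsurj i
      have : (⟨w, hw⟩ : orbit K y) ∈ {w : orbit K y | σ (w : α) = σ z} := by rw [h1]; trivial
      exact hi this
  have himg : σ '' (orbit K y : Set α) = Set.univ := Set.eq_univ_of_forall fun i => by
    obtain ⟨z, hz, rfl⟩ := hsurj i
    exact ⟨z, hz, rfl⟩
  have hcard : (orbit K y : Set α).ncard = N := by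
    rw [← hinj.ncard_image, himg, Set.ncard_univ, Nat.card_fin]
  have hfix : ((orbit K y : Set α) ∩ pts (P : Subgroup G)).ncard = F := by
    rw [← (hinj.mono Set.inter_subset_left).ncard_image]
    refine Eq.trans ?_ (T.fix_blk P hP)
    congr 1
    ext i
    constructor
    · rintro ⟨z, ⟨hz, hz'⟩, rfl⟩ k hk
      rw [← hσ k z hz, hz' _ hk]
    · intro hi
      obtain ⟨z, hz, rfl⟩ := hsurj i
      refine ⟨z, ⟨hz, fun g hg => hinj (smul_mem_orbit' (hP hg) hz) hz ?_⟩, rfl⟩
      rw [hσ ⟨g, hP hg⟩ z hz, hi ⟨g, hP hg⟩ hg]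
  rw [dset, hcard, hfix] at hbig
  have hN : (N : ℤ) = F + p := by exact_mod_cast T.N_eq
  rw [hN] at hbig
  have hF : (1 : ℤ) ≤ F := by exact_mod_cast T.F_pos
  have hp : (3 : ℤ) ≤ p := by exact_mod_cast hL.three
  have := mul_le_mul_of_nonneg_left hF (show (0 : ℤ) ≤ p by linarith)
  push_cast at hbig
  nlinarith

omit [Finite α] in
/-- Same class: the stabilizer of a point does not induce everything. -/
theorem not_full_of_eq {b y : α} {N F N' F' : ℕ} (T : OType p K (orbit K b) N F) (hA : T.IsA)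
    (T' : OType p K (orbit K y) N' F') (hA' : T'.IsA) (h : jOf p K y = jOf p K b) :
    ((pGen p (K ⊓ stabilizer G y)).subgroupOf K).map T.act ≠ alternatingGroup (Fin N) := by
  intro hfull
  have heq := (ker_eq_iff_jOf_eq hL.ne_two T' T hA' hA).2 h
  have hfix : ∀ k : ↥K, T'.act k (T'.π y) = T'.π y := by
    intro k
    obtain ⟨l, hl, hlk⟩ : T.act k ∈ ((pGen p (K ⊓ stabilizer G y)).subgroupOf K).map T.act := by
      rw [hfull]; exact T.range_le_alternating hL.ne_two ⟨k, rfl⟩
    have h1 : l⁻¹ * k ∈ T'.act.ker := by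
      rw [heq, MonoidHom.mem_ker, map_mul, map_inv, hlk, inv_mul_cancel]
    rw [MonoidHom.mem_ker, map_mul, map_inv, inv_mul_eq_one] at h1
    rw [← h1, ← T'.map_smul l y (mem_orbit_self y)]
    exact congrArg T'.π (pGen_le _ hl).2
  obtain ⟨i, hi⟩ : ∃ i, i ≠ T'.π y := by
    have h5 := T'.five_le hL.ne_two hA'
    haveI : Nontrivial (Fin N') := Fin.nontrivial_iff_two_le.2 (by omega)
    exact exists_ne _
  obtain ⟨⟨_, k, rfl⟩, hk⟩ := T'.range_trans.exists_smul_eq (T'.π y) i
  exact hi (hk.symm.trans (hfix k))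

end Local

end Cfsg.Agent.HalfFix
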