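import Cfsg.Agent.Lib.HalfFix.View
import Mathlib.Combinatorics.Enumerative.DoubleCounting

/-!
# The case without alternating types
-/

set_option autoImplicit false

namespace Cfsg.Agent.HalfFix

open MulAction Equiv
open scoped Pointwise

universe u

variable {p : ℕ} [Fact p.Prime] {G : Type u} [Group G] [Finite G] {α : Type} [MulAction G α]
  [Finite α]

theorem Local.fix_eq_sum {K : Subgroup G} {Y : Set α} (hL : Local p K Y) (P : Sylow p G) :
    ∃ t : Finset (Set α), (∀ o ∈ t, ∃ x ∈ Y, o = orbit K x) ∧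
      dset p (P : Subgroup G) Y = ∑ o ∈ t, dset p (P : Subgroup G) o ∧
      (Y ∩ pts (P : Subgroup G)).ncard = ∑ o ∈ t, (o ∩ pts (P : Subgroup G)).ncard ∧
      ∀ x ∈ Y, orbit K x ∈ t := by
  classical
  haveI := Fintype.ofFinite α
  obtain ⟨t, ht, hall, hsum⟩ := dset_eq_sum_orbits (p := p) (P : Subgroup G) K hL.stable
  refine ⟨t, ht, hsum, ?_, hall⟩
  rw [Set.ncard_eq_toFinset_card', Finset.card_eq_sum_card_fiberwise
    (f := fun x => (orbit K x : Set α)) (t := t)
    (fun x hx => by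
      simp only [Set.coe_toFinset, Set.mem_inter_iff] at hx
      exact hall x hx.1)]
  refine Finset.sum_congr rfl fun o ho => ?_
  obtain ⟨z, hz, rfl⟩ := ht o ho
  rw [← Set.ncard_coe_finset]
  congr 1
  ext x
  simp only [Finset.coe_filter, Set.mem_toFinset, Set.mem_inter_iff, Set.mem_setOf_eq]
  exact ⟨fun h => ⟨h.2 ▸ mem_orbit_self x, h.1.2⟩,
    fun h => ⟨⟨hL.orbit_subset hz h.1, h.2⟩, orbit_eq_of_mem h.1⟩⟩

/-- An orbit in the situation without alternating types. -/
theorem Local.orbit_cases {K : Subgroup G} {Y : Set α} (hL : Local p K Y)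
    (hnoW : ∀ y ∈ Y, Covered p K y → IsOType p K y) (hnoA : ∀ y ∈ Y, ∀ N, ¬ IsAType p K y N)
    {P : Sylow p G} (hP : (P : Subgroup G) ≤ K) {x : α} (hx : x ∈ Y) :
    ((orbit K x : Set α) ∩ pts (P : Subgroup G)).ncard = 0 ∧
        (p : ℤ) * ((p : ℤ) - 1) ≤ dset p (P : Subgroup G) (orbit K x : Set α) ∨
      ∃ N F, ∃ T : OType p K (orbit K x) N F, ¬ AltCond p F ∧
        ((orbit K x : Set α) ∩ pts (P : Subgroup G)).ncard = T.e * F ∧
        dset p (P : Subgroup G) (orbit K x : Set α) = (T.e : ℤ) * p * ((p : ℤ) - 1 - F) := by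
  by_cases hcov : Covered p K x
  · right
    obtain ⟨N, F, ⟨T⟩⟩ := hnoW x hx hcov
    exact ⟨N, F, T, fun h => hnoA x hx N ⟨F, T, h⟩, T.ncard_fix P hP, T.dset_eq P hP⟩
  · left
    obtain ⟨hno, -⟩ := hL.not_covered_card hx hcov
    refine ⟨?_, (hL.unknown hP hx hno).2.1⟩
    rw [Set.ncard_eq_zero, Set.eq_empty_iff_forall_notMem]
    rintro _ ⟨⟨k, rfl⟩, hz⟩
    have h2 := Covered.smul (show Covered p K ((k : G) • x) from ⟨P, hP, hz⟩) (K.inv_mem k.2)
    rw [inv_smul_smul] at h2
    exact hcov h2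

/-- Few fixed points without alternating types: only the case `p = 3` is left. -/
theorem Local.three_of_noA {K : Subgroup G} {Y : Set α} (hL : Local p K Y)
    (hnoW : ∀ y ∈ Y, Covered p K y → IsOType p K y) (hnoA : ∀ y ∈ Y, ∀ N, ¬ IsAType p K y N)
    {P : Sylow p G} (hP : (P : Subgroup G) ≤ K) (hf : p ≤ (Y ∩ pts (P : Subgroup G)).ncard) :
    p = 3 ∧ (Y ∩ pts (P : Subgroup G)).ncard = 3 ∧ dset p (P : Subgroup G) Y = 9 ∧
      ∀ x ∈ Y, ∃ N F, ∃ T : OType p K (orbit K x) N F, N = 4 ∧ T.e ≤ 3 := by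
  have hp := (Fact.out : p.Prime)
  have h3 := hL.three
  obtain ⟨t, ht, hsum, hfix, hall⟩ := hL.fix_eq_sum P
  have hsmall := hL.small P hP
  have hf' : (p : ℤ) ≤ ((Y ∩ pts (P : Subgroup G)).ncard : ℕ) := by exact_mod_cast hf
  rcases Nat.lt_or_ge p 7 with hp7 | hp7
  swap
  · exfalso
    have hle : ∀ o ∈ t, ((p : ℤ) - 3) * p * ((o ∩ pts (P : Subgroup G)).ncard : ℕ) ≤
        2 * dset p (P : Subgroup G) o := by
      intro o ho
      obtain ⟨x, hx, rfl⟩ := ht o ho
      rcases hL.orbit_cases hnoW hnoA hP hx with ⟨h0, hd⟩ | ⟨N, F, T, hF, hfx, hd⟩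
      · rw [h0, Nat.cast_zero, mul_zero]
        nlinarith [hL.dset_orbit_nonneg hP hx]
      · unfold AltCond at hF
        have hF2 : F ≤ 2 := by omega
        have := T.F_pos
        rw [hfx, hd]
        push_cast
        have hp' : (7 : ℤ) ≤ p := by exact_mod_cast hp7
        interval_cases F <;> push_cast <;>
          nlinarith [mul_nonneg (Int.natCast_nonneg T.e) (show (0 : ℤ) ≤ p by linarith)]
    have h := Finset.sum_le_sum hle
    rw [← Finset.mul_sum, ← Finset.mul_sum, ← Nat.cast_sum, ← hfix, ← hsum] at h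
    have hp' : (7 : ℤ) ≤ p := by exact_mod_cast hp7
    have := mul_le_mul_of_nonneg_left hf' (show (0 : ℤ) ≤ ((p : ℤ) - 3) * p by nlinarith)
    have hk : (0 : ℤ) < (p : ℤ) * (((p : ℤ) - 1) * ((p : ℤ) - 6)) :=
      mul_pos (by linarith) (mul_pos (by linarith) (by linarith))
    nlinarith
  have hle : ∀ o ∈ t, ((p : ℤ) - 2) * p * ((o ∩ pts (P : Subgroup G)).ncard : ℕ) ≤
      dset p (P : Subgroup G) o := by
    intro o ho
    obtain ⟨x, hx, rfl⟩ := ht o ho
    rcases hL.orbit_cases hnoW hnoA hP hx with ⟨h0, hd⟩ | ⟨N, F, T, hF, hfx, hd⟩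
    · rw [h0, Nat.cast_zero, mul_zero]
      exact hL.dset_orbit_nonneg hP hx
    · unfold AltCond at hF
      have hp357 : p = 3 ∨ p = 5 := by
        interval_cases p
        · exact Or.inl rfl
        · exact absurd hp (by norm_num)
        · exact Or.inr rfl
        · exact absurd hp (by norm_num)
      have := T.F_pos
      have hF1 : F = 1 := by omega
      subst hF1
      rw [hfx, hd]
      push_cast
      linarith
  have h := Finset.sum_le_sum hle
  rw [← Finset.mul_sum, ← Nat.cast_sum, ← hfix, ← hsum] at h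
  have hp3 : p = 3 := by
    interval_cases p
    · rfl
    · exact absurd hp (by norm_num)
    · exfalso; push_cast at h hsmall hf'; linarith
    · exact absurd hp (by norm_num)
  subst hp3
  push_cast at h hsmall hf'
  have hfz : ((Y ∩ pts (P : Subgroup G)).ncard : ℤ) = 3 := by linarith
  refine ⟨rfl, by exact_mod_cast hfz, by linarith, fun x hx => ?_⟩
  -- each orbit is extremal
  have hd : dset 3 (P : Subgroup G) Y = 9 := by linarith
  have heach : ∀ o ∈ t, ((3 : ℤ) - 2) * 3 * ((o ∩ pts (P : Subgroup G)).ncard : ℕ) =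
      dset 3 (P : Subgroup G) o := by
    refine (Finset.sum_eq_sum_iff_of_le (fun o ho => by exact_mod_cast hle o ho)).1 ?_
    rw [← Finset.mul_sum, ← Nat.cast_sum, ← hfix, ← hsum, hd, hfz]
    norm_num
  have hx' := heach _ (hall x hx)
  rcases hL.orbit_cases hnoW hnoA hP hx with ⟨h0, hd0⟩ | ⟨N, F, T, hF, hfx, hd0⟩
  · rw [h0] at hx'
    push_cast at hx' hd0
    linarith
  · unfold AltCond at hF
    have := T.F_pos; have := T.N_eq
    have hF1 : F = 1 := by omega
    subst hF1
    refine ⟨N, 1, T, by omega, ?_⟩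
    have := hL.orbit_small hP hx
    rw [hd0] at this
    push_cast at this
    have : (T.e : ℤ) ≤ 3 := by linarith
    exact_mod_cast this

/-- An element of order prime to `4!` acts trivially when all orbits have four small blocks. -/
theorem Local.smul_eq_of_four {K : Subgroup G} {Y : Set α} (hL : Local p K Y) {g : G} (hg : g ∈ K)
    {r : ℕ} (hr : r.Prime) (h5 : 5 ≤ r) (hgr : g ^ r = 1)
    (hY : ∀ x ∈ Y, ∃ N F, ∃ T : OType p K (orbit K x) N F, N = 4 ∧ T.e ≤ 3) (x : α) : g • x = x := by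
  haveI : Fact r.Prime := ⟨hr⟩
  by_cases hx : x ∈ Y
  swap
  · exact hL.outside g hg x hx
  obtain ⟨N, F, T, rfl, he⟩ := hY x hx
  have hact : T.act ⟨g, hg⟩ = 1 := by
    rw [← orderOf_eq_one_iff]
    have h1 : orderOf (T.act ⟨g, hg⟩) ∣ r := orderOf_dvd_of_pow_eq_one (by
      rw [← map_pow, show (⟨g, hg⟩ : ↥K) ^ r = 1 from Subtype.ext (by simpa using hgr), map_one])
    rcases (Nat.dvd_prime hr).1 h1 with h | h
    · exact h
    · exfalso
      have h2 : orderOf (T.act ⟨g, hg⟩) ∣ 24 := by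
        have := orderOf_dvd_natCard (T.act ⟨g, hg⟩)
        rwa [Nat.card_perm, Nat.card_fin] at this
      rw [h] at h2
      have : r ∣ 2 * 2 * (2 * 3) := h2
      rcases hr.dvd_mul.1 this with h3 | h3 <;> rcases hr.dvd_mul.1 h3 with h4 | h4 <;>
        · have := Nat.le_of_dvd (by norm_num) h4; omega
  set s : Set α := (orbit K x : Set α) ∩ T.π ⁻¹' {T.π x} with hs
  have hsub : (orbit (Subgroup.zpowers g) x : Set α) ⊆ s := by
    rintro _ ⟨⟨m, hm⟩, rfl⟩
    have hmK : m ∈ K := Subgroup.zpowers_le.2 hg hm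
    refine ⟨smul_mem_orbit' hmK (mem_orbit_self x), ?_⟩
    show T.π (m • x) = T.π x
    rw [T.map_smul ⟨m, hmK⟩ x (mem_orbit_self x)]
    obtain ⟨i, rfl⟩ := Subgroup.mem_zpowers_iff.1 hm
    rw [show (⟨g ^ i, hmK⟩ : ↥K) = (⟨g, hg⟩ : ↥K) ^ i from Subtype.ext (by simp), map_zpow, hact,
      one_zpow]
    rfl
  have h6 : (orbit (Subgroup.zpowers g) x : Set α).ncard ∣ r := by
    have h7 : (stabilizer (Subgroup.zpowers g) x).index ∣ Nat.card (Subgroup.zpowers g) :=
      Subgroup.index_dvd_card _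
    rw [index_stabilizer, Nat.card_zpowers] at h7
    exact h7.trans (orderOf_dvd_of_pow_eq_one hgr)
  have h8 := (Set.ncard_le_ncard hsub).trans_eq (T.fibre_ncard _)
  rcases (Nat.dvd_prime hr).1 h6 with h | h
  · obtain ⟨c, hc⟩ := Set.ncard_eq_one.1 h
    have e1 : x ∈ (orbit (Subgroup.zpowers g) x : Set α) := mem_orbit_self x
    have e2 : g • x ∈ (orbit (Subgroup.zpowers g) x : Set α) :=
      ⟨⟨g, Subgroup.mem_zpowers g⟩, rfl⟩
    rw [hc, Set.mem_singleton_iff] at e1 e2
    exact e2.trans e1.symm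
  · omega

namespace Counter

variable {t : ℕ} {X : Set α} (hS : Step p G t X)

include hS

/-- Without alternating types there is a contradiction. -/
theorem Step.absurd_noA [FaithfulSMul G α] {a : α} (ha : a ∉ X)
    (hnoW : ∀ y ∈ (insert a X)ᶜ, Covered p (hOf (G := G) p (insert a X)) y →
      IsOType p (hOf (G := G) p (insert a X)) y)
    (hnoA : ∀ y ∈ (insert a X)ᶜ, ∀ N, ¬ IsAType p (hOf (G := G) p (insert a X)) y N) : False := by
  classical
  have hL := hS.localView ha
  set K := hOf (G := G) p (insert a X) with hK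
  obtain ⟨P, hP⟩ := hS.exists_sylow ha
  have hPK := (le_hOf_iff _ P).2 hP
  have hfp := hS.counter.succ_p_le hS.upTo (by have := hS.le; omega)
  have hYf : ((insert a X)ᶜ ∩ pts (P : Subgroup G)).ncard = fixCount p G α - (t + 1) := by
    rw [ncard_pts_inter_compl hP, hS.counter.pts_ncard, hS.card_insert ha]
  obtain ⟨rfl, hf3, hd9, hY⟩ := hL.three_of_noA hnoW hnoA hPK (by rw [hYf]; omega)
  -- the numerical data
  rw [dset_compl hP, hS.card_insert ha] at hd9
  have hsm := hS.counter.univ_small P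
  have ht1 : t = 1 := by
    have := hS.le
    push_cast at hd9 hsm
    omega
  subst ht1
  have hf5 : fixCount 3 G α = 5 := by omega
  have hn : Nat.card α = 14 := by
    rw [← defect_eq_dset P, defect, hf5] at hd9
    push_cast at hd9
    omega
  -- no element of order five in `K`
  have h5 : ¬ 5 ∣ Nat.card K := by
    intro h
    haveI : Fact (Nat.Prime 5) := ⟨by norm_num⟩
    obtain ⟨g, hg⟩ := exists_prime_orderOf_dvd_card' (G := K) 5 h
    have hg5 : (g : G) ^ 5 = 1 := by
      have h1 := pow_orderOf_eq_one g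
      rw [hg] at h1
      simpa using congrArg Subtype.val h1
    have h1 : (g : G) = 1 := eq_of_smul_eq_smul fun z : α => by
      rw [hL.smul_eq_of_four g.2 (by norm_num : Nat.Prime 5) le_rfl hg5 hY z, one_smul]
    rw [show g = 1 from Subtype.ext h1, orderOf_one] at hg
    omega
  -- the Sylow subgroups through a pair form one class of `K`
  set lam := (sylFix (G := G) 3 (insert a X)).ncard with hlam
  have hlamK : lam ∣ Nat.card K := by
    have horb : sylFix (G := G) 3 (insert a X) = (orbit K P : Set (Sylow 3 G)) := by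
      ext Q
      constructor
      · intro hQ
        obtain ⟨k, hk, hkQ⟩ := exists_conj_of_le P Q hPK ((le_hOf_iff _ Q).2 hQ)
        exact ⟨⟨k, hk⟩, hkQ⟩
      · rintro ⟨k, rfl⟩
        exact (le_hOf_iff _ _).1 (Sylow.smul_le hPK k)
    rw [hlam, horb, ← index_stabilizer]
    exact Subgroup.index_dvd_card _
  haveI := Fintype.ofFinite α
  haveI := Fintype.ofFinite (Sylow 3 G)
  have hcount := Finset.sum_card_bipartiteAbove_eq_sum_card_bipartiteBelow
    (fun (Z : Finset α) (Q : Sylow 3 G) => (Z : Set α) ⊆ pts (Q : Subgroup G))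
    (s := (Finset.univ : Finset α).powersetCard 2) (t := (Finset.univ : Finset (Sylow 3 G)))
  rw [Finset.sum_congr rfl (fun Z hZ => show _ = lam from ?_), Finset.sum_const, smul_eq_mul,
    Finset.card_powersetCard, Finset.card_univ, ← Nat.card_eq_fintype_card, hn,
    Finset.sum_congr rfl (fun Q _ => show _ = 10 from ?_), Finset.sum_const, smul_eq_mul,
    show Nat.choose 14 2 = 91 from rfl] at hcount
  · have : 5 ∣ lam := by omega
    exact h5 (this.trans hlamK)
  · have h10 : Nat.choose (pts (Q : Subgroup G) : Set α).toFinset.card 2 = 10 := by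
      rw [← Set.ncard_eq_toFinset_card', hS.counter.pts_ncard, hf5]
      rfl
    rw [← h10, ← Finset.card_powersetCard]
    congr 1
    ext Z
    simp only [Finset.mem_bipartiteBelow, Finset.mem_powersetCard, Finset.subset_univ, true_and]
    rw [← Finset.coe_subset, Set.coe_toFinset]
    exact and_comm
  · rw [← Set.ncard_coe_finset]
    rw [hlam, hS.counter.sylFix_ncard_eq hS.upTo (by norm_num) (hS.card_insert ha)
      (Z' := (Z : Set α)) (by rw [Set.ncard_coe_finset]; exact (Finset.mem_powersetCard.1 hZ).2)]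
    congr 1
    ext Q
    simp [sylFix, Finset.mem_bipartiteAbove]

end Counter

end Cfsg.Agent.HalfFix
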