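import Cfsg.Agent.Lib.HalfFix.Unknown
import Cfsg.Agent.Lib.HalfFix.AFinish
import Cfsg.Agent.Lib.HalfFix.NoA

/-!
# The main lemma

A primitive group generated by `p`-elements in which a Sylow subgroup fixes at least `p` points has
defect larger than `p (p - 2)`, for odd `p`.
-/

set_option autoImplicit false

namespace Cfsg.Agent.HalfFix

open MulAction Equiv
open scoped Pointwise

universe u v w

variable {p : ℕ} [Fact p.Prime]

/-- The number of fixed points does not change along a surjection. -/
theorem fixCount_surj {G : Type u} {G' : Type w} [Group G] [Finite G] [Group G'] [Finite G']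
    {α : Type v} [MulAction G α] [MulAction G' α] (φ : G →* G') (hφ : Function.Surjective φ)
    (h : ∀ (g : G) (x : α), φ g • x = g • x) : fixCount p G' α = fixCount p G α := by
  rw [fixCount_eq ((default : Sylow p G).mapSurjective hφ), fixCount_eq (default : Sylow p G)]
  congr 1
  ext x
  constructor
  · intro hx g hg
    rw [← h]; exact hx _ ⟨g, hg, rfl⟩
  · rintro hx _ ⟨g, hg, rfl⟩
    rw [h]; exact hx g hg

namespace Counter

variable {G : Type u} [Group G] [Finite G] {α : Type} [MulAction G α] [Finite α]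

/-- One more point. -/
theorem trans_succ [FaithfulSMul G α] (hC : Counter p G α) {t : ℕ} (ht : TransUpTo p G α t)
    (htp : t + 2 ≤ p) : TransUpTo p G α (t + 1) := by
  classical
  intro X' hX' hcov'
  rcases Nat.lt_or_ge t X'.ncard with hlt | hle
  swap
  · exact ht X' hle hcov'
  obtain ⟨a, haX'⟩ := Set.nonempty_of_ncard_ne_zero (s := X') (by omega)
  set X := X' \ {a} with hXdef
  have hins : insert a X = X' := Set.insert_sdiff_self_of_mem haX'
  have ha : a ∉ X := fun h => h.2 rfl
  have hS : Step p G t X :=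
    ⟨hC, ht, htp, by rw [hXdef, Set.ncard_sdiff_singleton_of_mem haX']; omega⟩
  by_contra hnt'
  rw [← hins] at hnt'
  have hnt : ∀ c, c ∉ X → ¬ TransOn (hOf (G := G) p (insert c X)) (insert c X)ᶜ := by
    intro c hc htr
    obtain ⟨h, hh, rfl⟩ := hS.exists_smul_eq' ha hc
    apply hnt'
    intro x hx y hy
    have hm : ∀ z ∈ (insert a X)ᶜ, h • z ∈ (insert (h • a) X)ᶜ := fun z hz => by
      rw [← hOf_smul_insert hh, Set.mem_compl_iff, Set.smul_mem_smul_set_iff]; exact hz
    obtain ⟨k, hk, hkxy⟩ := htr _ (hm x hx) _ (hm y hy)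
    refine ⟨h⁻¹ * k * h, (mem_hOf_smul h _).1 (by rw [hOf_smul_insert hh]; exact hk), ?_⟩
    rw [mul_smul, mul_smul, hkxy, inv_smul_smul]
  have hnoW : ∀ c, c ∉ X → ∀ y ∈ (insert c X)ᶜ, Covered p (hOf (G := G) p (insert c X)) y →
      IsOType p (hOf (G := G) p (insert c X)) y :=
    fun c hc y hy hcov => hS.isOType_of_covered hc (hnt c hc) hy hcov
  set S : Set ℕ := {N | ∃ c, c ∉ X ∧ ∃ b ∈ (insert c X)ᶜ,
    IsAType p (hOf (G := G) p (insert c X)) b N}
  rcases Set.eq_empty_or_nonempty S with hS0 | hS1
  · exact hS.absurd_noA ha (hnoW a ha) fun y hy N hN =>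
      Set.notMem_empty N (hS0 ▸ (⟨a, ha, y, hy, hN⟩ : N ∈ S))
  · have hfin : S.Finite := (Set.finite_Iic (Nat.card α)).subset <| by
      rintro N ⟨c, -, b, -, F, T, -⟩
      refine le_trans ?_ ((Set.ncard_le_ncard (Set.subset_univ
        (orbit (hOf (G := G) p (insert c X)) b))).trans (Set.ncard_univ α).le)
      rw [T.ncard_eq]
      exact Nat.le_mul_of_pos_left N T.e_pos
    obtain ⟨M, hM, hmax⟩ := Set.exists_max_image S id hfin hS1
    have hV : AView p G t X M :=
      ⟨hS, hnoW, fun c hc b hb N hN => hmax N ⟨c, hc, b, hb, hN⟩, hM⟩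
    exact hV.absurd_of_not_trans hnt

theorem absurd [FaithfulSMul G α] (hC : Counter p G α) : False := by
  have hp := (Fact.out : p.Prime)
  have hall : ∀ t, t + 1 ≤ p → TransUpTo p G α t := by
    intro t
    induction t with
    | zero => exact fun _ => hC.transUpTo_zero
    | succ t ih => exact fun h => hC.trans_succ (ih (by omega)) (by omega)
  have hlt := Nat.mod_lt (fixCount p G α) hp.pos
  have hb := hC.big
  exact hC.not_dvd (hall (p - 1) (by omega)) (i := fixCount p G α % p) (by omega) (by omega)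
    (Nat.dvd_sub_mod _)

end Counter

/-- The main lemma. -/
theorem mainBelow (hp3 : 3 ≤ p) (n : ℕ) : MainBelow.{u} p n := by
  induction n with
  | zero => exact fun h _ _ _ _ => absurd h (Nat.not_lt_zero _)
  | succ n ih =>
    intro G _ _ α _ _ hlt hgen hprim h1 hF
    rcases Nat.lt_or_eq_of_le (Nat.lt_succ_iff.1 hlt) with h | h
    · exact ih h hgen hprim h1 hF
    by_contra hsmall
    push Not at hsmall
    set φ := toPermHom G α
    let π := QuotientGroup.mk' φ.ker
    letI : MulAction (G ⧸ φ.ker) α := MulAction.compHom α (QuotientGroup.kerLift φ)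
    haveI : FaithfulSMul (G ⧸ φ.ker) α :=
      ⟨fun h' => QuotientGroup.kerLift_injective φ (Equiv.ext h')⟩
    have hπ : ∀ (g : G) (x : α), π g • x = g • x := fun g x => rfl
    have hfix : fixCount p (G ⧸ φ.ker) α = fixCount p G α :=
      fixCount_surj π (QuotientGroup.mk'_surjective _) hπ
    let f : α →ₑ[(π : G → G ⧸ φ.ker)] α := { toFun := id, map_smul' := fun g x => (hπ g x).symm }
    haveI := hprim
    have hprim' : IsPreprimitive (G ⧸ φ.ker) α :=
      (isPreprimitive_congr (f := f) (QuotientGroup.mk'_surjective _) Function.bijective_id).1 hprim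
    exact Counter.absurd (G := G ⧸ φ.ker) (α := α)
      ⟨hp3, hgen.of_surjective π (QuotientGroup.mk'_surjective _), hprim', h1, hfix ▸ hF,
        by unfold defect at hsmall ⊢; rw [hfix]; exact hsmall, h ▸ ih⟩

end Cfsg.Agent.HalfFix
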