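import Cfsg.Agent.S0713
import Cfsg.Agent.Lib.Involution.IndexTwo
import Cfsg.Agent.Lib.HalfFix.Basic
import Mathlib.GroupTheory.SpecificGroups.Alternating.Simple

/-!
# Permutation groups of degree less than `2 p` containing an element of order `p`
-/

set_option autoImplicit false

namespace Cfsg.Agent.HalfFix

open MulAction Equiv
open scoped Pointwise

variable {p : ℕ} [Fact p.Prime] {N : ℕ}

theorem isCycle_of_orderOf {g : Perm (Fin N)} (hg : orderOf g = p) (hN : N < 2 * p) :
    g.IsCycle ∧ g.support.card = p := by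
  have h1 : g.IsCycle := Perm.isCycle_of_prime_order' (hg ▸ (Fact.out : p.Prime))
    (by rw [hg, Fintype.card_fin]; exact hN)
  exact ⟨h1, by rw [← h1.orderOf, hg]⟩

theorem smul_fin_eq (R : Subgroup (Perm (Fin N))) (r : R) (i : Fin N) :
    r • i = (r : Perm (Fin N)) i := rfl

/-- A transitive group of degree `< 2 p` with an element of order `p` is primitive. -/
theorem isPreprimitive_of_orderOf (R : Subgroup (Perm (Fin N))) [IsPretransitive R (Fin N)]
    {g : Perm (Fin N)} (hgR : g ∈ R) (hg : orderOf g = p) (hN : N < 2 * p) :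
    IsPreprimitive R (Fin N) := by
  have hp := (Fact.out : p.Prime)
  obtain ⟨hcyc, hsupp⟩ := isCycle_of_orderOf hg hN
  obtain ⟨a, ha, hcyc'⟩ := hcyc
  refine IsPreprimitive.of_isTrivialBlock_base a fun {B} haB hB => ?_
  have hNB : B.Nonempty := ⟨a, haB⟩
  have hdvd := hB.ncard_dvd_card hNB
  rw [Nat.card_fin] at hdvd
  obtain ⟨k, hk⟩ := hdvd
  by_contra hnt
  rw [IsTrivialBlock, not_or] at hnt
  have h2 : 2 ≤ B.ncard := by
    by_contra h
    exact hnt.1 ((Set.ncard_le_one (Set.toFinite _)).1 (by omega))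
  have hk2 : 2 ≤ k := by
    by_contra h
    apply hnt.2
    refine Set.eq_of_subset_of_ncard_le (Set.subset_univ _) ?_
    rw [Set.ncard_univ, Nat.card_fin]
    interval_cases k <;> omega
  -- `g` moves the block of `a` or fixes it setwise
  rcases hB.smul_eq_or_disjoint (⟨g, hgR⟩ : R) with hfix | hdis
  · have hsub : (g.support : Set (Fin N)) ⊆ B := by
      intro x hx
      obtain ⟨i, rfl⟩ := hcyc' (Perm.mem_support.1 hx)
      have h3 : ((⟨g, hgR⟩ : R) ^ i) • B = B := (stabilizer R B).zpow_mem hfix i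
      rw [← h3]
      refine ⟨a, haB, ?_⟩
      show ((⟨g, hgR⟩ : R) ^ i) • a = (g ^ i) a
      rw [smul_fin_eq, SubgroupClass.coe_zpow]
    have h4 := Set.ncard_le_ncard hsub
    rw [Set.ncard_coe_finset, hsupp] at h4
    have : 2 * p ≤ B.ncard * k := by
      calc 2 * p ≤ 2 * B.ncard := by omega
        _ ≤ B.ncard * k := by rw [mul_comm]; exact Nat.mul_le_mul_left _ hk2
    omega
  · -- the translates of `B` under the powers of `g` are pairwise disjoint
    have hne : ((⟨g, hgR⟩ : R) • B) ≠ B := fun h => by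
      rw [h] at hdis
      exact hNB.ne_empty (disjoint_self.1 hdis)
    set T : Set (Set (Fin N)) := orbit (Subgroup.zpowers (⟨g, hgR⟩ : R)) B
    have hT : p ≤ T.ncard := by
      have h5 : T.ncard ∣ p := by
        have h6 : (stabilizer (Subgroup.zpowers (⟨g, hgR⟩ : R)) B).index ∣
            Nat.card (Subgroup.zpowers (⟨g, hgR⟩ : R)) := Subgroup.index_dvd_card _
        rwa [index_stabilizer, Nat.card_zpowers, Subgroup.orderOf_mk, hg] at h6
      rcases (Nat.dvd_prime hp).1 h5 with h7 | h7
      · exfalso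
        refine hne ?_
        obtain ⟨C, hC⟩ := Set.ncard_eq_one.1 h7
        have hB' : B ∈ T := mem_orbit_self B
        have hgB : (⟨g, hgR⟩ : R) • B ∈ T :=
          ⟨⟨⟨g, hgR⟩, Subgroup.mem_zpowers _⟩, rfl⟩
        rw [hC, Set.mem_singleton_iff] at hB' hgB
        rw [hgB, hB']
      · exact h7.ge
    have hle : T.ncard * B.ncard ≤ N := by
      have hsub : T ⊆ Set.range fun r : R => r • B := by
        rintro _ ⟨r, rfl⟩; exact ⟨r, rfl⟩
      have h8 := (hB.isBlockSystem hNB)
      calc T.ncard * B.ncard ≤ (Set.range fun r : R => r • B).ncard * B.ncard :=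
            Nat.mul_le_mul_right _ (Set.ncard_le_ncard hsub)
        _ = Nat.card (Fin N) := by rw [mul_comm]; exact hB.ncard_block_mul_ncard_orbit_eq hNB
        _ = N := Nat.card_fin N
    have : p * 2 ≤ T.ncard * B.ncard := Nat.mul_le_mul hT h2
    omega

/-- A transitive subgroup of `A_7` with an element of order `5` is `A_7`. -/
theorem eq_alt_seven (R : Subgroup (Perm (Fin 7))) (hR : R ≤ alternatingGroup (Fin 7))
    [IsPretransitive R (Fin 7)] {g : Perm (Fin 7)} (hgR : g ∈ R) (hg : orderOf g = 5) :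
    R = alternatingGroup (Fin 7) := by
  haveI : Fact (Nat.Prime 5) := ⟨by norm_num⟩
  obtain ⟨hcyc, hsupp⟩ := isCycle_of_orderOf (p := 5) hg (by norm_num)
  have hprim := isPreprimitive_of_orderOf (p := 5) R hgR hg (by norm_num)
  obtain ⟨a, ha⟩ : ∃ a, g a = a := by
    by_contra h
    push Not at h
    have : g.support = Finset.univ := Finset.eq_univ_of_forall fun x => Perm.mem_support.2 (h x)
    rw [this] at hsupp; simp at hsupp
  have hga : (⟨g, hgR⟩ : R) ∈ stabilizer R a := ha
  set Ra := stabilizer R a with hRa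
  have hcardR : Nat.card R = 7 * Nat.card Ra := by
    rw [← Subgroup.index_mul_card Ra, index_stabilizer_of_transitive, Nat.card_fin]
  have h5 : 5 ∣ Nat.card Ra := by
    have := orderOf_dvd_natCard (⟨⟨g, hgR⟩, hga⟩ : Ra)
    rwa [Subgroup.orderOf_mk, Subgroup.orderOf_mk, hg] at this
  -- `Ra` is transitive on the six other points
  have hmoved : ∀ x, g x ≠ x → ∀ y, g y ≠ y → y ∈ orbit Ra x := by
    intro x hx y hy
    obtain ⟨i, hi⟩ := hcyc.sameCycle hx hy
    exact ⟨(⟨⟨g, hgR⟩, hga⟩ : Ra) ^ i, by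
      show (((⟨⟨g, hgR⟩, hga⟩ : Ra) ^ i : Ra) : R) • x = y
      rw [SubgroupClass.coe_zpow, smul_fin_eq, SubgroupClass.coe_zpow]; exact hi⟩
  have htrans : ∀ x, x ≠ a → ∀ y, y ≠ a → y ∈ orbit Ra x := by
    obtain ⟨z, hz⟩ : ∃ z, g z ≠ z := hcyc.imp fun _ h => h.1
    suffices h : ∀ x, x ≠ a → x ∈ orbit Ra z by
      intro x hx y hy
      rw [orbit_eq_iff.2 (h x hx)]; exact h y hy
    intro x hx
    by_cases hgx : g x = x
    swap
    · exact hmoved z hz x hgx
    by_contra hxo
    -- otherwise `Ra` fixes `x`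
    have hfix : ∀ k : Ra, ((k : R) : Perm (Fin 7)) x = x := by
      intro k
      by_contra hkx
      set y := ((k : R) : Perm (Fin 7)) x with hy
      have hgy : g y ≠ y := by
        intro hgy
        have hyx : y ≠ x := hkx
        have hya : y ≠ a := fun h => hx (((k : R) : Perm (Fin 7)).injective (h.trans (k.2).symm))
        have hsub : ({a, x, y} : Finset (Fin 7)) ⊆ g.supportᶜ := by
          intro w hw
          simp only [Finset.mem_insert, Finset.mem_singleton] at hw
          rw [Finset.mem_compl, Perm.notMem_support]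
          rcases hw with rfl | rfl | rfl
          exacts [ha, hgx, hgy]
        have := Finset.card_le_card hsub
        rw [Finset.card_compl, hsupp, Finset.card_eq_three.2
          ⟨a, x, y, hx.symm, hya.symm, hyx.symm, rfl⟩, Fintype.card_fin] at this
        omega
      refine hxo ?_
      have h1 : y ∈ orbit Ra z := hmoved z hz y hgy
      have h2 : x ∈ orbit Ra y := ⟨k⁻¹, by
        show ((k⁻¹ : Ra) : R) • ((k : R) • x) = x
        rw [← mul_smul, ← Subgroup.coe_mul, inv_mul_cancel, Subgroup.coe_one, one_smul]⟩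
      rw [← orbit_eq_iff.2 h1]; exact h2
    have hblock : Ra = stabilizer R x := by
      refine Subgroup.eq_of_le_of_card_ge (fun k hk => hfix ⟨k, hk⟩) ?_
      have h1 := Subgroup.index_mul_card (stabilizer R x)
      rw [index_stabilizer_of_transitive, Nat.card_fin, hcardR] at h1
      omega
    have hcoat : IsCoatom Ra := IsPreprimitive.isCoatom_stabilizer_of_isPreprimitive R a
    obtain ⟨r, hr⟩ := exists_smul_eq R a x
    have hr_not : r ∉ Ra := fun h => hx (hr.symm.trans h)
    have hnorm : Ra ≤ (Ra : Subgroup R) ⊔ Subgroup.zpowers r := le_sup_left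
    have htop : (Ra : Subgroup R) ⊔ Subgroup.zpowers r = ⊤ := hcoat.2 _ (lt_of_le_of_ne hnorm
      fun h => hr_not (h ▸ (le_sup_right : Subgroup.zpowers r ≤ _) (Subgroup.mem_zpowers r)))
    have hle : (Ra : Subgroup R) ⊔ Subgroup.zpowers r ≤ Subgroup.normalizer (Ra : Set R) := by
      refine sup_le Subgroup.le_normalizer (Subgroup.zpowers_le.2 ?_)
      rw [Subgroup.mem_normalizer_iff]
      intro k
      conv_rhs => rw [hblock, mem_stabilizer_iff, ← hr, mul_smul, mul_smul, inv_smul_smul,
        smul_left_cancel_iff]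
      rfl
    have hnormal : Ra.Normal := Subgroup.normalizer_eq_top_iff.1 (top_unique (htop.symm.le.trans hle))
    have hall : ∀ k : Ra, (k : R) = 1 := fun k => Subtype.ext <| Equiv.ext fun w => by
      obtain ⟨s, hs⟩ := exists_smul_eq R a w
      have h1 : s⁻¹ * (k : R) * s ∈ Ra := by simpa using hnormal.conj_mem _ k.2 s⁻¹
      have h2 : (s⁻¹ * (k : R) * s) • a = a := h1
      rw [mul_smul, mul_smul, hs, inv_smul_eq_iff, hs] at h2
      exact h2
    have := hall ⟨⟨g, hgR⟩, hga⟩
    have hg1 : g = 1 := congrArg Subtype.val this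
    rw [hg1] at hg; simp at hg
  have h6 : 6 ∣ Nat.card Ra := by
    obtain ⟨z, hz⟩ : ∃ z, g z ≠ z := hcyc.imp fun _ h => h.1
    have hza : z ≠ a := fun h => hz (by rw [h]; exact ha)
    have : orbit Ra z = {a}ᶜ := by
      ext w
      refine ⟨?_, fun hw => htrans z hza w hw⟩
      rintro ⟨k, rfl⟩ hwa
      exact hza (MulAction.injective (k : R) (hwa.trans (k.2).symm))
    have h1 := Nat.card_congr (orbitProdStabilizerEquivGroup Ra z)
    rw [Nat.card_prod, Nat.card_coe_set_eq, this, Set.ncard_compl, Set.ncard_singleton,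
      Nat.card_fin] at h1
    exact ⟨_, h1.symm⟩
  have h30 : 30 ∣ Nat.card Ra := by
    have := Nat.Coprime.mul_dvd_of_dvd_of_dvd (by norm_num : Nat.Coprime 6 5) h6 h5
    simpa using this
  obtain ⟨c, hc⟩ := h30
  have hA : Nat.card (alternatingGroup (Fin 7)) = 2520 := by
    rw [nat_card_alternatingGroup, Nat.card_fin]; rfl
  have hidx := Subgroup.card_mul_index (R.subgroupOf (alternatingGroup (Fin 7)))
  rw [Nat.card_congr (Subgroup.subgroupOfEquivOfLe hR).toEquiv, hA, hcardR, hc] at hidx
  set K := R.subgroupOf (alternatingGroup (Fin 7)) with hK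
  by_contra hne
  have hKtop : K ≠ ⊤ := fun h => hne (le_antisymm hR (Subgroup.subgroupOf_eq_top.1 h))
  haveI : IsSimpleGroup (alternatingGroup (Fin 7)) := alternatingGroup.isSimpleGroup (by simp)
  have hinj : (toPermHom (alternatingGroup (Fin 7)) (alternatingGroup (Fin 7) ⧸ K)).ker = ⊥ := by
    rcases (inferInstance : (toPermHom (alternatingGroup (Fin 7))
      (alternatingGroup (Fin 7) ⧸ K)).ker.Normal).eq_bot_or_eq_top with h | h
    · exact h
    · refine absurd (top_unique fun x _ => ?_) hKtop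
      have := congrArg (fun σ : Perm (alternatingGroup (Fin 7) ⧸ K) => σ ((1 : alternatingGroup (Fin 7)) : _ ⧸ K))
        (MonoidHom.mem_ker.1 (h ▸ Subgroup.mem_top x :
          x ∈ (toPermHom (alternatingGroup (Fin 7)) (alternatingGroup (Fin 7) ⧸ K)).ker))
      simpa [QuotientGroup.eq] using this
  have hle : 2520 ≤ Nat.factorial K.index := by
    rw [← hA, Subgroup.index_eq_card, ← Nat.card_perm]
    exact Nat.card_le_card_of_injective _ ((MonoidHom.ker_eq_bot_iff _).1 hinj)
  have hk7 : 7 ≤ K.index := by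
    by_contra h
    have : Nat.factorial K.index ≤ Nat.factorial 6 := Nat.factorial_le (by omega)
    have h720 : Nat.factorial 6 = 720 := rfl
    omega
  have hc1 : c = 1 := by
    have h1 : c * K.index = 12 := by linarith
    by_contra hc1
    rcases Nat.eq_zero_or_pos c with rfl | hc0
    · omega
    · have := Nat.mul_le_mul (show 2 ≤ c by omega) hk7
      omega
  subst hc1
  -- a group of order 30, transitive on six points, with a subgroup of order 15
  haveI : Fact (Nat.Prime 2) := ⟨Nat.prime_two⟩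
  obtain ⟨T⟩ := (inferInstance : Nonempty (Sylow 2 Ra))
  have hT : Nat.card (T : Subgroup Ra) = 2 := by
    rw [T.card_eq_multiplicity, hc]
    have : (30 * 1 : ℕ).factorization 2 = 1 := by
      rw [show (30 * 1 : ℕ) = 2 * 15 by norm_num, Nat.factorization_mul (by norm_num) (by norm_num),
        Finsupp.add_apply, Nat.prime_two.factorization_self,
        Nat.factorization_eq_zero_of_not_dvd (by norm_num)]
    rw [this, pow_one]
  obtain ⟨M, hM⟩ := Cfsg.Agent.Involution.exists_index_two (by rw [hc]; decide) T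
    (isCyclic_of_prime_card hT)
  haveI : M.Normal := Subgroup.normal_of_index_eq_two hM
  have hMc : Nat.card M = 15 := by
    have := Subgroup.card_mul_index M; rw [hM, hc] at this; omega
  set g' : Ra := ⟨⟨g, hgR⟩, hga⟩
  have hgM : g' ∈ M := by
    have h1 : g' ^ 2 ∈ M := by
      have := Subgroup.pow_index_mem M g'
      rwa [hM] at this
    have h2 : g' = (g' ^ 2) ^ 3 := by
      rw [← pow_mul, show 2 * 3 = 5 + 1 by norm_num, pow_succ,
        show g' ^ 5 = 1 from Subtype.ext (Subtype.ext (hg ▸ pow_orderOf_eq_one g)), one_mul]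
    rw [h2]; exact M.pow_mem h1 3
  obtain ⟨z, hz⟩ : ∃ z, g z ≠ z := hcyc.imp fun _ h => h.1
  have hMorb : ∀ x, x ≠ a → x ∈ orbit M z := by
    intro x hx
    have hzo : ∀ y, g y ≠ y → y ∈ orbit M z := fun y hy => by
      obtain ⟨i, hi⟩ := hcyc.sameCycle hz hy
      exact ⟨⟨g' ^ i, M.zpow_mem hgM i⟩, by
        show (((g' ^ i : Ra) : R)) • z = y
        rw [SubgroupClass.coe_zpow, smul_fin_eq, SubgroupClass.coe_zpow]; exact hi⟩
    by_cases hgx : g x = x
    swap
    · exact hzo x hgx
    obtain ⟨k, hk⟩ := htrans z (fun h => hz (by rw [h]; exact ha)) x hx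
    -- a point of the cycle mapped into the cycle, since `k` cannot move five points onto two
    obtain ⟨y, hy, hky⟩ : ∃ y, g y ≠ y ∧ g (((k : R) : Perm (Fin 7)) y) ≠ ((k : R) : Perm (Fin 7)) y := by
      by_contra hcon
      push Not at hcon
      have hsub : g.support.image ((k : R) : Perm (Fin 7)) ⊆ g.supportᶜ := by
        intro w hw
        obtain ⟨y, hy, rfl⟩ := Finset.mem_image.1 hw
        rw [Finset.mem_compl, Perm.notMem_support]
        exact hcon y (Perm.mem_support.1 hy)
      have := Finset.card_le_card hsub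
      rw [Finset.card_image_of_injective _ (Equiv.injective _), Finset.card_compl, hsupp,
        Fintype.card_fin] at this
      omega
    obtain ⟨m, hm⟩ := hzo y hy
    obtain ⟨m', hm'⟩ := hzo _ hky
    -- `k` maps the orbit of `z` to itself
    refine ⟨⟨k * (m : Ra)⁻¹ * k⁻¹, Subgroup.Normal.conj_mem inferInstance _ (M.inv_mem m.2) k⟩ * m', ?_⟩
    show (⟨k * (m : Ra)⁻¹ * k⁻¹, _⟩ * m' : M) • z = x
    rw [mul_smul]
    have hm'' : m' • z = (k : R) • y := hm'
    rw [hm'']
    show ((k : Ra) * (m : Ra)⁻¹ * k⁻¹) • (k • y) = x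
    rw [mul_smul, inv_smul_smul, mul_smul]
    have : ((m : Ra)⁻¹ • y) = z := inv_smul_eq_iff.2 hm.symm
    rw [this]
    exact hk
  have : orbit M z = {a}ᶜ := by
    ext w
    refine ⟨?_, fun hw => hMorb w hw⟩
    rintro ⟨k, rfl⟩ hwa
    exact hz (by
      have : z = a := MulAction.injective ((k : Ra) : R) (hwa.trans ((k : Ra).2).symm)
      rw [this]; exact ha)
  have h1 := Nat.card_congr (orbitProdStabilizerEquivGroup M z)
  rw [Nat.card_prod, Nat.card_coe_set_eq, this, Set.ncard_compl, Set.ncard_singleton,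
    Nat.card_fin, hMc] at h1
  omega

/-- The cases in which a transitive group with an element of order `p` is alternating. -/
def AltCond (p F : ℕ) : Prop := 3 ≤ F ∨ (p = 5 ∧ F = 2) ∨ (p = 3 ∧ F = 2)

theorem AltCond.two_le {F : ℕ} (h : AltCond p F) : 2 ≤ F := by
  rcases h with h | ⟨-, h⟩ | ⟨-, h⟩ <;> omega

theorem eq_alt_of_transitive {F : ℕ} (hN : N = F + p) (hF : F < p) (hcond : AltCond p F)
    (R : Subgroup (Perm (Fin N))) (hR : R ≤ alternatingGroup (Fin N)) [IsPretransitive R (Fin N)]
    {g : Perm (Fin N)} (hgR : g ∈ R) (hg : orderOf g = p) : R = alternatingGroup (Fin N) := by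
  have hN2 : N < 2 * p := by omega
  have hprim := isPreprimitive_of_orderOf R hgR hg hN2
  obtain ⟨hcyc, hsupp⟩ := isCycle_of_orderOf hg hN2
  refine le_antisymm hR ?_
  rcases hcond with h | ⟨rfl, rfl⟩ | ⟨rfl, rfl⟩
  · have hp := (Fact.out : p.Prime).two_le
    exact Cfsg.Agent.S0713.result R hprim Fact.out (by rw [Fintype.card_fin]; omega)
      (by rw [Fintype.card_fin]; omega) hcyc hsupp hgR
  · subst hN
    exact (eq_alt_seven R hR hgR hg).ge
  · exact Perm.alternatingGroup_le_of_isPreprimitive_of_isThreeCycle_mem hprim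
      (card_support_eq_three_iff.1 hsupp) hgR

end Cfsg.Agent.HalfFix
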