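import Cfsg.Agent.Lib.HalfFix.Known
import Cfsg.Agent.Lib.HalfFix.PermFacts

/-!
# Orbit types: orbits of small defect of a subgroup, inside the ambient action
-/

set_option autoImplicit false

namespace Cfsg.Agent.HalfFix

open MulAction Equiv
open scoped Pointwise

universe u v

/-- An orbit `O` of `K` with a quotient of `N = F + p` blocks whose fixed blocks are pointwise fixed. -/
structure OType (p : ℕ) {G : Type u} [Group G] {α : Type v} [MulAction G α] (K : Subgroup G)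
    (O : Set α) (N F : ℕ) where
  act : ↥K →* Equiv.Perm (Fin N)
  π : α → Fin N
  stable : ∀ k ∈ K, ∀ x ∈ O, k • x ∈ O
  trans : TransOn K O
  gen : pGen p K = K
  map_smul : ∀ (k : ↥K), ∀ x ∈ O, π ((k : G) • x) = act k (π x)
  surj : ∀ i, ∃ x ∈ O, π x = i
  N_eq : N = F + p
  F_pos : 1 ≤ F
  F_lt : F < p
  sylow : ∃ P : Sylow p G, (P : Subgroup G) ≤ K
  fix_blk : ∀ P : Sylow p G, (P : Subgroup G) ≤ K →
    {i : Fin N | ∀ k : ↥K, (k : G) ∈ (P : Subgroup G) → act k i = i}.ncard = F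
  fixed : ∀ P : Sylow p G, (P : Subgroup G) ≤ K → ∀ x ∈ O,
    (∀ k : ↥K, (k : G) ∈ (P : Subgroup G) → act k (π x) = π x) → x ∈ pts (P : Subgroup G)

namespace OType

variable {p : ℕ} [Fact p.Prime] {G : Type u} [Group G] [Finite G] {α : Type v} [MulAction G α]
  {K : Subgroup G} {O : Set α} {N F : ℕ} (T : OType p K O N F)

/-- The blocks fixed by `S`. -/
def blkFix (S : Subgroup G) : Set (Fin N) :=
  {i | ∀ k : ↥K, (k : G) ∈ S → T.act k i = i}

/-- `T` is of alternating type. -/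
def IsA (_ : OType p K O N F) : Prop := AltCond p F

include T in
theorem lt_two_mul : N < 2 * p := by have := T.N_eq; have := T.F_lt; omega

include T in
theorem p_lt : p < N := by have := T.N_eq; have := T.F_pos; omega

theorem range_trans : IsPretransitive T.act.range (Fin N) where
  exists_smul_eq i j := by
    obtain ⟨x, hx, rfl⟩ := T.surj i
    obtain ⟨y, hy, rfl⟩ := T.surj j
    obtain ⟨k, hk, rfl⟩ := T.trans x hx y hy
    exact ⟨⟨T.act ⟨k, hk⟩, ⟨k, hk⟩, rfl⟩, (T.map_smul ⟨k, hk⟩ x hx).symm⟩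

theorem exists_fix_block (i : Fin N) :
    ∃ P : Sylow p G, (P : Subgroup G) ≤ K ∧ i ∈ T.blkFix P := by
  obtain ⟨P, hP⟩ := T.sylow
  obtain ⟨j, hj⟩ : (T.blkFix P).Nonempty :=
    Set.nonempty_of_ncard_ne_zero (by rw [blkFix, T.fix_blk P hP]; have := T.F_pos; omega)
  obtain ⟨⟨_, k, rfl⟩, hk⟩ := T.range_trans.exists_smul_eq j i
  have hk' : T.act k j = i := hk
  refine ⟨(k : G) • P, Sylow.smul_le hP k, fun m hm => ?_⟩
  rw [sylow_smul_coe, Subgroup.mem_pointwise_smul_iff_inv_smul_mem] at hm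
  have h1 := hj (k⁻¹ * m * k) (by simpa [MulAut.smul_def, MulAut.conj_inv_apply] using hm)
  rw [map_mul, map_mul, map_inv, Perm.mul_apply, Perm.mul_apply, hk', Perm.inv_eq_iff_eq] at h1
  rw [h1, hk']

/-- A `p`-element fixing the block of `x` fixes `x`. -/
theorem smul_eq_of_pElement {g : G} (hg : g ∈ K) {j : ℕ} (hj : g ^ p ^ j = 1) {x : α} (hx : x ∈ O)
    (h : T.act ⟨g, hg⟩ (T.π x) = T.π x) : g • x = x := by
  obtain ⟨P, hP, hPi⟩ := T.exists_fix_block (T.π x)
  let S : Subgroup G := ((stabilizer (↥T.act.range) (T.π x)).comap T.act.rangeRestrict).map K.subtype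
  have hS : ∀ k : ↥K, (k : G) ∈ S ↔ T.act k (T.π x) = T.π x := by
    intro k
    constructor
    · rintro ⟨k', hk', h'⟩
      obtain rfl : k' = k := Subtype.ext h'
      exact hk'
    · exact fun hk => ⟨k, hk, rfl⟩
  have hPS : (P : Subgroup G) ≤ S := fun m hm => (hS ⟨m, hP hm⟩).2 (hPi ⟨m, hP hm⟩ hm)
  obtain ⟨Q, hQ, hgQ⟩ := exists_sylow_mem P hPS ((hS ⟨g, hg⟩).2 h) hj
  have hQK : (Q : Subgroup G) ≤ K := hQ.trans (Subgroup.map_subtype_le _)
  exact T.fixed Q hQK x hx (fun k hk => (hS k).1 (hQ hk)) g hgQ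

theorem smul_eq_of_kernel {g : G} (hg : g ∈ K) {j : ℕ} (hj : g ^ p ^ j = 1)
    (h : T.act ⟨g, hg⟩ = 1) {x : α} (hx : x ∈ O) : g • x = x :=
  T.smul_eq_of_pElement hg hj hx (by rw [h]; rfl)

theorem range_le_alternating (hp : p ≠ 2) : T.act.range ≤ alternatingGroup (Fin N) := by
  rintro _ ⟨k, rfl⟩
  rw [Perm.mem_alternatingGroup]
  have hgen : IsGen p ↥K := by
    have := isGen_pGen (p := p) K
    rwa [T.gen] at this
  refine hgen.eq_one_of_not_dvd ?_ (Perm.sign.comp T.act) k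
  rw [Nat.card_eq_fintype_card, Fintype.card_units_int]
  intro h
  exact hp ((Nat.prime_dvd_prime_iff_eq Fact.out Nat.prime_two).1 h)

/-- A Sylow subgroup induces a `p`-cycle. -/
theorem exists_cycle (P : Sylow p G) (hP : (P : Subgroup G) ≤ K) :
    ∃ c : ↥K, (c : G) ∈ (P : Subgroup G) ∧ orderOf (T.act c) = p ∧
      (∀ k : ↥K, (k : G) ∈ (P : Subgroup G) → T.act k ∈ Subgroup.zpowers (T.act c)) ∧
      ∀ i, i ∈ T.blkFix P ↔ T.act c i = i := by
  have hp := (Fact.out : p.Prime)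
  set Q : Subgroup (Perm (Fin N)) := ((P : Subgroup G).subgroupOf K).map T.act with hQ
  have hQp : IsPGroup p Q :=
    (P.isPGroup'.of_equiv (Subgroup.subgroupOfEquivOfLe hP).symm).map T.act
  obtain ⟨a, ha⟩ := IsPGroup.iff_card.1 hQp
  have hdvd : Nat.card Q ∣ Nat.factorial N := by
    have := Subgroup.card_subgroup_dvd_card Q
    rwa [Nat.card_perm, Nat.card_fin] at this
  have ha1 : a ≤ 1 := by
    have h1 := (hp.pow_dvd_iff_le_factorization (Nat.factorial_pos N).ne').1 (ha ▸ hdvd)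
    refine h1.trans ?_
    have := T.lt_two_mul
    rw [Nat.factorization_factorial hp (b := 2) (Nat.log_lt_of_lt_pow (by have := T.p_lt; omega)
      (by nlinarith [hp.two_le]))]
    rw [show Finset.Ico 1 2 = {1} from rfl, Finset.sum_singleton, pow_one]
    exact Nat.lt_succ_iff.1 (Nat.div_lt_of_lt_mul (by omega))
  have hne : ∃ c : ↥K, (c : G) ∈ (P : Subgroup G) ∧ T.act c ≠ 1 := by
    by_contra h
    push Not at h
    have : T.blkFix P = Set.univ := Set.eq_univ_of_forall fun i k hk => by rw [h k hk]; rfl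
    have h1 := T.fix_blk P hP
    rw [← blkFix, this, Set.ncard_univ, Nat.card_fin] at h1
    have := T.N_eq
    have := hp.pos
    omega
  obtain ⟨c, hcP, hc⟩ := hne
  have hcQ : T.act c ∈ Q := ⟨c, hcP, rfl⟩
  have hcard : Nat.card Q = p := by
    rcases Nat.eq_zero_or_pos a with rfl | h
    · exfalso
      rw [pow_zero] at ha
      exact hc (Subgroup.mem_bot.1 (Subgroup.eq_bot_of_card_eq Q ha ▸ hcQ))
    · rw [ha, show a = 1 by omega, pow_one]
  have hord : orderOf (T.act c) = p := by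
    have := orderOf_dvd_natCard (⟨T.act c, hcQ⟩ : Q)
    rw [hcard, Subgroup.orderOf_mk] at this
    rcases (Nat.dvd_prime hp).1 this with h | h
    · exact absurd (orderOf_eq_one_iff.1 h) hc
    · exact h
  have hzp : Subgroup.zpowers (T.act c) = Q := Subgroup.eq_of_le_of_card_ge
    (Subgroup.zpowers_le.2 hcQ) (by rw [hcard, Nat.card_zpowers, hord])
  have hmem : ∀ k : ↥K, (k : G) ∈ (P : Subgroup G) → T.act k ∈ Subgroup.zpowers (T.act c) := by
    intro k hk
    rw [hzp]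
    exact ⟨k, hk, rfl⟩
  refine ⟨c, hcP, hord, hmem, fun i => ⟨fun h => h c hcP, fun h k hk => ?_⟩⟩
  obtain ⟨z, hz⟩ := Subgroup.mem_zpowers_iff.1 (hmem k hk)
  rw [← hz]
  exact Perm.zpow_apply_eq_self_of_apply_eq_self h z

/-- A subgroup containing a Sylow subgroup with transitive image has alternating image. -/
theorem map_eq_alt (hp : p ≠ 2) (hA : T.IsA) (L : Subgroup ↥K) (P : Sylow p G)
    (hP : (P : Subgroup G) ≤ K) (hPL : ∀ k : ↥K, (k : G) ∈ (P : Subgroup G) → k ∈ L)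
    (htr : ∀ i j, ∃ k ∈ L, T.act k i = j) : L.map T.act = alternatingGroup (Fin N) := by
  obtain ⟨c, hc, hord, -⟩ := T.exists_cycle P hP
  haveI : IsPretransitive (L.map T.act) (Fin N) := ⟨fun i j => by
    obtain ⟨k, hk, hkij⟩ := htr i j
    exact ⟨⟨T.act k, k, hk, rfl⟩, hkij⟩⟩
  refine eq_alt_of_transitive T.N_eq T.F_lt hA _ ?_ ⟨c, hPL c hc, rfl⟩ hord
  rintro _ ⟨k, -, rfl⟩
  exact T.range_le_alternating hp ⟨k, rfl⟩

theorem range_eq_alt (hp : p ≠ 2) (hA : T.IsA) : T.act.range = alternatingGroup (Fin N) := by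
  obtain ⟨P, hP⟩ := T.sylow
  rw [MonoidHom.range_eq_map]
  refine T.map_eq_alt hp hA ⊤ P hP (fun _ _ => Subgroup.mem_top _) fun i j => ?_
  obtain ⟨⟨_, k, rfl⟩, hk⟩ := T.range_trans.exists_smul_eq i j
  exact ⟨k, Subgroup.mem_top _, hk⟩

variable [Finite α]

/-- The block size. -/
noncomputable def e (_ : OType p K O N F) : ℕ := O.ncard / N

theorem fibre_ncard (i : Fin N) : (O ∩ T.π ⁻¹' {i}).ncard = T.e := by
  classical
  haveI := Fintype.ofFinite α
  have hconst : ∀ j, (O ∩ T.π ⁻¹' {j}).ncard = (O ∩ T.π ⁻¹' {i}).ncard := by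
    intro j
    obtain ⟨⟨_, k, rfl⟩, hk⟩ := T.range_trans.exists_smul_eq i j
    have hk' : T.act k i = j := hk
    rw [← ncard_smul_set (k : G) (O ∩ T.π ⁻¹' {i})]
    congr 1
    ext x
    rw [Set.mem_smul_set_iff_inv_smul_mem]
    constructor
    · rintro ⟨hx, hxj⟩
      refine ⟨T.stable _ (K.inv_mem k.2) x hx, ?_⟩
      simp only [Set.mem_preimage, Set.mem_singleton_iff] at hxj ⊢
      rw [← Subgroup.coe_inv, T.map_smul k⁻¹ x hx, hxj, map_inv, Perm.inv_eq_iff_eq, hk']
    · rintro ⟨hx, hxi⟩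
      have h1 := T.stable _ k.2 _ hx
      rw [smul_inv_smul] at h1
      refine ⟨h1, ?_⟩
      simp only [Set.mem_preimage, Set.mem_singleton_iff] at hxi ⊢
      conv_lhs => rw [← smul_inv_smul (k : G) x, T.map_smul k _ hx, hxi, hk']
  have hsum : O.ncard = N * (O ∩ T.π ⁻¹' {i}).ncard := by
    rw [Set.ncard_eq_toFinset_card', Finset.card_eq_sum_card_fiberwise (f := T.π)
      (t := Finset.univ) (fun _ _ => Finset.mem_univ _)]
    rw [Finset.sum_congr rfl (fun j _ => show _ = (O ∩ T.π ⁻¹' {i}).ncard from ?_), Finset.sum_const,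
      Finset.card_univ, Fintype.card_fin, smul_eq_mul]
    rw [← hconst j, ← Set.ncard_coe_finset]
    congr 1
    ext x; simp
  rw [e, hsum, Nat.mul_div_cancel_left _ (by have := T.p_lt; omega)]

theorem e_pos : 1 ≤ T.e := by
  have i : Fin N := ⟨0, by have := T.p_lt; omega⟩
  rw [← T.fibre_ncard i]
  obtain ⟨x, hx, hxi⟩ := T.surj i
  exact (Set.ncard_pos).2 ⟨x, hx, hxi⟩

theorem ncard_eq : O.ncard = T.e * N := by
  classical
  haveI := Fintype.ofFinite α
  rw [Set.ncard_eq_toFinset_card', Finset.card_eq_sum_card_fiberwise (f := T.π)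
    (t := Finset.univ) (fun _ _ => Finset.mem_univ _)]
  rw [Finset.sum_congr rfl (fun j _ => show _ = T.e from ?_), Finset.sum_const,
    Finset.card_univ, Fintype.card_fin, smul_eq_mul, mul_comm]
  rw [← T.fibre_ncard j, ← Set.ncard_coe_finset]
  congr 1
  ext x; simp

theorem pts_eq (P : Sylow p G) (hP : (P : Subgroup G) ≤ K) :
    O ∩ pts (P : Subgroup G) = O ∩ T.π ⁻¹' T.blkFix P := by
  ext x
  refine ⟨fun ⟨hx, hx'⟩ => ⟨hx, fun k hk => ?_⟩, fun ⟨hx, hx'⟩ => ⟨hx, T.fixed P hP x hx hx'⟩⟩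
  rw [← T.map_smul k x hx, hx' _ hk]

theorem ncard_fix (P : Sylow p G) (hP : (P : Subgroup G) ≤ K) :
    (O ∩ pts (P : Subgroup G)).ncard = T.e * F := by
  classical
  haveI := Fintype.ofFinite α
  rw [T.pts_eq P hP, Set.ncard_eq_toFinset_card', Finset.card_eq_sum_card_fiberwise (f := T.π)
    (t := (T.blkFix P).toFinset) (fun x hx => by
      simp only [Set.coe_toFinset, Set.mem_inter_iff, Set.mem_preimage] at hx
      simp only [Set.coe_toFinset]
      exact hx.2)]
  rw [Finset.sum_congr rfl (fun j hj => show _ = T.e from ?_), Finset.sum_const,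
    smul_eq_mul, ← Set.ncard_eq_toFinset_card', blkFix, T.fix_blk P hP, mul_comm]
  rw [← T.fibre_ncard j, ← Set.ncard_coe_finset]
  congr 1
  ext x
  simp only [Set.mem_toFinset] at hj
  simp only [Finset.coe_filter, Set.mem_toFinset, Set.mem_inter_iff, Set.mem_preimage,
    Set.mem_setOf_eq, Set.mem_singleton_iff]
  exact ⟨fun h => ⟨h.1.1, h.2⟩, fun h => ⟨⟨h.1, h.2 ▸ hj⟩, h.2⟩⟩

theorem dset_eq (P : Sylow p G) (hP : (P : Subgroup G) ≤ K) :
    dset p (P : Subgroup G) O = (T.e : ℤ) * p * ((p : ℤ) - 1 - F) := by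
  have hN : (N : ℤ) = F + p := by exact_mod_cast T.N_eq
  rw [dset, T.ncard_fix P hP, T.ncard_eq]
  push_cast
  rw [hN]
  ring

end OType

variable {p : ℕ} [Fact p.Prime] {G : Type u} [Group G] [Finite G]

/-- The classification of orbits of small defect. -/
theorem classify_orbit {α : Type} [MulAction G α] [Finite α] {n : ℕ} (hmain : MainBelow.{u} p n)
    (hp3 : 3 ≤ p) {K : Subgroup G} (hK : pGen p K = K) (P : Sylow p G) (hP : (P : Subgroup G) ≤ K)
    (b : α) (hlt : (orbit K b).ncard < n) (h1 : 1 < (orbit K b).ncard)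
    (hD : dset p (P : Subgroup G) (orbit K b) ≤ p * (2 * (p : ℤ) - 3)) :
    (∃ N F, Nonempty (OType p K (orbit K b) N F)) ∨
      (IsPreprimitive K (orbit K b) ∧
        (p : ℤ) * ((p : ℤ) - 1) ≤ dset p (P : Subgroup G) (orbit K b) ∧
        (orbit K b ∩ pts (P : Subgroup G) = ∅ → (orbit K b).ncard = p)) := by
  classical
  have hgen : IsGen p ↥K := by
    have := isGen_pGen (p := p) K
    rwa [hK] at this
  rw [← Nat.card_coe_set_eq] at hlt h1
  rw [← defect_orbit P hP b] at hD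
  rcases classify (G := ↥K) (α := ↥(orbit K b)) hmain hlt hgen h1 hp3 hD with
    ⟨N, F, ⟨T⟩⟩ | ⟨hprim, hbig, hzero⟩
  · left
    have hN0 : 0 < N := by have := T.N_eq; have := T.F_pos; omega
    let π : α → Fin N := fun x => if hx : x ∈ orbit K b then T.π ⟨x, hx⟩ else ⟨0, hN0⟩
    have hπ : ∀ x (hx : x ∈ orbit K b), π x = T.π ⟨x, hx⟩ := fun x hx => dif_pos hx
    have hst : ∀ k ∈ K, ∀ x ∈ orbit K b, k • x ∈ orbit K b := fun k hk x hx =>
      MulAction.mem_orbit_of_mem_orbit (⟨k, hk⟩ : K) hx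
    have hblk : ∀ (Q : Sylow p G) (hQ : (Q : Subgroup G) ≤ K),
        (pts ((Q.subtype hQ : Sylow p K) : Subgroup K) : Set T.toSys.Blk) =
          {i : Fin N | ∀ k : ↥K, (k : G) ∈ (Q : Subgroup G) → T.act k i = i} := fun Q hQ => rfl
    refine ⟨N, F, ⟨{
      act := T.act
      π := π
      stable := hst
      trans := fun x hx y hy => by
        obtain ⟨k, hk⟩ := exists_smul_eq K (⟨x, hx⟩ : orbit K b) ⟨y, hy⟩
        exact ⟨k, k.2, congrArg Subtype.val hk⟩
      gen := hK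
      map_smul := fun k x hx => by
        rw [hπ _ (hst _ k.2 x hx), hπ _ hx]
        exact T.map_smul k ⟨x, hx⟩
      surj := fun i => by
        obtain ⟨⟨x, hx⟩, rfl⟩ := T.surj i
        exact ⟨x, hx, hπ x hx⟩
      N_eq := T.N_eq
      F_pos := T.F_pos
      F_lt := T.F_lt
      sylow := ⟨P, hP⟩
      fix_blk := fun Q hQ => by
        have h2 := (fixCount_eq (Q.subtype hQ)).symm.trans T.fix_blk
        rw [hblk Q hQ] at h2
        exact h2
      fixed := fun Q hQ x hx h => by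
        have h2 : T.toSys.proj ⟨x, hx⟩ ∈ pts ((Q.subtype hQ : Sylow p K) : Subgroup K) := by
          rw [hblk Q hQ]
          intro k hk
          have := h k hk
          rw [hπ x hx] at this
          exact this
        intro g hg
        exact congrArg Subtype.val (T.fixed (Q.subtype hQ) ⟨x, hx⟩ h2 ⟨g, hQ hg⟩ hg) }⟩⟩
  · right
    refine ⟨hprim, by rw [← defect_orbit P hP b]; exact hbig, fun h0 => ?_⟩
    rw [← Nat.card_coe_set_eq]
    refine hzero ?_
    rw [fixCount_eq (P.subtype hP), ← Set.ncard_image_of_injective _ Subtype.val_injective]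
    rw [show (Subtype.val '' (pts ((P.subtype hP : Sylow p K) : Subgroup K) : Set (orbit K b))) = ∅
      from ?_, Set.ncard_empty]
    refine Set.eq_empty_iff_forall_notMem.2 ?_
    rintro _ ⟨⟨x, hx⟩, hx', rfl⟩
    exact Set.notMem_empty x (h0 ▸ ⟨hx, fun g hg => congrArg Subtype.val (hx' ⟨g, hP hg⟩ hg)⟩)

end Cfsg.Agent.HalfFix
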