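import Cfsg.Agent.Lib.HalfFix.PermFacts
import Mathlib.GroupTheory.Perm.Centralizer
import Mathlib.GroupTheory.SpecificGroups.Cyclic

/-!
# The centralizer and normalizer of a `p`-cycle
-/

set_option autoImplicit false

namespace Cfsg.Agent.HalfFix

open MulAction Equiv
open scoped Pointwise

universe v

variable {p : ℕ} [Fact p.Prime] {β : Type v} [Fintype β] [DecidableEq β]

theorem card_centralizer_cycle {c : Perm β} (hc : c.IsCycle) (hs : c.support.card = p) :
    Nat.card (Subgroup.centralizer ({c} : Set (Perm β))) = (Fintype.card β - p).factorial * p := by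
  rw [Perm.nat_card_centralizer, hc.cycleType, hs]
  simp

/-- The normalizer of `⟨c⟩` has order dividing `(p - 1) p (N - p)!`. -/
theorem card_normalizer_cycle_dvd {c : Perm β} (hc : c.IsCycle) (hs : c.support.card = p) :
    Nat.card (Subgroup.normalizer (Subgroup.zpowers c : Set (Perm β))) ∣
      (p - 1) * (p * (Fintype.card β - p).factorial) := by
  set C := Subgroup.zpowers c
  set f := C.normalizerMonoidHom
  rw [← f.ker.card_mul_index, Subgroup.index_ker]
  have hker : Nat.card f.ker = (Fintype.card β - p).factorial * p := by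
    rw [← card_centralizer_cycle hc hs, Subgroup.normalizerMonoidHom_ker]
    have h1 : Subgroup.centralizer (C : Set (Perm β)) ≤ Subgroup.normalizer (C : Set (Perm β)) :=
      Subgroup.centralizer_le_normalizer _
    rw [Nat.card_congr (Subgroup.subgroupOfEquivOfLe h1).toEquiv]
    simp only [C, Subgroup.zpowers_eq_closure, Subgroup.centralizer_closure]
  have hord : Nat.card C = p := by rw [Nat.card_zpowers, hc.orderOf, hs]
  have hdvd : Nat.card f.range ∣ p - 1 := by
    have := Subgroup.card_subgroup_dvd_card f.range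
    rwa [IsCyclic.card_mulAut, hord, Nat.totient_prime Fact.out] at this
  rw [hker, mul_comm, mul_comm (Fintype.card β - p).factorial p]
  exact Nat.mul_dvd_mul_right hdvd _

/-- An odd element halves the even part. -/
theorem two_mul_card_inf_alternating [Nontrivial β] (A : Subgroup (Perm β)) {h : Perm β} (hA : h ∈ A)
    (hodd : Perm.sign h = -1) :
    2 * Nat.card (A ⊓ alternatingGroup β : Subgroup (Perm β)) = Nat.card A := by
  set f : A →* ℤˣ := Perm.sign.comp A.subtype with hf
  have hsurj : Function.Surjective f := fun u => by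
    rcases Int.units_eq_one_or u with rfl | rfl
    · exact ⟨1, map_one f⟩
    · exact ⟨⟨h, hA⟩, hodd⟩
  have hk : f.ker = (alternatingGroup β).subgroupOf A := by
    ext x
    rw [MonoidHom.mem_ker, Subgroup.mem_subgroupOf, Perm.mem_alternatingGroup]
    rfl
  have h1 := f.ker.index_mul_card
  rw [Subgroup.index_ker, MonoidHom.range_eq_top.2 hsurj, Subgroup.card_top, Nat.card_eq_fintype_card,
    Fintype.card_units_int] at h1
  rw [← h1, hk, ← Subgroup.inf_subgroupOf_left,
    Nat.card_congr (Subgroup.subgroupOfEquivOfLe (inf_le_left : A ⊓ alternatingGroup β ≤ A)).toEquiv]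

/-- An odd permutation normalizing `⟨c⟩`. -/
theorem exists_odd_normalizer {c : Perm β} (hc : c.IsCycle) (hs : c.support.card = p) (hp : p ≠ 2)
    (hcard : p + 1 ≤ Fintype.card β) :
    ∃ h ∈ Subgroup.normalizer (Subgroup.zpowers c : Set (Perm β)), Perm.sign h = -1 := by
  have hpp := (Fact.out : p.Prime)
  rcases Nat.lt_or_ge (p + 1) (Fintype.card β) with h2 | h2
  · -- a transposition of two fixed points
    have : 1 < c.supportᶜ.card := by rw [Finset.card_compl, hs]; omega
    obtain ⟨u, hu, v, hv, huv⟩ := Finset.one_lt_card.1 this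
    rw [Finset.mem_compl, Perm.notMem_support] at hu hv
    refine ⟨swap u v, Subgroup.centralizer_le_normalizer _ ?_, Perm.sign_swap huv⟩
    rw [Subgroup.zpowers_eq_closure, Subgroup.centralizer_closure, Subgroup.mem_centralizer_singleton_iff]
    rw [Equiv.mul_swap_eq_swap_mul, hu, hv]
  -- one fixed point: a generator of the automorphism group of `⟨c⟩`
  have hfix : c.supportᶜ.card = 1 := by rw [Finset.card_compl, hs]; omega
  obtain ⟨u, hu⟩ := Finset.card_eq_one.1 hfix
  obtain ⟨a, ha⟩ : ∃ a, c a ≠ a := hc.imp fun _ h => h.1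
  have hord : orderOf c = p := by rw [hc.orderOf, hs]
  obtain ⟨g, hg⟩ := IsCyclic.exists_generator (α := (ZMod p)ˣ)
  set k := ((g : ZMod p)).val with hk
  have hk0 : ¬ p ∣ k := by
    intro h
    have h1 : ((k : ℕ) : ZMod p) = 0 := (ZMod.natCast_eq_zero_iff k p).2 h
    rw [hk, ZMod.natCast_zmod_val] at h1
    exact g.ne_zero h1
  have hcop : k.Coprime p := ((hpp.coprime_iff_not_dvd).2 hk0).symm
  have hconj : IsConj c (c ^ k) := by
    rw [Perm.isConj_iff_cycleType_eq, hc.cycleType, hs, ((hc.pow_iff).2 (by rw [hord]; exact hcop)).cycleType]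
    congr 1
    rw [← hs, Perm.support_pow_coprime (by rw [hord]; exact hcop)]
  obtain ⟨h₀, hh₀⟩ := isConj_iff.1 hconj
  have hhc₀ : ∀ x, h₀ (c x) = (c ^ k) (h₀ x) := fun x => by
    rw [← hh₀]; simp [Perm.mul_apply]
  have hmove : c (h₀ a) ≠ h₀ a := by
    intro h
    apply ha
    apply h₀.injective
    rw [hhc₀]
    exact Perm.pow_apply_eq_self_of_apply_eq_self h k
  obtain ⟨i, hi⟩ := hc.exists_zpow_eq hmove ha
  set h := c ^ i * h₀ with hh
  have hha : h a = a := by rw [hh, Perm.mul_apply, hi]
  have hhc : h * c * h⁻¹ = c ^ k := by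
    rw [hh, mul_inv_rev, show c ^ i * h₀ * c * (h₀⁻¹ * (c ^ i)⁻¹) = c ^ i * (h₀ * c * h₀⁻¹) * (c ^ i)⁻¹
      by group, hh₀, ← zpow_natCast, ← zpow_neg, ← zpow_add, ← zpow_add]
    congr 1
    omega
  have hnorm : h ∈ Subgroup.normalizer (Subgroup.zpowers c : Set (Perm β)) := by
    refine Subgroup.mem_normalizer_fintype fun x hx => ?_
    obtain ⟨z, rfl⟩ := Subgroup.mem_zpowers_iff.1 hx
    rw [← conj_zpow, hhc, ← zpow_natCast, ← zpow_mul]
    exact Subgroup.zpow_mem_zpowers c _
  have hpow : ∀ (j : ℕ), h ^ j * c * (h ^ j)⁻¹ = c ^ (k ^ j) := by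
    intro j
    induction j with
    | zero => simp
    | succ j ih =>
      rw [pow_succ', show h * h ^ j * c * (h * h ^ j)⁻¹ = h * (h ^ j * c * (h ^ j)⁻¹) * h⁻¹ by group,
        ih, ← conj_pow, hhc, ← pow_mul, mul_comm k, ← pow_succ]
  have hsupp : h.support = c.support.erase a := by
    ext x
    rw [Finset.mem_erase, Perm.mem_support, Perm.mem_support]
    constructor
    · intro hx
      refine ⟨fun e => hx (e ▸ hha), fun e => hx ?_⟩
      have hxu : x = u := Finset.mem_singleton.1 (hu ▸ by simpa using e)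
      have h2 : c (h x) = h x := by
        have h3 : (c ^ k) (h x) = h x := by
          rw [← hhc]; simp [Perm.mul_apply, e]
        by_contra h4
        have h5 : h x ∈ (c ^ k).support := by
          rw [Perm.support_pow_coprime (by rw [hord]; exact hcop), Perm.mem_support]
          exact h4
        exact Perm.mem_support.1 h5 h3
      have hhxu : h x = u := Finset.mem_singleton.1 (hu ▸ by simpa using h2)
      rw [hhxu, hxu]
    · rintro ⟨hxa, hcx⟩ hhx
      obtain ⟨m, rfl⟩ := (Perm.IsCycle.exists_pow_eq hc ha hcx)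
      have h1 : h ((c ^ m) a) = (c ^ (k * m)) a := by
        have : h * c ^ m * h⁻¹ = c ^ (k * m) := by rw [← conj_pow, hhc, ← pow_mul]
        rw [← this, Perm.mul_apply (h * c ^ m) h⁻¹, Perm.inv_eq_iff_eq.2 hha.symm]
        rfl
      rw [h1] at hhx
      have h2 : (k * m) % p = m % p := by
        have hinj := (Perm.IsCycle.pow_eq_pow_iff hc (a := k * m) (b := m)).2 ⟨a, ha, hhx⟩
        rw [pow_eq_pow_iff_modEq, hord] at hinj
        exact hinj
      have hk1 : k % p = 1 ∨ m % p = 0 := by
        by_cases hm0 : m % p = 0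
        · exact Or.inr hm0
        left
        have h3 : ((k : ZMod p)) * (m : ZMod p) = (m : ZMod p) := by
          rw [← Nat.cast_mul]; exact (ZMod.natCast_eq_natCast_iff' _ _ _).2 h2
        have h4 : (m : ZMod p) ≠ 0 := fun e => hm0 (by
          have := (ZMod.natCast_eq_natCast_iff' m 0 p).1 (by simpa using e)
          simpa using this)
        have h5 : (k : ZMod p) = ((1 : ℕ) : ZMod p) := by
          have := mul_right_cancel₀ h4 (h3.trans (one_mul _).symm)
          simpa using this
        have := (ZMod.natCast_eq_natCast_iff' k 1 p).1 h5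
        rwa [Nat.one_mod_eq_one.2 hpp.ne_one] at this
      rcases hk1 with hk1 | hm0
      · -- `g = 1` contradicts `p - 1 > 1`
        have hg1 : g = 1 := by
          apply Units.ext
          rw [← ZMod.natCast_zmod_val (g : ZMod p), ← hk, Units.val_one]
          have : ((k : ℕ) : ZMod p) = ((1 : ℕ) : ZMod p) :=
            (ZMod.natCast_eq_natCast_iff' k 1 p).2 (by rw [hk1, Nat.one_mod_eq_one.2 hpp.ne_one])
          simpa using this
        have hall : ∀ x : (ZMod p)ˣ, x = 1 := fun x => by
          obtain ⟨z, hz⟩ := Subgroup.mem_zpowers_iff.1 (hg x)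
          rw [← hz, hg1, one_zpow]
        have h6 : Fintype.card (ZMod p)ˣ ≤ 1 := Fintype.card_le_one_iff.2 fun x y => by rw [hall x, hall y]
        rw [ZMod.card_units p] at h6
        have := hpp.two_le
        omega
      · apply hxa
        have : c ^ m = 1 := orderOf_dvd_iff_pow_eq_one.1 (hord ▸ Nat.dvd_of_mod_eq_zero hm0)
        rw [this]; rfl
  refine ⟨h, hnorm, ?_⟩
  have hca : c a ≠ a := ha
  have hcyc : h.IsCycle := by
    have hcaS : h (c a) ≠ c a := by
      rw [← Perm.mem_support, hsupp, Finset.mem_erase, Perm.mem_support]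
      exact ⟨ha, fun e => ha (c.injective e)⟩
    refine ⟨c a, hcaS, fun y hy => ?_⟩
    rw [← Perm.mem_support, hsupp, Finset.mem_erase, Perm.mem_support] at hy
    obtain ⟨m, rfl⟩ := Perm.IsCycle.exists_pow_eq hc ha hy.2
    have hm0 : ¬ p ∣ m := fun hd => hy.1 (by
      rw [orderOf_dvd_iff_pow_eq_one.1 (hord ▸ hd)]; rfl)
    have hmz : (m : ZMod p) ≠ 0 := fun e => hm0 ((ZMod.natCast_eq_zero_iff m p).1 e)
    obtain ⟨j, hj⟩ := mem_powers_iff_mem_zpowers.2 (hg (Units.mk0 _ hmz))
    refine ⟨(j : ℤ), ?_⟩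
    rw [zpow_natCast]
    have h1 : (h ^ j) (c a) = (c ^ (k ^ j)) a := by
      rw [← hpow j, Perm.mul_apply, Perm.mul_apply,
        Perm.inv_eq_iff_eq.2 (Perm.pow_apply_eq_self_of_apply_eq_self hha j).symm]
    rw [h1]
    congr 1
    rw [pow_eq_pow_iff_modEq, hord]
    have hj' : ((g ^ j : (ZMod p)ˣ) : ZMod p) = (m : ZMod p) := by
      have e : g ^ j = Units.mk0 _ hmz := hj
      rw [e]; rfl
    refine (ZMod.natCast_eq_natCast_iff' _ _ _).1 ?_
    rw [← hj', Units.val_pow_eq_pow_val, Nat.cast_pow, hk, ZMod.natCast_zmod_val]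
  rw [hcyc.sign, hsupp, Finset.card_erase_of_mem (Perm.mem_support.2 ha), hs]
  have : Even (p - 1) := Nat.Odd.sub_odd (hpp.odd_of_ne_two hp) odd_one
  rw [this.neg_one_pow]

end Cfsg.Agent.HalfFix
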