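import Cfsg.Agent.Lib.HalfFix.PermFacts
import Cfsg.Agent.Lib.Coprime.Invariant
import Mathlib.GroupTheory.Transfer

/-!
# Small groups generated by `p`-elements, and groups of degree `p + 2`
-/

set_option autoImplicit false

namespace Cfsg.Agent.HalfFix

open MulAction Equiv
open scoped Pointwise

variable {p : ℕ} [Fact p.Prime] {N : ℕ}

/-- A group of degree `< 2 p` generated by `p`-elements, with an element of order `p`, is transitive
or fixes a point. -/
theorem transitive_or_fix (R : Subgroup (Perm (Fin N))) (hR : pGen p R = R) {c : Perm (Fin N)}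
    (hcR : c ∈ R) (hord : orderOf c = p) (hN : N < 2 * p) :
    IsPretransitive R (Fin N) ∨ ∃ i, ∀ r ∈ R, r i = i := by
  classical
  obtain ⟨hcyc, hsupp⟩ := isCycle_of_orderOf hord hN
  obtain ⟨i₀, hi₀⟩ : ∃ i, c i ≠ i := hcyc.imp fun _ h => h.1
  by_cases hall : ∀ i, i ∈ orbit R i₀
  · left
    refine ⟨fun i j => ?_⟩
    obtain ⟨r, rfl⟩ := hall i
    obtain ⟨s, rfl⟩ := hall j
    exact ⟨s * r⁻¹, by show (s * r⁻¹) • r • i₀ = s • i₀; rw [mul_smul, inv_smul_smul]⟩
  right
  push Not at hall
  obtain ⟨i, hi⟩ := hall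
  refine ⟨i, fun r hr => ?_⟩
  have hsub : (c.support : Set (Fin N)) ⊆ orbit R i₀ := by
    intro x hx
    obtain ⟨z, hz⟩ := hcyc.sameCycle hi₀ (Perm.mem_support.1 hx)
    exact ⟨⟨c ^ z, R.zpow_mem hcR z⟩, hz⟩
  have hsmall : (orbit R i₀ : Set (Fin N))ᶜ.ncard < p := by
    have h1 := Set.ncard_le_ncard hsub
    rw [Set.ncard_coe_finset, hsupp] at h1
    rw [Set.ncard_compl, Nat.card_fin]
    omega
  have hfix : ∀ r ∈ R, ∀ w ∈ (orbit R i₀ : Set (Fin N))ᶜ, r w = w := by
    intro r hr
    rw [← hR] at hr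
    refine Subgroup.closure_induction (p := fun r _ => ∀ w ∈ (orbit R i₀ : Set (Fin N))ᶜ, r w = w)
      ?_ (fun w _ => rfl) ?_ ?_ hr
    · rintro x ⟨hx, j, hj⟩ w hw
      by_contra hne
      have hmem : ∀ m : ℕ, (x ^ m) w ∈ (orbit R i₀ : Set (Fin N))ᶜ := by
        intro m hmem
        apply hw
        have h1 := MulAction.mem_orbit_of_mem_orbit (⟨x ^ m, R.pow_mem hx m⟩ : R)⁻¹ hmem
        have e : (⟨x ^ m, R.pow_mem hx m⟩ : R)⁻¹ • ((x ^ m) w) = w := inv_smul_smul
          (⟨x ^ m, R.pow_mem hx m⟩ : R) w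
        rwa [e] at h1
      obtain ⟨k, -, hk⟩ : ∃ k, k ≤ j ∧ Function.minimalPeriod x w = p ^ k := by
        refine (Nat.dvd_prime_pow Fact.out).1 (Function.IsPeriodicPt.minimalPeriod_dvd ?_)
        show (x : Fin N → Fin N)^[p ^ j] w = w
        rw [← Equiv.Perm.coe_pow, hj]; rfl
      rcases Nat.eq_zero_or_pos k with rfl | hk0
      · exact hne (Function.minimalPeriod_eq_one_iff_isFixedPt.1 (by simpa using hk))
      have hinj : Set.InjOn (fun m : ℕ => (x ^ m) w) (Set.Iio (p ^ k)) := by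
        intro a ha b hb hab
        simp only [Equiv.Perm.coe_pow] at hab
        rw [← hk] at ha hb
        exact Function.iterate_injOn_Iio_minimalPeriod ha hb hab
      have h2 := Set.ncard_le_ncard_of_injOn (fun m : ℕ => (x ^ m) w) (fun m _ => hmem m) hinj
      rw [← Finset.coe_Iio, Set.ncard_coe_finset, Nat.card_Iio] at h2
      have := Nat.le_self_pow hk0.ne' p
      omega
    · intro a b _ _ ha hb w hw
      rw [Perm.mul_apply, hb w hw, ha w hw]
    · intro a _ ha w hw
      rw [Perm.inv_eq_iff_eq, ha w hw]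
  exact hfix r hr i hi

/-- No transitive group of degree `p + 2` has a self-normalizing cyclic Sylow `p`-subgroup. -/
theorem not_selfNormalizing (R : Subgroup (Perm (Fin (2 + p)))) [IsPretransitive R (Fin (2 + p))]
    {c : Perm (Fin (2 + p))} (hcR : c ∈ R) (hord : orderOf c = p) (hp : 3 ≤ p)
    (hnorm : ∀ r ∈ R, (∀ x ∈ Subgroup.zpowers c, r * x * r⁻¹ ∈ Subgroup.zpowers c) →
      r ∈ Subgroup.zpowers c) : False := by
  classical
  have hpp := (Fact.out : p.Prime)
  obtain ⟨hcyc, hsupp⟩ := isCycle_of_orderOf hord (show 2 + p < 2 * p by omega)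
  set C := Subgroup.zpowers c with hC
  have hCR : C ≤ R := Subgroup.zpowers_le.2 hcR
  have hCc : Nat.card C = p := by rw [hC, Nat.card_zpowers, hord]
  have hCp : IsPGroup p C := IsPGroup.of_card (n := 1) (by rw [hCc, pow_one])
  -- `C` is a Sylow subgroup
  have hidx : ¬ p ∣ (C.subgroupOf R).index := by
    intro hd
    have h1 : p * p ∣ Nat.card R := by
      rw [← (C.subgroupOf R).card_mul_index,
        Nat.card_congr (Subgroup.subgroupOfEquivOfLe hCR).toEquiv, hCc]
      exact Nat.mul_dvd_mul_left p hd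
    have h2 : p ^ 2 ∣ (2 + p).factorial := by
      have := Subgroup.card_subgroup_dvd_card R
      rw [Nat.card_perm, Nat.card_fin] at this
      rw [pow_two]
      exact h1.trans this
    have h3 := (hpp.pow_dvd_iff_le_factorization (Nat.factorial_pos _).ne').1 h2
    rw [Nat.factorization_factorial hpp (b := 2) (Nat.log_lt_of_lt_pow (by omega)
      (by nlinarith [hpp.two_le])), show Finset.Ico 1 2 = {1} from rfl, Finset.sum_singleton,
      pow_one] at h3
    have h4 : (2 + p) / p < 2 := Nat.div_lt_of_lt_mul (by omega)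
    omega
  let P : Sylow p R := (hCp.of_equiv (Subgroup.subgroupOfEquivOfLe hCR).symm).toSylow hidx
  have hP : (P : Subgroup R) = C.subgroupOf R := IsPGroup.toSylow_coe _ _
  have hPN : Subgroup.normalizer (P : Set R) ≤ Subgroup.centralizer (P : Set R) := by
    intro r hr
    have hrC : (r : Perm (Fin (2 + p))) ∈ C := hnorm r r.2 fun x hx => by
      have h1 := (Subgroup.mem_normalizer_iff.1 hr ⟨x, hCR hx⟩).1 (show (⟨x, hCR hx⟩ : R) ∈ (P : Subgroup R)
        by rw [hP]; exact hx)
      have h2 : r * ⟨x, hCR hx⟩ * r⁻¹ ∈ (P : Subgroup R) := h1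
      rw [hP] at h2
      exact h2
    refine Subgroup.mem_centralizer_iff.2 fun y hy => ?_
    have hyC : (y : Perm (Fin (2 + p))) ∈ C := by
      have h2 : y ∈ (P : Subgroup R) := hy
      rw [hP] at h2
      exact h2
    obtain ⟨a, ha⟩ := Subgroup.mem_zpowers_iff.1 hrC
    obtain ⟨b, hb⟩ := Subgroup.mem_zpowers_iff.1 hyC
    refine Subtype.ext ?_
    show (y : Perm (Fin (2 + p))) * r = r * y
    rw [← ha, ← hb]
    exact ((Commute.refl c).zpow_zpow b a).eq
  set L := (MonoidHom.transferSylow P hPN).ker with hLdef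
  have hcompl := MonoidHom.ker_transferSylow_isComplement' P hPN
  have hLcop : ¬ p ∣ Nat.card L := MonoidHom.not_dvd_card_ker_transferSylow P hPN
  have hLn : L.Normal := inferInstance
  -- the orbits of `L` are permuted by `C`
  have hLtr : IsPretransitive L (Fin (2 + p)) := by
    by_contra hnt
    obtain ⟨i₀, hi₀⟩ : ∃ i, c i ≠ i := hcyc.imp fun _ h => h.1
    have hB : IsBlock R (orbit L i₀) := IsBlock.orbit_of_normal i₀
    have hne : (orbit L i₀ : Set (Fin (2 + p))).Nonempty := ⟨i₀, mem_orbit_self i₀⟩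
    have h1 := hB.ncard_block_mul_ncard_orbit_eq hne
    rw [Nat.card_fin] at h1
    -- the number of orbits divides `p`
    have h2 : (orbit R (orbit L i₀ : Set (Fin (2 + p)))).ncard ∣ p := by
      rw [← index_stabilizer]
      have hle : L ≤ stabilizer R (orbit L i₀ : Set (Fin (2 + p))) := by
        intro l hl
        rw [mem_stabilizer_iff]
        exact MulAction.smul_orbit (⟨l, hl⟩ : L) i₀
      refine (Subgroup.index_dvd_of_le hle).trans ?_
      rw [hcompl.symm.index_eq_card, hP, Nat.card_congr (Subgroup.subgroupOfEquivOfLe hCR).toEquiv, hCc]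
    rcases (Nat.dvd_prime hpp).1 h2 with h | h
    · apply hnt
      have h3 : orbit L i₀ = Set.univ := by
        refine Set.eq_of_subset_of_ncard_le (Set.subset_univ _) ?_
        rw [Set.ncard_univ, Nat.card_fin]
        have e : (orbit L i₀ : Set (Fin (2 + p))).ncard = 2 + p := by
          have := h1
          rw [h, mul_one] at this
          exact this
        omega
      refine ⟨fun i j => ?_⟩
      obtain ⟨a, ha⟩ : i ∈ orbit L i₀ := h3 ▸ Set.mem_univ i
      obtain ⟨b, hb⟩ : j ∈ orbit L i₀ := h3 ▸ Set.mem_univ j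
      exact ⟨b * a⁻¹, by rw [mul_smul, ← ha, inv_smul_smul]; exact hb⟩
    · rw [h] at h1
      have h5 : p ∣ 2 + p := ⟨_, by rw [mul_comm]; exact h1.symm⟩
      have h6 := Nat.le_of_dvd two_pos ((Nat.dvd_add_left (dvd_refl p)).1 h5)
      omega
  -- two fixed points
  obtain ⟨u, hu, v, hv, huv⟩ := Finset.one_lt_card.1
    (show 1 < c.supportᶜ.card by rw [Finset.card_compl, hsupp, Fintype.card_fin]; omega)
  rw [Finset.mem_compl, Perm.notMem_support] at hu hv
  obtain ⟨l, hl⟩ := exists_smul_eq L u v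
  have hAK : C.subgroupOf R ≤ Subgroup.normalizer (L : Set R) := by
    rw [Subgroup.normalizer_eq_top]; exact le_top
  have hcop : (Nat.card (C.subgroupOf R)).Coprime (Nat.card L) := by
    rw [Nat.card_congr (Subgroup.subgroupOfEquivOfLe hCR).toEquiv, hCc]
    exact (hpp.coprime_iff_not_dvd).2 hLcop
  have hsolv : Group.IsSolvable (C.subgroupOf R) ∨ Group.IsSolvable L := by
    have := (hCp.of_equiv (Subgroup.subgroupOfEquivOfLe hCR).symm).isNilpotent
    exact Or.inl inferInstance
  have hfix : ∀ a ∈ C.subgroupOf R, ∀ w : Fin (2 + p), c w = w → a • w = w := by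
    intro a ha w hw
    obtain ⟨z, hz⟩ := Subgroup.mem_zpowers_iff.1 (Subgroup.mem_subgroupOf.1 ha)
    show (a : Perm (Fin (2 + p))) w = w
    rw [← hz]
    exact Perm.zpow_apply_eq_self_of_apply_eq_self hw z
  obtain ⟨d, ⟨hdL, hdc⟩, hd⟩ := Coprime.exists_mem_centralizer_smul_eq hAK hcop hsolv (k := (l : R))
    l.2 (fun a ha => hfix a ha u hu) (fun a ha => by
      rw [show (l : R) • u = v from hl]; exact hfix a ha v hv)
  have hdC : (d : Perm (Fin (2 + p))) ∈ C := hnorm d d.2 fun x hx => by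
    have h1 := Subgroup.mem_centralizer_iff.1 hdc ⟨x, hCR hx⟩ (Subgroup.mem_subgroupOf.2 hx)
    have h2 : x * (d : Perm (Fin (2 + p))) = d * x := congrArg Subtype.val h1
    rw [← h2, mul_inv_cancel_right]
    exact hx
  have h7 : (d : Perm (Fin (2 + p))) u = v := hd.trans hl
  obtain ⟨z, hz⟩ := Subgroup.mem_zpowers_iff.1 hdC
  rw [← hz, Perm.zpow_apply_eq_self_of_apply_eq_self hu] at h7
  exact huv h7

end Cfsg.Agent.HalfFix
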