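import Cfsg.Agent.Lib.HalfFix.PermNorm
import Cfsg.Agent.Lib.HalfFix.CoprimeOrbit

/-!
# Normalizers in small symmetric groups
-/

set_option autoImplicit false

namespace Cfsg.Agent.HalfFix

open MulAction Equiv
open scoped Pointwise

variable {p : ℕ} [Fact p.Prime]

/-- The permutations induced on an invariant set form a group normalizing the induced group. -/
theorem card_induced_dvd {β : Type} [Fintype β] [DecidableEq β] (Q : Subgroup (Perm β))
    (hQ : IsPGroup p Q) (O : Set β) (hO : O.ncard = p) (htr : TransOn Q O)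
    (hst : ∀ q ∈ Q, ∀ x ∈ O, q x ∈ O) (H : Subgroup (Perm β))
    (hH : ∀ h ∈ H, ∀ q ∈ Q, h * q * h⁻¹ ∈ Q) (hHO : ∀ h ∈ H, ∀ x ∈ O, h x ∈ O) :
    ∃ (ψ : H →* Perm O), (∀ (h : H) (x : O), ((ψ h x : O) : β) = (h : Perm β) x) ∧
      Nat.card ψ.range ∣ (p - 1) * p := by
  classical
  haveI : Fintype O := Fintype.ofFinite _
  have hcO : Fintype.card O = p := by rw [← Nat.card_eq_fintype_card, Nat.card_coe_set_eq, hO]
  let mk : ∀ (S : Subgroup (Perm β)), (∀ h ∈ S, ∀ x ∈ O, h x ∈ O) → (S →* Perm O) := fun S hS =>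
    { toFun := fun h =>
        { toFun := fun x => ⟨(h : Perm β) x, hS h h.2 x x.2⟩
          invFun := fun x => ⟨((h⁻¹ : S) : Perm β) x, hS _ (h⁻¹).2 x x.2⟩
          left_inv := fun x => Subtype.ext (by simp)
          right_inv := fun x => Subtype.ext (by simp) }
      map_one' := Equiv.ext fun x => Subtype.ext rfl
      map_mul' := fun a b => Equiv.ext fun x => Subtype.ext rfl }
  set θ := mk Q hst with hθ
  set ψ := mk H hHO with hψ
  refine ⟨ψ, fun h x => rfl, ?_⟩
  set C := θ.range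
  have hCp : IsPGroup p C := by
    rintro ⟨_, q, rfl⟩
    obtain ⟨k, hk⟩ := hQ q
    exact ⟨k, Subtype.ext (by simp [← map_pow, hk])⟩
  obtain ⟨a, ha⟩ := IsPGroup.iff_card.1 hCp
  have hpp := (Fact.out : p.Prime)
  have ha1 : a ≤ 1 := by
    have h1 : p ^ a ∣ p.factorial := by
      have := Subgroup.card_subgroup_dvd_card C
      rwa [ha, Nat.card_perm, Nat.card_eq_fintype_card, hcO] at this
    have h2 := (hpp.pow_dvd_iff_le_factorization (Nat.factorial_pos _).ne').1 h1
    rw [Nat.factorization_factorial hpp (b := 2) (Nat.log_lt_of_lt_pow hpp.pos.ne'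
      (by nlinarith [hpp.two_le])), show Finset.Ico 1 2 = {1} from rfl, Finset.sum_singleton,
      pow_one, Nat.div_self hpp.pos] at h2
    exact h2
  obtain ⟨x, hx⟩ := Set.nonempty_of_ncard_ne_zero (s := O) (by rw [hO]; exact hpp.pos.ne')
  obtain ⟨z, hz, hzx⟩ := Set.exists_ne_of_one_lt_ncard (by rw [hO]; exact hpp.one_lt) x
  obtain ⟨q, hq, hqz⟩ := htr x hx z hz
  have hne : θ ⟨q, hq⟩ ≠ 1 := fun h => hzx (by
    rw [← hqz]; exact congrArg Subtype.val (congrArg (fun σ : Perm O => σ ⟨x, hx⟩) h))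
  have hcard : Nat.card C = p := by
    rcases Nat.eq_zero_or_pos a with rfl | h
    · exfalso
      rw [pow_zero] at ha
      exact hne (Subgroup.mem_bot.1 (Subgroup.eq_bot_of_card_eq C ha ▸ ⟨⟨q, hq⟩, rfl⟩))
    · rw [ha, show a = 1 by omega, pow_one]
  set c := θ ⟨q, hq⟩
  have hord : orderOf c = p := by
    have := orderOf_dvd_natCard (⟨c, ⟨⟨q, hq⟩, rfl⟩⟩ : C)
    rw [hcard, ← Subgroup.orderOf_coe] at this
    rcases (Nat.dvd_prime hpp).1 this with h | h
    · exact absurd (orderOf_eq_one_iff.1 h) hne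
    · exact h
  have hzp : Subgroup.zpowers c = C := Subgroup.eq_of_le_of_card_ge
    (Subgroup.zpowers_le.2 ⟨⟨q, hq⟩, rfl⟩) (by rw [hcard, Nat.card_zpowers, hord])
  have hcyc : c.IsCycle := Perm.isCycle_of_prime_order' (hord ▸ hpp)
    (by rw [hord, hcO]; have := hpp.pos; omega)
  have hsupp : c.support.card = p := by rw [← hcyc.orderOf, hord]
  have hle : ψ.range ≤ Subgroup.normalizer (Subgroup.zpowers c : Set (Perm O)) := by
    rintro _ ⟨h, rfl⟩
    refine Subgroup.mem_normalizer_fintype fun σ hσ => ?_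
    rw [SetLike.mem_coe, hzp] at hσ ⊢
    obtain ⟨w, rfl⟩ := hσ
    refine ⟨⟨(h : Perm β) * w * (h : Perm β)⁻¹, hH h h.2 w w.2⟩, Equiv.ext fun y => Subtype.ext ?_⟩
    rfl
  refine (Subgroup.card_dvd_of_le hle).trans ?_
  have := card_normalizer_cycle_dvd hcyc hsupp
  rwa [hcO, Nat.sub_self, Nat.factorial_zero, mul_one] at this

/-- The normalizer of a `p`-group with two orbits of length `p` and at most two fixed points. -/
theorem card_two_orbit_normalizer {β : Type} [Fintype β] [DecidableEq β] (hp : 3 ≤ p)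
    (Q : Subgroup (Perm β)) (hQ : IsPGroup p Q) {f : ℕ} (hf : (pts Q : Set β).ncard = f)
    (hf2 : f ≤ 2) (hcard : Fintype.card β = f + 2 * p) {y : β} (hy : y ∈ pts Q) :
    Nat.card (Subgroup.normalizer (Q : Set (Perm β)) ⊓ stabilizer (Perm β) y : Subgroup _) ∣
      2 * (((p - 1) * p) * ((p - 1) * p)) := by
  classical
  have hpp := (Fact.out : p.Prime)
  set H : Subgroup (Perm β) := Subgroup.normalizer (Q : Set (Perm β)) ⊓ stabilizer (Perm β) y
  set Fx : Set β := pts Q
  have hmv : (Fxᶜ : Set β).ncard = 2 * p := by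
    rw [Set.ncard_compl, hf, Nat.card_eq_fintype_card, hcard]; omega
  have hstF : ∀ q ∈ Q, ∀ x ∈ (Fxᶜ : Set β), q x ∈ (Fxᶜ : Set β) := by
    intro q hq x hx h
    refine hx fun g hg => ?_
    have h1 : q x = x := by
      have := h q⁻¹ (Q.inv_mem hq)
      rw [Perm.smul_def, Perm.inv_def, Equiv.symm_apply_apply] at this
      exact this.symm
    rw [← h1]; exact h g hg
  have horbp : ∀ x ∈ (Fxᶜ : Set β), (orbit Q x : Set β).ncard = p := by
    intro x hx
    obtain ⟨n, hn⟩ := hQ.card_orbit x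
    rw [Nat.card_coe_set_eq] at hn
    have hsub : (orbit Q x : Set β) ⊆ Fxᶜ := by
      rintro _ ⟨q, rfl⟩; exact hstF q q.2 x hx
    have h1 := Set.ncard_le_ncard hsub
    rw [hmv, hn] at h1
    have h2 : n ≠ 0 := by
      rintro rfl
      rw [pow_zero, Set.ncard_eq_one] at hn
      obtain ⟨w, hw⟩ := hn
      refine hx fun g hg => ?_
      have e1 : x ∈ (orbit Q x : Set β) := mem_orbit_self x
      have e2 : g • x ∈ (orbit Q x : Set β) := ⟨⟨g, hg⟩, rfl⟩
      rw [hw, Set.mem_singleton_iff] at e1 e2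
      rw [e2, e1]
    have h3 : n < 2 := by
      by_contra h
      have : p ^ 2 ≤ p ^ n := Nat.pow_le_pow_right hpp.pos (by omega)
      nlinarith
    rw [hn, show n = 1 by omega, pow_one]
  obtain ⟨u, hu⟩ := Set.nonempty_of_ncard_ne_zero (s := (Fxᶜ : Set β)) (by omega)
  set O1 : Set β := orbit Q u
  have hO1s : O1 ⊆ Fxᶜ := by rintro _ ⟨q, rfl⟩; exact hstF q q.2 u hu
  set O2 : Set β := Fxᶜ \ O1
  have hO2c : O2.ncard = p := by
    rw [Set.ncard_sdiff hO1s, hmv, horbp u hu]; omega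
  have hst1 : ∀ q ∈ Q, ∀ x ∈ O1, q x ∈ O1 := fun q hq x hx =>
    MulAction.mem_orbit_of_mem_orbit (⟨q, hq⟩ : Q) hx
  have hst2 : ∀ q ∈ Q, ∀ x ∈ O2, q x ∈ O2 := fun q hq x hx => ⟨hstF q hq x hx.1, fun h => hx.2 (by
    have := hst1 q⁻¹ (Q.inv_mem hq) _ h
    rwa [Perm.inv_def, Equiv.symm_apply_apply] at this)⟩
  have htr1 : TransOn Q O1 := by
    intro x hx z hz
    obtain ⟨q, hq⟩ : z ∈ orbit Q x := by rw [orbit_eq_iff.2 hx]; exact hz
    exact ⟨q, q.2, hq⟩
  obtain ⟨v, hv⟩ := Set.nonempty_of_ncard_ne_zero (s := O2) (by rw [hO2c]; exact hpp.pos.ne')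
  have hO2o : O2 = orbit Q v := by
    refine (Set.eq_of_subset_of_ncard_le ?_ (by rw [horbp v hv.1, hO2c])).symm
    rintro _ ⟨q, rfl⟩; exact hst2 q q.2 v hv
  have htr2 : TransOn Q O2 := by
    intro x hx z hz
    rw [hO2o] at hx hz
    obtain ⟨q, hq⟩ : z ∈ orbit Q x := by rw [orbit_eq_iff.2 hx]; exact hz
    exact ⟨q, q.2, hq⟩
  have hHn : ∀ h ∈ H, ∀ q ∈ Q, h * q * h⁻¹ ∈ Q := fun h hh q hq =>
    (Subgroup.mem_normalizer_iff.1 hh.1 q).1 hq
  have hHF : ∀ h ∈ H, ∀ x ∈ Fx, h x ∈ Fx := by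
    intro h hh x hx g hg
    have h1 : (h⁻¹ * g * h) x = x := hx _ (by simpa using hHn _ (H.inv_mem hh) g hg)
    rw [Perm.mul_apply, Perm.mul_apply, Perm.inv_eq_iff_eq] at h1
    exact h1
  have hHfix : ∀ h ∈ H, ∀ x ∈ Fx, h x = x := by
    intro h hh x hx
    by_cases hxy : x = y
    · rw [hxy]; exact hh.2
    by_contra hne
    have hsub : ({y, x, h x} : Finset β) ⊆ Fx.toFinset := by
      intro w hw
      simp only [Finset.mem_insert, Finset.mem_singleton] at hw
      rw [Set.mem_toFinset]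
      rcases hw with rfl | rfl | rfl
      exacts [hy, hx, hHF h hh x hx]
    have h1 := Finset.card_le_card hsub
    rw [Finset.card_eq_three.2 ⟨y, x, h x, Ne.symm hxy,
      fun e => hxy (h.injective (e.symm.trans (hh.2 : h y = y).symm)), Ne.symm hne, rfl⟩,
      ← Set.ncard_eq_toFinset_card', hf] at h1
    omega
  have himg : ∀ h ∈ H, h • O1 = O1 ∨ h • O1 = O2 := by
    intro h hh
    have hu' : h u ∈ (Fxᶜ : Set β) := fun hc => hu (by
      have := hHF h⁻¹ (H.inv_mem hh) _ hc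
      rwa [Perm.inv_def, Equiv.symm_apply_apply] at this)
    have heq : h • O1 = orbit Q (h u) := by
      refine Set.eq_of_subset_of_ncard_le ?_ (by rw [horbp _ hu', ncard_smul_set, horbp u hu])
      rintro _ ⟨_, ⟨q, rfl⟩, rfl⟩
      refine ⟨⟨h * q * h⁻¹, hHn h hh q q.2⟩, ?_⟩
      show (h * (q : Perm β) * h⁻¹) (h u) = h ((q : Perm β) u)
      rw [Perm.mul_apply, Perm.mul_apply, Perm.inv_def, Equiv.symm_apply_apply]
    by_cases hc : h u ∈ O1
    · left; rw [heq]; exact orbit_eq_iff.2 hc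
    · right
      have hc2 : h u ∈ O2 := ⟨hu', hc⟩
      rw [hO2o] at hc2 ⊢
      rw [heq]
      exact orbit_eq_iff.2 hc2
  set H0 : Subgroup H := stabilizer H O1 with hH0
  have hidx : H0.index ∣ 2 := by
    rw [hH0, index_stabilizer]
    have hsub : (orbit H O1 : Set (Set β)) ⊆ {O1, O2} := by
      rintro _ ⟨h, rfl⟩
      exact himg h h.2
    have h1 := (Set.ncard_le_ncard hsub).trans (Set.ncard_insert_le _ _)
    rw [Set.ncard_singleton] at h1
    have h2 : 0 < (orbit H O1 : Set (Set β)).ncard := (Set.ncard_pos).2 ⟨O1, mem_orbit_self O1⟩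
    rcases (show (orbit H O1 : Set (Set β)).ncard = 1 ∨ (orbit H O1 : Set (Set β)).ncard = 2 by omega)
      with h | h <;> rw [h] <;> norm_num
  set H0' : Subgroup (Perm β) := H0.map H.subtype
  have hH0O1 : ∀ h ∈ H0', ∀ x ∈ O1, h x ∈ O1 := by
    rintro _ ⟨h, hh, rfl⟩ x hx
    have e : (h : Perm β) • O1 = O1 := hh
    exact e ▸ Set.smul_mem_smul_set hx
  have hH0O2 : ∀ h ∈ H0', ∀ x ∈ O2, h x ∈ O2 := by
    rintro _ ⟨h, hh, rfl⟩ x hx
    refine ⟨fun hc => hx.1 ?_, fun hc => hx.2 ?_⟩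
    · have := hHF (h : Perm β)⁻¹ (H.inv_mem h.2) _ hc
      rwa [Subgroup.subtype_apply, Perm.inv_def, Equiv.symm_apply_apply] at this
    · have := hH0O1 _ (H0'.inv_mem ⟨h, hh, rfl⟩) _ hc
      rwa [Subgroup.subtype_apply, Perm.inv_def, Equiv.symm_apply_apply] at this
  have hH0le : H0' ≤ H := Subgroup.map_subtype_le _
  have hn0 : ∀ h ∈ H0', ∀ q ∈ Q, h * q * h⁻¹ ∈ Q := fun h hh => hHn h (hH0le hh)
  obtain ⟨ψ1, hψ1, hd1⟩ := card_induced_dvd Q hQ O1 (horbp u hu) htr1 hst1 H0' hn0 hH0O1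
  obtain ⟨ψ2, hψ2, hd2⟩ := card_induced_dvd Q hQ O2 hO2c htr2 hst2 H0' hn0 hH0O2
  have hinj : Function.Injective (ψ1.rangeRestrict.prod ψ2.rangeRestrict) := by
    rw [← MonoidHom.ker_eq_bot_iff, Subgroup.eq_bot_iff_forall]
    intro h hh
    rw [MonoidHom.mem_ker, MonoidHom.prod_apply, Prod.mk_eq_one] at hh
    refine Subtype.ext (Equiv.ext fun x => ?_)
    show (h : Perm β) x = x
    by_cases hxF : x ∈ Fx
    · exact hHfix _ (hH0le h.2) x hxF
    by_cases hx1 : x ∈ O1
    · rw [← hψ1 h ⟨x, hx1⟩]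
      exact congrArg Subtype.val (congrArg (fun σ : Perm O1 => σ ⟨x, hx1⟩) (congrArg Subtype.val hh.1))
    · rw [← hψ2 h ⟨x, hxF, hx1⟩]
      exact congrArg Subtype.val
        (congrArg (fun σ : Perm O2 => σ ⟨x, hxF, hx1⟩) (congrArg Subtype.val hh.2))
  have h0 : Nat.card H0 ∣ ((p - 1) * p) * ((p - 1) * p) := by
    rw [← Subgroup.card_map_of_injective (K := H0) H.subtype_injective]
    refine (Subgroup.card_dvd_of_injective _ hinj).trans ?_
    rw [Nat.card_prod]
    exact Nat.mul_dvd_mul hd1 hd2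
  rw [← H0.index_mul_card]
  exact Nat.mul_dvd_mul hidx h0

/-- An element of order 5 normalizes no transitive `7`-group on 7 or `2`-group on 8 points. -/
theorem no_five {β : Type} [Fintype β] [DecidableEq β] {n r : ℕ} [Fact r.Prime]
    (hn : Fintype.card β = n) (hnr : (n = 7 ∧ r = 7) ∨ (n = 8 ∧ r = 2)) (R : Subgroup (Perm β))
    (hR : IsPGroup r R) (htr : ∀ x z : β, ∃ q ∈ R, q x = z) {g : Perm β} (hg : orderOf g = 5)
    (hgR : ∀ x ∈ R, g * x * g⁻¹ ∈ R) : False := by
  classical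
  haveI : Fact (Nat.Prime 5) := ⟨by norm_num⟩
  have hr := (Fact.out : r.Prime)
  obtain ⟨b⟩ : Nonempty β := Fintype.card_pos_iff.1 (by omega)
  haveI : Nontrivial R := by
    rcases subsingleton_or_nontrivial R with h | h
    · exfalso
      have hall : ∀ z, z = b := fun z => by
        obtain ⟨q, hq, hqz⟩ := htr b z
        have h1 : (⟨q, hq⟩ : R) = 1 := Subsingleton.elim _ _
        rw [← hqz, show q = 1 from congrArg Subtype.val h1]; rfl
      have h2 : Fintype.card β ≤ 1 := Fintype.card_le_one_iff.2 fun x z => by rw [hall x, hall z]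
      omega
    · exact h
  haveI := hR.center_nontrivial
  set Z := Subgroup.center R with hZ
  have hZinj : ∀ z z' : Z, ((z : R) : Perm β) b = ((z' : R) : Perm β) b → z = z' := by
    intro z z' h
    refine Subtype.ext (Subtype.ext (Equiv.ext fun w => ?_))
    obtain ⟨q, hq, rfl⟩ := htr b w
    have e1 := congrArg Subtype.val (Subgroup.mem_center_iff.1 z.2 ⟨q, hq⟩)
    have e2 := congrArg Subtype.val (Subgroup.mem_center_iff.1 z'.2 ⟨q, hq⟩)
    calc ((z : R) : Perm β) (q b) = q (((z : R) : Perm β) b) := by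
          rw [← Perm.mul_apply, ← Perm.mul_apply]; exact (congrArg (fun σ : Perm β => σ b) e1).symm
      _ = q (((z' : R) : Perm β) b) := by rw [h]
      _ = ((z' : R) : Perm β) (q b) := by
          rw [← Perm.mul_apply, ← Perm.mul_apply]; exact congrArg (fun σ : Perm β => σ b) e2
  have hZle : Nat.card Z ≤ n := by
    rw [← hn, ← Nat.card_eq_fintype_card]
    exact Nat.card_le_card_of_injective (fun z : Z => ((z : R) : Perm β) b) fun z z' h => hZinj z z' h
  obtain ⟨e, he⟩ := IsPGroup.iff_card.1 (hR.to_subgroup Z)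
  have he1 : 1 ≤ e := by
    have h1 : 1 < Nat.card Z := Finite.one_lt_card
    rcases Nat.eq_zero_or_pos e with rfl | h
    · rw [pow_zero] at he; omega
    · exact h
  haveI := Fintype.ofFinite Z
  have hgR' : ∀ x ∈ R, g⁻¹ * x * g ∈ R := by
    intro x hx
    have h5 : g⁻¹ = g ^ 4 := inv_eq_of_mul_eq_one_right (by
      rw [← pow_succ']; exact orderOf_dvd_iff_pow_eq_one.1 (by rw [hg]))
    have hall : ∀ j : ℕ, g ^ j * x * (g ^ j)⁻¹ ∈ R := by
      intro j
      induction j with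
      | zero => simpa using hx
      | succ j ih =>
        rw [pow_succ', show g * g ^ j * x * (g * g ^ j)⁻¹ = g * (g ^ j * x * (g ^ j)⁻¹) * g⁻¹ by group]
        exact hgR _ ih
    have := hall 4
    rwa [← h5, inv_inv] at this
  have hconjmem : ∀ z : Z, (⟨g * ((z : R) : Perm β) * g⁻¹, hgR _ (z : R).2⟩ : R) ∈ Z := by
    intro z
    refine Subgroup.mem_center_iff.2 fun q => Subtype.ext ?_
    have e1 := congrArg Subtype.val
      (Subgroup.mem_center_iff.1 z.2 ⟨g⁻¹ * (q : Perm β) * g, hgR' _ q.2⟩)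
    have e2 := congrArg (fun σ => g * σ * g⁻¹) e1
    simp only [Subgroup.coe_mul] at e2 ⊢
    calc (q : Perm β) * (g * ((z : R) : Perm β) * g⁻¹)
        = g * (g⁻¹ * (q : Perm β) * g * ((z : R) : Perm β)) * g⁻¹ := by group
      _ = g * (((z : R) : Perm β) * (g⁻¹ * (q : Perm β) * g)) * g⁻¹ := e2
      _ = g * ((z : R) : Perm β) * g⁻¹ * (q : Perm β) := by group
  let σf : Z → Z := fun z => ⟨⟨g * ((z : R) : Perm β) * g⁻¹, hgR _ (z : R).2⟩, hconjmem z⟩
  have hσinj : Function.Injective σf := fun z z' h =>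
    Subtype.ext (Subtype.ext (mul_left_cancel (mul_right_cancel
      (congrArg (fun w : Z => ((w : R) : Perm β)) h))))
  let σ : Perm Z := Equiv.ofBijective σf (Finite.injective_iff_bijective.1 hσinj)
  have hσ5 : σ ^ (5 ^ 1) = 1 := by
    have hpow : ∀ (j : ℕ) (z : Z),
        (((σ ^ j) z : Z) : R).val = g ^ j * ((z : R) : Perm β) * (g ^ j)⁻¹ := by
      intro j
      induction j with
      | zero => intro z; simp
      | succ j ih =>
        intro z
        rw [pow_succ', Perm.mul_apply]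
        show g * (((σ ^ j) z : Z) : R).val * g⁻¹ = _
        rw [ih z, pow_succ']; group
    refine Equiv.ext fun z => Subtype.ext (Subtype.ext ?_)
    rw [pow_one, hpow 5 z, show g ^ 5 = 1 from orderOf_dvd_iff_pow_eq_one.1 (by rw [hg])]
    simp
  obtain ⟨z, hz1, hzfix⟩ : ∃ z : Z, z ≠ 1 ∧ σ z = z := by
    by_contra hcon
    push Not at hcon
    have h1 : σ.supportᶜ = {1} := by
      ext w
      rw [Finset.mem_compl, Perm.notMem_support, Finset.mem_singleton]
      exact ⟨fun h => by_contra fun h' => hcon w h' h, fun h => by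
        subst h; exact Subtype.ext (Subtype.ext (by simp [σ, σf]))⟩
    have h2 := Perm.card_compl_support_modEq hσ5
    rw [h1, Finset.card_singleton, ← Nat.card_eq_fintype_card, he] at h2
    rw [he] at hZle
    rcases hnr with ⟨rfl, rfl⟩ | ⟨rfl, rfl⟩
    · have : e = 1 := by
        by_contra h
        have : 7 ^ 2 ≤ 7 ^ e := Nat.pow_le_pow_right (by norm_num) (by omega)
        omega
      subst this
      exact absurd h2 (by decide)
    · have : e ≤ 3 := by
        by_contra h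
        have : 2 ^ 4 ≤ 2 ^ e := Nat.pow_le_pow_right (by norm_num) (by omega)
        omega
      interval_cases e <;> exact absurd h2 (by decide)
  obtain ⟨z', hz'1, hz'r, hz'g⟩ : ∃ z' : Z, z' ≠ 1 ∧ z' ^ r = 1 ∧
      g * ((z' : R) : Perm β) * g⁻¹ = ((z' : R) : Perm β) := by
    have hzd : orderOf z ∣ r ^ e := he ▸ orderOf_dvd_natCard z
    obtain ⟨i, -, hi⟩ := (Nat.dvd_prime_pow hr).1 hzd
    have hi0 : i ≠ 0 := by
      rintro rfl
      exact hz1 (orderOf_eq_one_iff.1 (by simpa using hi))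
    refine ⟨z ^ r ^ (i - 1), fun h => ?_, ?_, ?_⟩
    · have h1 := orderOf_dvd_of_pow_eq_one h
      rw [hi, Nat.pow_dvd_pow_iff_le_right hr.one_lt] at h1
      omega
    · rw [← pow_mul, ← pow_succ, show i - 1 + 1 = i by omega, ← hi, pow_orderOf_eq_one]
    · simp only [SubmonoidClass.coe_pow]
      rw [← conj_pow]
      exact congrArg (fun v => v ^ r ^ (i - 1)) (congrArg (fun w : Z => ((w : R) : Perm β)) hzfix)
  set s := ((z' : R) : Perm β) with hs
  have hsr : s ^ (r ^ 1) = 1 := by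
    rw [pow_one, hs, ← SubmonoidClass.coe_pow, ← SubmonoidClass.coe_pow, hz'r]; rfl
  have hfpf : ∀ w, s w ≠ w := fun w h => hz'1 (by
    obtain ⟨q, hq, rfl⟩ := htr b w
    refine hZinj z' 1 ?_
    apply q.injective
    have e1 := congrArg Subtype.val (Subgroup.mem_center_iff.1 z'.2 ⟨q, hq⟩)
    show q (s b) = q b
    rw [← Perm.mul_apply]
    exact (congrArg (fun σ : Perm β => σ b) e1).trans h)
  set Fg : Finset β := Finset.univ.filter fun w => g w = w
  have hFg : ∀ w, s w ∈ Fg ↔ w ∈ Fg := by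
    intro w
    have hcomm : ∀ x, g (s x) = s (g x) := fun x => by
      rw [← Perm.mul_apply, ← Perm.mul_apply]
      congr 1
      calc g * s = g * s * g⁻¹ * g := by group
        _ = s * g := by rw [hz'g]
    simp only [Fg, Finset.mem_filter, Finset.mem_univ, true_and, hcomm]
    exact ⟨fun h => s.injective h, fun h => by rw [h]⟩
  set s' := s.subtypePerm hFg
  have hs'r : s' ^ (r ^ 1) = 1 := by
    rw [Perm.subtypePerm_pow]
    exact Equiv.ext fun x => Subtype.ext (by
      show (s ^ r ^ 1) (x : β) = x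
      rw [hsr]; rfl)
  have h1 := Perm.card_compl_support_modEq hs'r
  have h2 : s'.supportᶜ = ∅ := Finset.eq_empty_of_forall_notMem fun x hx =>
    hfpf x (congrArg Subtype.val (Perm.notMem_support.1 (Finset.mem_compl.1 hx)))
  rw [h2, Finset.card_empty, Fintype.card_coe] at h1
  have hcard : Fg.card = n - 5 := by
    obtain ⟨k, hk⟩ := Perm.cycleType_prime_order (σ := g) (by rw [hg]; norm_num)
    have hsupp : g.support.card = (k + 1) * 5 := by
      rw [← Perm.sum_cycleType, hk, hg, Multiset.sum_replicate, smul_eq_mul]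
    have hle := Finset.card_le_univ g.support
    have : Fg = g.supportᶜ := by
      ext w; simp [Fg]
    rw [this, Finset.card_compl, hsupp, hn]
    omega
  rw [hcard] at h1
  rcases hnr with ⟨rfl, rfl⟩ | ⟨rfl, rfl⟩ <;> exact absurd h1 (by decide)

end Cfsg.Agent.HalfFix
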