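import Cfsg.Agent.Lib.HalfFix.Blocks

/-!
# Quotient systems with points numbered by `Fin N`, and existence of primitive quotients
-/

set_option autoImplicit false

namespace Cfsg.Agent.HalfFix

open MulAction
open scoped Pointwise

universe u v w

variable {p : ℕ} [Fact p.Prime] {G : Type u} [Group G] {α : Type v} [MulAction G α]

/-- Equivariant bijections preserve the fixed point count. -/
theorem fixCount_congr [Finite G] {β : Type w} [MulAction G β] (f : α ≃ β)
    (hf : ∀ (g : G) (x : α), f (g • x) = g • f x) : fixCount p G α = fixCount p G β := by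
  rw [fixCount, fixCount, ← Set.ncard_image_of_injective _ f.injective]
  congr 1
  ext y
  obtain ⟨x, rfl⟩ := f.surjective y
  simp only [f.injective.mem_set_image]
  constructor
  · intro h g hg; rw [← hf, h g hg]
  · intro h g hg; exact f.injective (by rw [hf, h g hg])

theorem defect_congr [Finite G] {β : Type w} [MulAction G β] (f : α ≃ β)
    (hf : ∀ (g : G) (x : α), f (g • x) = g • f x) : defect p G α = defect p G β := by
  rw [defect, defect, fixCount_congr f hf, Nat.card_congr f]

/-- A quotient action with points numbered by `Fin N`. -/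
structure Sys (G : Type u) [Group G] (α : Type v) [MulAction G α] (N : ℕ) where
  /-- The action on the blocks. -/
  act : G →* Equiv.Perm (Fin N)
  /-- The block of a point. -/
  π : α → Fin N
  map_smul : ∀ (g : G) (x : α), π (g • x) = act g (π x)
  surj : Function.Surjective π

namespace Sys

variable {N : ℕ} (S : Sys G α N)

/-- The blocks of `S`, as a type with the action of `G`. -/
def Blk (_ : Sys G α N) : Type := Fin N

instance : MulAction G S.Blk := MulAction.compHom (Fin N) S.act

instance : Finite S.Blk := inferInstanceAs (Finite (Fin N))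

/-- The projection to the blocks. -/
def proj (x : α) : S.Blk := S.π x

theorem proj_smul (g : G) (x : α) : S.proj (g • x) = g • S.proj x := S.map_smul g x

theorem proj_surj : Function.Surjective S.proj := S.surj

theorem card_blk : Nat.card S.Blk = N := Nat.card_fin N

theorem smul_blk (g : G) (i : Fin N) : (g • (show S.Blk from i) : S.Blk) = S.act g i := rfl

theorem isPretransitive_blk [IsPretransitive G α] : IsPretransitive G S.Blk where
  exists_smul_eq i j := by
    obtain ⟨x, rfl⟩ := S.proj_surj i
    obtain ⟨y, rfl⟩ := S.proj_surj j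
    obtain ⟨g, rfl⟩ := exists_smul_eq G x y
    exact ⟨g, (S.proj_smul g x).symm⟩

/-- The fibre size. -/
noncomputable def fib (S : Sys G α N) : ℕ := Nat.card α / N

omit [Fact p.Prime] in
theorem fib_spec [Finite G] [Finite α] [IsPretransitive G α] [Nonempty α] :
    1 ≤ S.fib ∧ (∀ i, (S.proj ⁻¹' {i}).ncard = S.fib) ∧ Nat.card α = S.fib * N := by
  obtain ⟨e, he1, he, hc⟩ := fibre_card (G := G) S.proj_smul S.proj_surj
  rw [card_blk] at hc
  have hN : 0 < N := Nat.pos_of_ne_zero fun h => by
    subst h; exact (S.π (Classical.arbitrary α)).elim0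
  have : S.fib = e := by rw [fib, hc, Nat.mul_div_cancel _ hN]
  rw [this]
  exact ⟨he1 inferInstance, he, hc⟩

theorem small_fix [Finite G] [Finite α] [IsPretransitive G α] [Nonempty α]
    (hq : 0 ≤ defect p G S.Blk) (hD : defect p G α ≤ p * (2 * (p : ℤ) - 3)) :
    fixCount p G α = S.fib * fixCount p G S.Blk ∧ defect p G α = S.fib * defect p G S.Blk ∧
      ∀ (P : Sylow p G) (x : α), S.proj x ∈ pts (P : Subgroup G) → x ∈ pts (P : Subgroup G) := by
  obtain ⟨-, he, hc⟩ := S.fib_spec
  exact pointwise_of_small S.proj_smul S.proj_surj he (by rw [card_blk]; exact hc) hq hD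

end Sys

/-- Every non-trivial finite transitive action has a primitive quotient. -/
theorem exists_primitive_sys [Finite G] [Finite α] [IsPretransitive G α] (h : 1 < Nat.card α) :
    ∃ (N : ℕ) (S : Sys G α N), 1 < N ∧ IsPreprimitive G S.Blk := by
  classical
  haveI : Nontrivial α := Finite.one_lt_card_iff_nontrivial.1 h
  obtain ⟨a⟩ : Nonempty α := inferInstance
  have hne : stabilizer G a ≠ ⊤ := by
    intro htop
    obtain ⟨b, hb⟩ := exists_ne a
    obtain ⟨g, rfl⟩ := exists_smul_eq G a b
    exact hb (show g ∈ stabilizer G a from htop ▸ Subgroup.mem_top g)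
  obtain ⟨M, hM, hle⟩ := (eq_top_or_exists_le_coatom (stabilizer G a)).resolve_left hne
  haveI : Nontrivial (G ⧸ M) := by
    rw [← Finite.one_lt_card_iff_nontrivial]
    exact Subgroup.one_lt_index_of_ne_top hM.1
  have hprim : IsPreprimitive G (G ⧸ M) := by
    rw [← isCoatom_stabilizer_iff_preprimitive G ((1 : G) : G ⧸ M), stabilizer_quotient]
    exact hM
  choose t ht using fun x : α => exists_smul_eq G a x
  let N := Nat.card (G ⧸ M)
  let e : (G ⧸ M) ≃ Fin N := Finite.equivFin _
  let act : G →* Equiv.Perm (Fin N) :=
    (e.permCongrHom.toMonoidHom).comp (toPermHom G (G ⧸ M))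
  have hact : ∀ (g : G) (q : G ⧸ M), act g (e q) = e (g • q) := fun g q => by
    simp [act, Equiv.permCongrHom]
  let π : α → G ⧸ M := fun x => ((t x : G) : G ⧸ M)
  have hπ : ∀ (g : G) (x : α), π (g • x) = g • π x := fun g x => by
    apply QuotientGroup.eq.2
    apply hle
    simp only [mem_stabilizer_iff, smul_eq_mul, mul_smul]
    rw [ht x, inv_smul_eq_iff, ht]
  have hsurj : Function.Surjective π := fun q => by
    obtain ⟨g, rfl⟩ := QuotientGroup.mk_surjective q
    refine ⟨g • a, QuotientGroup.eq.2 (hle ?_)⟩
    rw [mem_stabilizer_iff, mul_smul, inv_smul_eq_iff, ht]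
  let S : Sys G α N :=
    { act := act
      π := fun x => e (π x)
      map_smul := fun g x => by rw [hπ, hact]
      surj := e.surjective.comp hsurj }
  refine ⟨N, S, Finite.one_lt_card, ?_⟩
  let f : (G ⧸ M) →[G] S.Blk :=
    { toFun := fun q => (e q : Fin N)
      map_smul' := fun g q => (hact g q).symm }
  exact IsPreprimitive.of_surjective (f := f) e.surjective

end Cfsg.Agent.HalfFix
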