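import Cfsg.Agent.Lib.HalfFix.Kernels
import Mathlib.GroupTheory.GroupAction.SubMulAction.Combination

/-!
# Twin orbits

For an orbit `O` of alternating type and a point `y` fixed by a Sylow subgroup of `K`, the subgroup
generated by the `p`-elements fixing `y` induces the whole alternating group on the blocks of `O`, or
there is an equivariant map from the orbit of `y` to the blocks of `O`.
-/

set_option autoImplicit false

namespace Cfsg.Agent.HalfFix

open MulAction Equiv
open scoped Pointwise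

universe u v

/-- `C(N, 2) ≤ C(N, c)` and the fixed ratio decreases. -/
theorem choose_ratio {N F : ℕ} (hFN : F < N) :
    ∀ c, 2 ≤ c → 2 * c ≤ N →
      F.choose c * N.choose 2 ≤ F.choose 2 * N.choose c ∧ N.choose 2 ≤ N.choose c := by
  intro c hc
  induction c, hc using Nat.le_induction with
  | base => exact fun _ => ⟨le_rfl, le_rfl⟩
  | succ c hc ih =>
    intro hN
    obtain ⟨h1, h2⟩ := ih (by omega)
    refine ⟨?_, h2.trans (Nat.choose_le_succ_of_lt_half_left (by omega))⟩
    refine Nat.le_of_mul_le_mul_right ?_ (show 0 < c + 1 by omega)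
    calc F.choose (c + 1) * N.choose 2 * (c + 1) = F.choose (c + 1) * (c + 1) * N.choose 2 := by ring
      _ = F.choose c * (F - c) * N.choose 2 := by rw [Nat.choose_succ_right_eq]
      _ = F.choose c * N.choose 2 * (F - c) := by ring
      _ ≤ F.choose 2 * N.choose c * (N - c) := Nat.mul_le_mul h1 (by omega)
      _ = F.choose 2 * (N.choose c * (N - c)) := by ring
      _ = F.choose 2 * (N.choose (c + 1) * (c + 1)) := by rw [Nat.choose_succ_right_eq]
      _ = F.choose 2 * N.choose (c + 1) * (c + 1) := by ring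

/-- The action on subsets of at least two blocks has large defect. -/
theorem choose_bound {p N F c : ℕ} (hp : 2 ≤ p) (hN : N = F + p) (hF : F < p) (hc : 2 ≤ c)
    (hcF : c ≤ F) {x : ℕ} (hx : x ≤ F.choose c) :
    (p : ℤ) * (2 * (p : ℤ) - 3) <
      ((p : ℤ) - 1) * N.choose c - (2 * (p : ℤ) - 1) * x := by
  obtain ⟨h1, h2⟩ := choose_ratio (N := N) (F := F) (by omega) c hc (by omega)
  have hN2 : (2 : ℤ) * (N.choose 2 : ℕ) = (N : ℤ) * ((N : ℤ) - 1) := by
    have h := Nat.choose_succ_right_eq N 1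
    rw [Nat.choose_one_right] at h
    have h' : ((N.choose 2 : ℕ) : ℤ) * 2 = (N : ℤ) * ((N : ℤ) - 1) := by
      have h3 : ((N - 1 : ℕ) : ℤ) = (N : ℤ) - 1 := by omega
      rw [← h3]; exact_mod_cast h
    linarith
  have hF2 : (2 : ℤ) * (F.choose 2 : ℕ) = (F : ℤ) * ((F : ℤ) - 1) := by
    have h := Nat.choose_succ_right_eq F 1
    rw [Nat.choose_one_right] at h
    have h' : ((F.choose 2 : ℕ) : ℤ) * 2 = (F : ℤ) * ((F : ℤ) - 1) := by
      have h3 : ((F - 1 : ℕ) : ℤ) = (F : ℤ) - 1 := by omega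
      rw [← h3]; exact_mod_cast h
    linarith
  have hp' : (2 : ℤ) ≤ p := by exact_mod_cast hp
  have hF' : (F : ℤ) ≤ (p : ℤ) - 1 := by omega
  have hF'' : (2 : ℤ) ≤ F := by exact_mod_cast (show 2 ≤ F by omega)
  have hN' : (N : ℤ) = F + p := by exact_mod_cast hN
  set D2 : ℤ := ((p : ℤ) - 1) * (N.choose 2 : ℕ) - (2 * (p : ℤ) - 1) * (F.choose 2 : ℕ) with hD2
  have hD : (p : ℤ) * (2 * (p : ℤ) - 3) < D2 := by
    have h3 : 2 * D2 = ((p : ℤ) - 1) * ((N : ℤ) * ((N : ℤ) - 1))
        - (2 * (p : ℤ) - 1) * ((F : ℤ) * ((F : ℤ) - 1)) := by rw [hD2, ← hN2, ← hF2]; ring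
    rw [hN'] at h3
    have h4 : 0 ≤ ((F : ℤ) - 2) * (2 * (p : ℤ) - 3 - F) := mul_nonneg (by linarith) (by linarith)
    have h5 := mul_le_mul_of_nonneg_left h4 (show (0 : ℤ) ≤ p by linarith)
    nlinarith [mul_nonneg (show (0 : ℤ) ≤ p by linarith) (sq_nonneg ((p : ℤ) - 1))]
  have hx' : (x : ℤ) ≤ (F.choose c : ℕ) := by exact_mod_cast hx
  have h1' : (F.choose c : ℤ) * (N.choose 2 : ℕ) ≤ (F.choose 2 : ℕ) * (N.choose c : ℕ) := by
    exact_mod_cast h1
  have h2' : (N.choose 2 : ℤ) ≤ (N.choose c : ℕ) := by exact_mod_cast h2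
  have hpos : (0 : ℤ) < (N.choose 2 : ℕ) := by exact_mod_cast Nat.choose_pos (by omega)
  have h6 : ((N.choose 2 : ℕ) : ℤ) * D2 ≤ (N.choose 2 : ℕ) *
      (((p : ℤ) - 1) * N.choose c - (2 * (p : ℤ) - 1) * x) := by
    calc ((N.choose 2 : ℕ) : ℤ) * D2 ≤ (N.choose c : ℕ) * D2 :=
          mul_le_mul_of_nonneg_right h2' (by nlinarith)
      _ ≤ _ := by
          rw [hD2]
          have h7 : (x : ℤ) * (N.choose 2 : ℕ) ≤ (F.choose 2 : ℕ) * (N.choose c : ℕ) :=
            (mul_le_mul_of_nonneg_right hx' hpos.le).trans h1'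
          have h8 := mul_le_mul_of_nonneg_left h7 (show (0 : ℤ) ≤ 2 * (p : ℤ) - 1 by linarith)
          linarith
  exact lt_of_lt_of_le hD (le_of_mul_le_mul_left h6 hpos)

variable {p : ℕ} [Fact p.Prime] {G : Type u} [Group G] [Finite G]
  {α : Type v} [MulAction G α] [Finite α] {K : Subgroup G}

/-- Orbits of a `p`-element smaller than `p` are singletons. -/
theorem apply_eq_of_pElement_of_small {N : ℕ} {σ : Perm (Fin N)} {j : ℕ} (hj : σ ^ p ^ j = 1)
    {s : Set (Fin N)} (hs : s.ncard < p) (hst : ∀ i ∈ s, σ i ∈ s) {i : Fin N} (hi : i ∈ s) :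
    σ i = i := by
  by_contra hne
  have h1 : ∀ m : ℕ, (σ ^ m) i ∈ s := by
    intro m
    induction m with
    | zero => simpa using hi
    | succ m ih => rw [pow_succ', Perm.mul_apply]; exact hst _ ih
  obtain ⟨k, -, hk⟩ : ∃ k, k ≤ j ∧ Function.minimalPeriod σ i = p ^ k := by
    refine (Nat.dvd_prime_pow Fact.out).1 (Function.IsPeriodicPt.minimalPeriod_dvd ?_)
    show (σ : Fin N → Fin N)^[p ^ j] i = i
    rw [← Equiv.Perm.coe_pow, hj]; rfl
  rcases Nat.eq_zero_or_pos k with rfl | hk0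
  · exact hne (Function.minimalPeriod_eq_one_iff_isFixedPt.1 (by simpa using hk))
  have hinj : Set.InjOn (fun m : ℕ => (σ ^ m) i) (Set.Iio (p ^ k)) := by
    intro a ha b hb hab
    simp only [Equiv.Perm.coe_pow] at hab
    rw [← hk] at ha hb
    exact Function.iterate_injOn_Iio_minimalPeriod ha hb hab
  have h2 := Set.ncard_le_ncard_of_injOn (fun m : ℕ => (σ ^ m) i) (fun m _ => h1 m) hinj
  rw [← Finset.coe_Iio, Set.ncard_coe_finset, Nat.card_Iio] at h2
  have := Nat.le_self_pow hk0.ne' p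
  omega

namespace OType

variable {O : Set α} {N F : ℕ} (T : OType p K O N F)

open Classical in
/-- For a covered point: full image, or an equivariant map to the blocks. -/
theorem full_or_twin (hp : p ≠ 2) (hA : T.IsA) {y : α} (P : Sylow p G) (hP : (P : Subgroup G) ≤ K)
    (hy : y ∈ pts (P : Subgroup G))
    (hD : dset p (P : Subgroup G) (orbit K y) ≤ p * (2 * (p : ℤ) - 3)) :
    ((pGen p (K ⊓ stabilizer G y)).subgroupOf K).map T.act = alternatingGroup (Fin N) ∨
      ∃ σ : α → Fin N, ∀ (k : ↥K), ∀ z ∈ orbit K y, σ ((k : G) • z) = T.act k (σ z) := by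
  set L : Subgroup G := pGen p (K ⊓ stabilizer G y) with hL
  have hPL : (P : Subgroup G) ≤ L := le_pGen_of_isPGroup P.isPGroup' (le_inf hP hy)
  obtain ⟨c, hc, hord, hpow, hfixc⟩ := T.exists_cycle P hP
  obtain ⟨hcyc, hsupp⟩ := isCycle_of_orderOf hord T.lt_two_mul
  set C : Finset (Fin N) := Finset.univ.filter fun i => ∀ k : ↥K, (k : G) ∈ L → T.act k i = i
    with hC
  have hmemC : ∀ i, i ∈ C ↔ ∀ k : ↥K, (k : G) ∈ L → T.act k i = i := by simp [hC]
  by_cases hCe : C = ∅
  · left
    refine T.map_eq_alt hp hA _ P hP (fun k hk => hPL hk) ?_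
    obtain ⟨i₀, hi₀⟩ : ∃ i, T.act c i ≠ i := hcyc.imp fun _ h => h.1
    set Ω : Set (Fin N) := {i | ∃ k : ↥K, (k : G) ∈ L ∧ T.act k i₀ = i} with hΩ
    have hΩst : ∀ k : ↥K, (k : G) ∈ L → ∀ i ∈ Ω, T.act k i ∈ Ω := by
      rintro k hk i ⟨m, hm, rfl⟩
      exact ⟨k * m, L.mul_mem hk hm, by rw [map_mul, Perm.mul_apply]⟩
    have hsub : ((T.act c).support : Set (Fin N)) ⊆ Ω := by
      intro i hi
      obtain ⟨z, hz⟩ := hcyc.sameCycle hi₀ (Perm.mem_support.1 hi)
      exact ⟨c ^ z, by rw [SubgroupClass.coe_zpow]; exact L.zpow_mem (hPL hc) z, by rw [map_zpow, hz]⟩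
    have hΩall : ∀ i, i ∈ Ω := by
      intro i
      by_contra hi
      have hsmall : (Ωᶜ).ncard < p := by
        have h1 : Ωᶜ ⊆ ((T.act c).support : Set (Fin N))ᶜ := Set.compl_subset_compl.2 hsub
        have h2 := Set.ncard_le_ncard h1
        rw [Set.ncard_compl (_ : Set (Fin N)), Set.ncard_compl (_ : Set (Fin N)), Set.ncard_coe_finset,
          hsupp, Nat.card_fin] at h2
        rw [Set.ncard_compl, Nat.card_fin]
        have := T.N_eq; have := T.F_lt
        omega
      have : i ∈ C := (hmemC i).2 fun k hk => by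
        have hmove : ∀ m : ↥K, (m : G) ∈ L → ∀ w ∈ Ωᶜ, T.act m w ∈ Ωᶜ := fun m hm w hw h => hw (by
          have := hΩst m⁻¹ (by simpa using L.inv_mem hm) _ h
          simpa using this)
        obtain ⟨k, hkK⟩ := k
        change T.act ⟨k, hkK⟩ i = i
        change k ∈ L at hk
        suffices h : ∀ hkK : k ∈ K, ∀ w ∈ Ωᶜ, T.act ⟨k, hkK⟩ w = w from h hkK i hi
        refine Subgroup.closure_induction
          (p := fun k _ => ∀ hkK : k ∈ K, ∀ w ∈ Ωᶜ, T.act ⟨k, hkK⟩ w = w) ?_ ?_ ?_ ?_ hk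
        · rintro x ⟨hx, j, hj⟩ hxK w hw
          refine apply_eq_of_pElement_of_small (p := p) (j := j) ?_ hsmall
            (hmove ⟨x, hxK⟩ (mem_pGen hx hj)) hw
          rw [← map_pow, show (⟨x, hxK⟩ : ↥K) ^ p ^ j = 1 from Subtype.ext (by simpa using hj), map_one]
        · intro h w _
          rw [show (⟨1, h⟩ : ↥K) = 1 from rfl, map_one]; rfl
        · intro a b ha hb iha ihb h w hw
          have haK : a ∈ K := (pGen_le _ ha).1
          have hbK : b ∈ K := (pGen_le _ hb).1
          rw [show (⟨a * b, h⟩ : ↥K) = ⟨a, haK⟩ * ⟨b, hbK⟩ from rfl, map_mul, Perm.mul_apply,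
            ihb hbK w hw, iha haK w hw]
        · intro a ha iha h w hw
          have haK : a ∈ K := (pGen_le _ ha).1
          rw [show (⟨a⁻¹, h⟩ : ↥K) = (⟨a, haK⟩ : ↥K)⁻¹ from rfl, map_inv, Perm.inv_eq_iff_eq,
            iha haK w hw]
      rw [hCe] at this
      exact absurd this (Finset.notMem_empty i)
    intro i j
    obtain ⟨k, hk, rfl⟩ := hΩall i
    obtain ⟨m, hm, rfl⟩ := hΩall j
    exact ⟨m * k⁻¹, L.mul_mem hm (L.inv_mem hk), by
      rw [map_mul, map_inv, Perm.mul_apply, Perm.inv_def, Equiv.symm_apply_apply]⟩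
  right
  -- `C` is preserved by the stabilizer of `y`
  have hstab : ∀ k : ↥K, (k : G) • y = y → C.image (T.act k) ⊆ C := by
    intro k hk i hi
    obtain ⟨i, hi', rfl⟩ := Finset.mem_image.1 hi
    rw [hmemC] at hi' ⊢
    intro m hm
    have h1 := hi' (k⁻¹ * m * k) (by
      have hkS : (k : G) ∈ K ⊓ stabilizer G y := ⟨k.2, hk⟩
      simpa using conj_mem_pGen (g := ((k : G))⁻¹) (fun z hz =>
        Subgroup.mul_mem _ (Subgroup.mul_mem _ (Subgroup.inv_mem _ hkS) hz)
          (Subgroup.inv_mem _ (Subgroup.inv_mem _ hkS))) hm)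
    rw [map_mul, map_mul, map_inv, Perm.mul_apply, Perm.mul_apply, Perm.inv_eq_iff_eq] at h1
    exact h1
  by_cases hC2 : C.card = 1
  · obtain ⟨i, hi⟩ := Finset.card_eq_one.1 hC2
    refine ⟨fun z => if h : ∃ k : ↥K, (k : G) • y = z then T.act h.choose i else i, ?_⟩
    have key : ∀ (m : ↥K), (fun z => if h : ∃ k : ↥K, (k : G) • y = z then T.act h.choose i else i)
        ((m : G) • y) = T.act m i := by
      intro m
      have h : ∃ k : ↥K, (k : G) • y = (m : G) • y := ⟨m, rfl⟩
      simp only [dif_pos h]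
      have h2 := hstab (m⁻¹ * h.choose) (by
        rw [Subgroup.coe_mul, Subgroup.coe_inv, mul_smul, h.choose_spec, inv_smul_smul])
      rw [hi, Finset.image_singleton, Finset.singleton_subset_iff, Finset.mem_singleton,
        map_mul, map_inv, Perm.mul_apply, Perm.inv_eq_iff_eq] at h2
      exact h2
    rintro k z ⟨m, rfl⟩
    show (fun z => if h : ∃ k : ↥K, (k : G) • y = z then T.act h.choose i else i)
      ((k : G) • (m : G) • y) = _
    rw [← mul_smul, ← Subgroup.coe_mul, key, map_mul, Perm.mul_apply]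
    exact congrArg _ (key m).symm
  exfalso
  set n := C.card with hn
  have hn2 : 2 ≤ n := by
    have : 0 < n := Finset.card_pos.2 (Finset.nonempty_of_ne_empty hCe)
    omega
  have hCfix : ∀ i ∈ C, T.act c i = i := fun i hi => (hmemC i).1 hi c (hPL hc)
  have hnF : n ≤ F := by
    rw [← T.fix_blk P hP, hn, ← Set.ncard_coe_finset]
    exact Set.ncard_le_ncard fun i hi => (hfixc i).2 (hCfix i hi)
  letI : MulAction ↥K (Fin N) := MulAction.compHom (Fin N) T.act
  let C₀ : Set.powersetCard (Fin N) n := ⟨C, Set.powersetCard.mem_iff.2 rfl⟩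
  have himg : ∀ (k : ↥K) (s : Set.powersetCard (Fin N) n),
      ((k • s : Set.powersetCard (Fin N) n) : Finset (Fin N)) = (s : Finset (Fin N)).image (T.act k) :=
    fun k s => by rw [Set.powersetCard.coe_smul]; rfl
  have hstab' : ∀ k : ↥K, k • (⟨y, mem_orbit_self y⟩ : orbit K y) = ⟨y, mem_orbit_self y⟩ →
      k • C₀ = C₀ := by
    intro k hk
    have hk' : (k : G) • y = y := congrArg Subtype.val hk
    refine Subtype.ext ?_
    rw [himg]
    exact Finset.eq_of_subset_of_card_le (hstab k hk')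
      (le_of_eq (Finset.card_image_of_injective _ (T.act k).injective).symm)
  choose t ht using fun z : orbit K y => exists_smul_eq K (⟨y, mem_orbit_self y⟩ : orbit K y) z
  let π : orbit K y → Set.powersetCard (Fin N) n := fun z => t z • C₀
  have hπ : ∀ (k : ↥K) (z : orbit K y), π (k • z) = k • π z := by
    intro k z
    have h := hstab' ((t (k • z))⁻¹ * (k * t z)) (by rw [mul_smul, mul_smul, ht, inv_smul_eq_iff, ht])
    rw [mul_smul, inv_smul_eq_iff, mul_smul] at h
    exact h.symm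
  have hsurj : Function.Surjective π := by
    intro s
    haveI := Set.powersetCard.isPretransitive_alternatingGroup (α := Fin N) (n := n)
      (by rw [Nat.card_fin]; have := T.five_le hp hA; omega)
    obtain ⟨g, hg⟩ := exists_smul_eq (alternatingGroup (Fin N)) C₀ s
    obtain ⟨k, hk⟩ : (g : Perm (Fin N)) ∈ T.act.range := (T.range_eq_alt hp hA).symm ▸ g.2
    refine ⟨k • ⟨y, mem_orbit_self y⟩, ?_⟩
    rw [hπ]
    have h1 : π ⟨y, mem_orbit_self y⟩ = C₀ := hstab' _ (ht _)
    rw [h1, ← hg]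
    refine Subtype.ext ?_
    rw [himg, hk]
    exact (Set.powersetCard.coe_smul (g := g) (s := C₀)).symm
  obtain ⟨e, he1, he, hcard⟩ := fibre_card (G := ↥K) hπ hsurj
  obtain ⟨h1, -, h3⟩ := defect_of_quotient (p := p) hπ hsurj he hcard
  have hfix : fixCount p ↥K (Set.powersetCard (Fin N) n) ≤ F.choose n := by
    have hFc : ((Finset.univ.filter fun i => T.act c i = i)).card = F := by
      refine Eq.trans ?_ (T.fix_blk P hP)
      rw [← Set.ncard_coe_finset]
      congr 1
      ext i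
      simp only [Finset.coe_filter, Finset.mem_univ, true_and, Set.mem_setOf_eq]
      exact (hfixc i).symm
    rw [fixCount_eq (P.subtype hP), ← Set.ncard_image_of_injective _ Subtype.val_injective,
      ← hFc, ← Finset.card_powersetCard, ← Set.ncard_coe_finset]
    refine Set.ncard_le_ncard ?_
    rintro _ ⟨s, hs, rfl⟩
    simp only [Finset.mem_coe, Finset.mem_powersetCard]
    refine ⟨fun i hi => ?_, Set.powersetCard.mem_iff.1 s.2⟩
    simp only [Finset.mem_coe, Finset.coe_filter, Finset.mem_filter, Finset.mem_univ, true_and,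
      Set.mem_setOf_eq]
    by_contra hmove
    have hsub : (T.act c).support ⊆ (s : Finset (Fin N)) := by
      intro w hw
      obtain ⟨z, hz⟩ := hcyc.sameCycle hmove (Perm.mem_support.1 hw)
      have h5 : (c ^ z) • s = s := hs _ (Subgroup.zpow_mem _ hc z)
      rw [← h5, himg, ← hz, map_zpow]
      exact Finset.mem_image_of_mem _ hi
    have := Finset.card_le_card hsub
    rw [hsupp, Set.powersetCard.mem_iff.1 s.2] at this
    have := T.F_lt
    omega
  have hb := choose_bound (Fact.out : p.Prime).two_le T.N_eq T.F_lt hn2 hnF hfix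
  have hcd : Nat.card (Set.powersetCard (Fin N) n) = N.choose n := by
    rw [Set.powersetCard.card, Nat.card_fin]
  have hp2 : (2 : ℤ) ≤ p := by exact_mod_cast (Fact.out : p.Prime).two_le
  have hq : (p : ℤ) * (2 * (p : ℤ) - 3) < defect p ↥K (Set.powersetCard (Fin N) n) := by
    rw [defect, hcd]; exact hb
  have he0 : (1 : ℤ) ≤ e := by exact_mod_cast he1 ⟨⟨y, mem_orbit_self y⟩⟩
  have h7 : (0 : ℤ) ≤ ((e * fixCount p ↥K (Set.powersetCard (Fin N) n) : ℕ) : ℤ)
      - (fixCount p ↥K (orbit K y) : ℤ) := by rw [sub_nonneg]; exact_mod_cast h1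
  rw [← defect_orbit P hP y, h3] at hD
  have h8 := mul_le_mul_of_nonneg_right he0
    (show (0 : ℤ) ≤ defect p ↥K (Set.powersetCard (Fin N) n) by nlinarith)
  have h9 := mul_nonneg (show (0 : ℤ) ≤ 2 * (p : ℤ) - 1 by linarith) h7
  linarith

end OType

end Cfsg.Agent.HalfFix
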