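import Cfsg.Agent.Lib.HalfFix.Class
import Cfsg.Agent.Lib.HalfFix.PermNorm

/-!
# A covered orbit without quotient: the common kernel of the alternating types
-/

set_option autoImplicit false

namespace Cfsg.Agent.HalfFix

open MulAction Equiv
open scoped Pointwise

universe u

/-- The image of a covered orbit is too big. -/
theorem centralizer_bound {p F n f : ℕ} (hp : 3 ≤ p) (hF : 2 ≤ F)
    (hn : 2 * n = (F + p).factorial) (hf : f ≤ p * F.factorial) :
    (p : ℤ) * (2 * (p : ℤ) - 3) < ((p : ℤ) - 1) * n - (2 * (p : ℤ) - 1) * f := by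
  obtain ⟨q, rfl⟩ : ∃ q, p = q + 2 := ⟨p - 2, by omega⟩
  have h1 : F.factorial * q.factorial ≤ (F + q).factorial :=
    Nat.le_of_dvd (Nat.factorial_pos _) (Nat.factorial_mul_factorial_dvd_factorial_add F q)
  have h2 : (q + 4) * (q + 3) * F.factorial ≤ (F + (q + 2)).factorial := by
    rw [show F + (q + 2) = F + q + 1 + 1 by ring, Nat.factorial_succ, Nat.factorial_succ]
    calc (q + 4) * (q + 3) * F.factorial ≤ (F + q + 1 + 1) * (F + q + 1) * (F + q).factorial := by
          refine Nat.mul_le_mul (Nat.mul_le_mul (by omega) (by omega)) ?_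
          exact le_trans (Nat.le_mul_of_pos_right _ (Nat.factorial_pos q)) h1
      _ = _ := by ring
  have hFf : 2 ≤ F.factorial := le_trans (le_of_eq rfl) (Nat.factorial_le hF)
  rw [← hn] at h2
  have h3 : ((q : ℤ) + 4) * ((q : ℤ) + 3) * (F.factorial : ℕ) ≤ 2 * (n : ℤ) := by exact_mod_cast h2
  have h4 : (f : ℤ) ≤ ((q : ℤ) + 2) * (F.factorial : ℕ) := by exact_mod_cast hf
  have h5 : (2 : ℤ) ≤ (F.factorial : ℕ) := by exact_mod_cast hFf
  have hq : (1 : ℤ) ≤ q := by omega
  push_cast
  set u : ℤ := ((F.factorial : ℕ) : ℤ)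
  have h6 := mul_le_mul_of_nonneg_left h3 (show (0 : ℤ) ≤ (q : ℤ) + 1 by linarith)
  have h7 := mul_le_mul_of_nonneg_left h4 (show (0 : ℤ) ≤ 2 * (2 * (q : ℤ) + 3) by linarith)
  have h9 : (1 : ℤ) ≤ (q + 4) * (q + 3) * (q + 1) - 2 * ((2 * q + 3) * (q + 2)) - (q + 2) * (2 * q + 1) := by
    nlinarith [mul_nonneg (show (0 : ℤ) ≤ q by linarith) (sq_nonneg ((q : ℤ) - 1)), sq_nonneg (q : ℤ)]
  have h10 := mul_le_mul_of_nonneg_left h5
    (show (0 : ℤ) ≤ (q + 4) * (q + 3) * (q + 1) - 2 * ((2 * q + 3) * (q + 2)) by nlinarith)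
  nlinarith

variable {p : ℕ} [Fact p.Prime] {G : Type u} [Group G] [Finite G] {α : Type} [MulAction G α]

/-- The intersection of the kernels of the alternating types of points in `s`. -/
def akerOn (p : ℕ) (K : Subgroup G) (s : Set α) : Subgroup ↥K :=
  ⨅ (z : α) (_ : z ∈ s) (N : ℕ) (F : ℕ) (T : OType p K (orbit K z) N F) (_ : T.IsA), T.act.ker

theorem mem_akerOn {K : Subgroup G} {s : Set α} {k : ↥K} :
    k ∈ akerOn p K s ↔
      ∀ z ∈ s, ∀ N F (T : OType p K (orbit K z) N F), T.IsA → k ∈ T.act.ker := by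
  simp only [akerOn, Subgroup.mem_iInf]

theorem akerOn_normal (K : Subgroup G) (s : Set α) : (akerOn p K s).Normal :=
  ⟨fun k hk g => mem_akerOn.2 fun z hz N F T hA =>
    T.act.normal_ker.conj_mem k (mem_akerOn.1 hk z hz N F T hA) g⟩

/-- The covered orbit `W` of `y` without quotient. -/
structure Lone (p : ℕ) [Fact p.Prime] (K : Subgroup G) (Y : Set α) (y : α) : Prop where
  loc : Local p K Y
  mem : y ∈ Y
  cov : Covered p K y
  noType : ¬ IsOType p K y

namespace Lone

variable {K : Subgroup G} {Y : Set α} {y : α} (hW : Lone p K Y y)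

include hW

theorem ne_two : p ≠ 2 := hW.loc.ne_two

variable [Finite α]

theorem rest_small {P : Sylow p G} (hP : (P : Subgroup G) ≤ K) :
    dset p (P : Subgroup G) (Y \ orbit K y) ≤ (p : ℤ) * ((p : ℤ) - 2) := by
  have h1 : dset p (P : Subgroup G) Y =
      dset p (P : Subgroup G) (orbit K y : Set α) + dset p (P : Subgroup G) (Y \ orbit K y) := by
    rw [← dset_union _ Set.disjoint_sdiff_right, Set.union_sdiff_cancel (hW.loc.orbit_subset hW.mem)]
  have h2 := (hW.loc.unknown hP hW.mem hW.noType).2.1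
  have h3 := hW.loc.small P hP
  linarith

theorem isOType {z : α} (hz : z ∈ Y) (hzW : z ∉ orbit K y) : IsOType p K z := by
  by_contra h
  exact hzW (hW.loc.unknown_unique hW.mem hz hW.noType h)

theorem normal_trivial_or_trans (M : Subgroup ↥K) [M.Normal] :
    (∀ k ∈ M, ∀ w ∈ (orbit K y : Set α), (k : G) • w = w) ∨
      TransOn (M.map K.subtype) (orbit K y : Set α) := by
  obtain ⟨P, hP, -⟩ := hW.cov
  haveI := (hW.loc.unknown hP hW.mem hW.noType).1
  by_cases h : fixedPoints M (orbit K y) = Set.univ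
  · left
    intro k hk w hw
    have := (Set.eq_univ_iff_forall.1 h ⟨w, hw⟩) ⟨k, hk⟩
    exact congrArg Subtype.val this
  · right
    haveI := IsQuasiPreprimitive.isPretransitive_of_normal (G := ↥K) (X := orbit K y) (N := M) h
    intro x hx z hz
    obtain ⟨⟨k, hk⟩, hkx⟩ := exists_smul_eq M (⟨x, hx⟩ : orbit K y) ⟨z, hz⟩
    exact ⟨k, ⟨k, hk, rfl⟩, congrArg Subtype.val hkx⟩

theorem not_class {b : α} :
    ¬ ((∃ M, IsAType p K y M) ∧ jOf p K y = jOf p K b) :=
  fun h => hW.noType h.1.choose_spec.isOType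

/-- The common kernel is transitive on `W`. -/
theorem akerOn_moves (s : Finset α) (hs : ∀ z ∈ s, z ∈ Y) :
    ∃ k ∈ akerOn p K (s : Set α), ∃ w ∈ (orbit K y : Set α), (k : G) • w ≠ w := by
  classical
  induction s using Finset.induction_on with
  | empty =>
    obtain ⟨k, hk, hky⟩ := hW.loc.moving y hW.mem
    exact ⟨⟨k, hk⟩, mem_akerOn.2 (fun z hz => by simp at hz), y, mem_orbit_self y, hky⟩
  | insert x s _ ih =>
    obtain ⟨k₀, hk₀, w₀, hw₀, hk₀w⟩ := ih fun z hz => hs z (Finset.mem_insert_of_mem hz)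
    haveI := akerOn_normal (p := p) K (s : Set α)
    have hMtr := (hW.normal_trivial_or_trans (akerOn p K (s : Set α))).resolve_left
      fun h => hk₀w (h k₀ hk₀ w₀ hw₀)
    by_contra hcon
    push Not at hcon
    by_cases hx : ∃ N F, ∃ T : OType p K (orbit K x) N F, T.IsA
    swap
    · refine hk₀w (hcon k₀ (mem_akerOn.2 fun z hz N F T hA => ?_) w₀ hw₀)
      rcases Finset.mem_insert.1 (Finset.mem_coe.1 hz) with rfl | hz
      · exact absurd ⟨N, F, T, hA⟩ hx
      · exact mem_akerOn.1 hk₀ z hz N F T hA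
    obtain ⟨N, F, T, hA⟩ := hx
    -- elements of the smaller kernel in the kernel of `T` fix `W`
    have htriv : ∀ k ∈ akerOn p K (s : Set α), k ∈ T.act.ker →
        ∀ w ∈ (orbit K y : Set α), (k : G) • w = w := by
      intro k hk hkT w hw
      refine hcon k (mem_akerOn.2 fun z hz N' F' T' hA' => ?_) w hw
      rcases Finset.mem_insert.1 (Finset.mem_coe.1 hz) with rfl | hz
      · rw [(T.unique T' hW.ne_two hA).2.1]; exact hkT
      · exact mem_akerOn.1 hk z hz N' F' T' hA'
    have hnle : ¬ akerOn p K (s : Set α) ≤ T.act.ker := fun h =>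
      hk₀w (htriv k₀ hk₀ (h hk₀) w₀ hw₀)
    have hMimg := (T.map_normal hW.ne_two hA _).resolve_left hnle
    have hfull := hW.loc.full_of_ne hW.mem hW.cov T hA hW.not_class
    set My := akerOn p K (s : Set α) ⊓ stabilizer ↥K y with hMy
    -- the stabilizer of `y` in the smaller kernel is in the kernel of `T`
    have hMyker : My ≤ T.act.ker := by
      have hle : My.map T.act ≤ alternatingGroup (Fin N) := by
        rintro _ ⟨k, -, rfl⟩; exact T.range_le_alternating hW.ne_two ⟨k, rfl⟩
      haveI : IsSimpleGroup (alternatingGroup (Fin N)) :=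
        alternatingGroup.isSimpleGroup (by rw [Nat.card_fin]; exact T.five_le hW.ne_two hA)
      have hn : ((My.map T.act).subgroupOf (alternatingGroup (Fin N))).Normal := by
        refine ⟨fun a ha b => ?_⟩
        obtain ⟨l, hl, hlb⟩ :
            (b : Perm (Fin N)) ∈ ((pGen p (K ⊓ stabilizer G y)).subgroupOf K).map T.act := by
          rw [hfull]; exact b.2
        obtain ⟨m, hm, hma⟩ := ha
        refine ⟨l * m * l⁻¹, ⟨‹(akerOn p K (s : Set α)).Normal›.conj_mem m hm.1 l, ?_⟩, ?_⟩
        · have hly : (l : G) • y = y := (pGen_le _ hl).2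
          show ((l : G) * (m : G) * (l : G)⁻¹) • y = y
          rw [mul_smul, mul_smul, inv_smul_eq_iff.2 hly.symm]
          rw [show (m : G) • y = y from hm.2, hly]
        · rw [map_mul, map_mul, map_inv, hlb, hma]; rfl
      rcases hn.eq_bot_or_eq_top with h | h
      · intro k hk
        rw [MonoidHom.mem_ker]
        have : (⟨T.act k, hle ⟨k, hk, rfl⟩⟩ : alternatingGroup (Fin N)) ∈
            (My.map T.act).subgroupOf (alternatingGroup (Fin N)) := ⟨k, hk, rfl⟩
        rw [h, Subgroup.mem_bot] at this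
        exact congrArg Subtype.val this
      · exfalso
        obtain ⟨k, hk, w, hw, hne⟩ : ∃ k ∈ akerOn p K (s : Set α), ∃ w ∈ (orbit K y : Set α),
            w = y ∧ (k : G) • w ≠ w := by
          obtain ⟨z, hz, hzy⟩ := Set.exists_ne_of_one_lt_ncard (hW.loc.one_lt_orbit hW.mem) y
          obtain ⟨_, ⟨k, hk, rfl⟩, hky⟩ := hMtr y (mem_orbit_self y) z hz
          exact ⟨k, hk, y, mem_orbit_self y, rfl, fun h => hzy (hky.symm.trans h)⟩
        obtain ⟨rfl, hne⟩ := hne
        obtain ⟨m, hm, hmk⟩ : T.act k ∈ My.map T.act :=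
          Subgroup.subgroupOf_eq_top.1 h (T.range_le_alternating hW.ne_two ⟨k, rfl⟩)
        apply hne
        have h1 := htriv (m⁻¹ * k) (Subgroup.mul_mem _ (Subgroup.inv_mem _ hm.1) hk)
          (by rw [MonoidHom.mem_ker, map_mul, map_inv, hmk, inv_mul_cancel]) w (mem_orbit_self w)
        rw [Subgroup.coe_mul, Subgroup.coe_inv, mul_smul, inv_smul_eq_iff] at h1
        rw [h1]
        exact hm.2
    -- `W` corresponds to the alternating group
    have hmy : ∀ z ∈ (orbit K y : Set α), ∃ m ∈ akerOn p K (s : Set α), (m : G) • y = z := by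
      intro z hz
      obtain ⟨_, ⟨m, hm, rfl⟩, hmz⟩ := hMtr y (mem_orbit_self y) z hz
      exact ⟨m, hm, hmz⟩
    choose! μ hμ hμy using hmy
    have hinj : Set.InjOn (fun z => T.act (μ z)) (orbit K y : Set α) := by
      intro z hz z' hz' h
      simp only at h
      have h1 := htriv ((μ z)⁻¹ * μ z') (Subgroup.mul_mem _ (Subgroup.inv_mem _ (hμ z hz)) (hμ z' hz'))
        (by rw [MonoidHom.mem_ker, map_mul, map_inv, h, inv_mul_cancel]) y (mem_orbit_self y)
      rw [Subgroup.coe_mul, Subgroup.coe_inv, mul_smul, inv_smul_eq_iff, hμy z hz, hμy z' hz'] at h1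
      exact h1.symm
    have himg : (fun z => T.act (μ z)) '' (orbit K y : Set α) = (alternatingGroup (Fin N) : Set _) := by
      refine Set.Subset.antisymm ?_ fun σ hσ => ?_
      · rintro _ ⟨z, -, rfl⟩; exact T.range_le_alternating hW.ne_two ⟨μ z, rfl⟩
      obtain ⟨m, hm, rfl⟩ : σ ∈ (akerOn p K (s : Set α)).map T.act := by rw [hMimg]; exact hσ
      have hz : (m : G) • y ∈ (orbit K y : Set α) := smul_mem_orbit' m.2 (mem_orbit_self y)
      refine ⟨_, hz, ?_⟩
      show T.act (μ ((m : G) • y)) = T.act m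
      have h1 : m⁻¹ * μ ((m : G) • y) ∈ My := ⟨Subgroup.mul_mem _ (Subgroup.inv_mem _ hm) (hμ _ hz), by
        show ((m : G)⁻¹ * (μ ((m : G) • y) : G)) • y = y
        rw [mul_smul, hμy _ hz, inv_smul_smul]⟩
      have h2 := hMyker h1
      rw [MonoidHom.mem_ker, map_mul, map_inv, inv_mul_eq_one] at h2
      exact h2.symm
    have hn2 : 2 * (orbit K y : Set α).ncard = N.factorial := by
      rw [← T.two_mul_card_range hW.ne_two hA, T.range_eq_alt hW.ne_two hA, ← hinj.ncard_image, himg,
        ← Nat.card_coe_set_eq]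
      rfl
    obtain ⟨P, hP, hyP⟩ := hW.cov
    obtain ⟨c, hcP, hord, -⟩ := T.exists_cycle P hP
    obtain ⟨hcyc, hsupp⟩ := isCycle_of_orderOf hord T.lt_two_mul
    have hfix : ((orbit K y : Set α) ∩ pts (P : Subgroup G)).ncard ≤ p * F.factorial := by
      have hsub : (fun z => T.act (μ z)) '' ((orbit K y : Set α) ∩ pts (P : Subgroup G)) ⊆
          (Subgroup.centralizer ({T.act c} : Set (Perm (Fin N))) : Set _) := by
        rintro _ ⟨z, ⟨hz, hzP⟩, rfl⟩
        simp only [SetLike.mem_coe, Subgroup.mem_centralizer_singleton_iff]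
        have h1 : (μ z)⁻¹ * c * μ z * c⁻¹ ∈ My := by
          refine ⟨?_, ?_⟩
          · rw [show (μ z)⁻¹ * c * μ z * c⁻¹ = (μ z)⁻¹ * (c * μ z * c⁻¹) by group]
            exact Subgroup.mul_mem _ (Subgroup.inv_mem _ (hμ z hz))
              (‹(akerOn p K (s : Set α)).Normal›.conj_mem _ (hμ z hz) c)
          · show (((μ z : G))⁻¹ * (c : G) * (μ z : G) * (c : G)⁻¹) • y = y
            rw [mul_smul, mul_smul, mul_smul, inv_smul_eq_iff.2 (hyP _ hcP).symm, hμy z hz,
              hzP _ hcP, inv_smul_eq_iff, hμy z hz]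
        have h2 := hMyker h1
        rw [MonoidHom.mem_ker, map_mul, map_mul, map_mul, map_inv, map_inv, mul_inv_eq_one,
          mul_assoc, inv_mul_eq_iff_eq_mul] at h2
        exact h2.symm
      have h1 := Set.ncard_le_ncard hsub
      rw [(hinj.mono Set.inter_subset_left).ncard_image] at h1
      refine h1.trans (le_of_eq ((Nat.card_coe_set_eq _).symm.trans ?_))
      refine (card_centralizer_cycle hcyc hsupp).trans ?_
      rw [Fintype.card_fin, mul_comm]
      have := T.N_eq
      congr 2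
      omega
    have hb := centralizer_bound hW.loc.three (AltCond.two_le (p := p) hA)
      (n := (orbit K y : Set α).ncard) (by rw [hn2, T.N_eq]) hfix
    exact absurd (hW.loc.orbit_small hP hW.mem) (not_le.2 hb)

end Lone

end Cfsg.Agent.HalfFix
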