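import Cfsg.Agent.Lib.HalfFix.Counter
import Cfsg.Agent.Lib.HalfFix.UKernel
import Cfsg.Agent.Lib.HalfFix.PermSmall

/-!
# A covered orbit without quotient, moved by the `p`-elements of the common kernel
-/

set_option autoImplicit false

namespace Cfsg.Agent.HalfFix

open MulAction Equiv
open scoped Pointwise

universe u

variable {p : ℕ} [Fact p.Prime] {G : Type u} [Group G] [Finite G] {α : Type} [MulAction G α]

theorem small_F {F : ℕ} (hp3 : 3 ≤ p) (hF1 : 1 ≤ F) (hF : F < p) (h : ¬ AltCond p F) :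
    F = 1 ∨ (F = 2 ∧ 7 ≤ p) := by
  have hpp := (Fact.out : p.Prime)
  unfold AltCond at h
  rcases Nat.lt_or_ge p 7 with h7 | h7
  · left
    interval_cases p
    · omega
    · exact absurd hpp (by norm_num)
    · omega
    · exact absurd hpp (by norm_num)
  · omega

/-- The points of alternating type. -/
def aSet (p : ℕ) (K : Subgroup G) (Y : Set α) : Set α := {z | z ∈ Y ∧ ∃ N, IsAType p K z N}

/-- The `p`-elements of the common kernel of the alternating types. -/
def m2Of (p : ℕ) (K : Subgroup G) (Y : Set α) : Subgroup G :=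
  pGen p ((akerOn p K (aSet p K Y)).map K.subtype)

theorem m2Of_le (K : Subgroup G) (Y : Set α) : m2Of p K Y ≤ K :=
  (pGen_le _).trans (Subgroup.map_subtype_le _)

theorem m2Of_normal (K : Subgroup G) (Y : Set α) : ((m2Of p K Y).subgroupOf K).Normal := by
  refine ⟨fun m hm k => ?_⟩
  show (k : G) * (m : G) * (k : G)⁻¹ ∈ m2Of p K Y
  refine conj_mem_pGen ?_ hm
  rintro _ ⟨z, hz, rfl⟩
  exact ⟨k * z * k⁻¹, (akerOn_normal K _).conj_mem z hz k, rfl⟩

theorem m2Of_fix {K : Subgroup G} {Y : Set α} {g : G} (hg : g ∈ m2Of p K Y) {z : α}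
    (hz : z ∈ aSet p K Y) : g • z = z := by
  obtain ⟨N, F, T, hA⟩ := hz.2
  suffices m2Of p K Y ≤ stabilizer G z from this hg
  refine (Subgroup.closure_le _).2 ?_
  rintro _ ⟨⟨k, hk, rfl⟩, j, hj⟩
  exact T.ker_pElement (mem_akerOn.1 hk z hz N F T hA) hj (mem_orbit_self z)

namespace Lone

variable {K : Subgroup G} {Y : Set α} {y : α} (hW : Lone p K Y y)

include hW

/-- A subgroup supported on `W` and transitive there. -/
def Supported (_ : Lone p K Y y) : Prop :=
  ∃ M : Subgroup G, M ≤ K ∧ (∀ g ∈ M, ∀ z ∈ Y, z ∉ orbit K y → g • z = z) ∧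
    TransOn M (orbit K y : Set α)

variable [Finite α]

/-- An invariant set outside `W` has defect at most `p (p - 2)`. -/
theorem sub_rest {P : Sylow p G} (hP : (P : Subgroup G) ≤ K) {s : Set α} (hs : s ⊆ Y)
    (hst : ∀ k ∈ K, ∀ x ∈ s, k • x ∈ s) (hdis : Disjoint (orbit K y : Set α) s) :
    dset p (P : Subgroup G) s ≤ (p : ℤ) * ((p : ℤ) - 2) := by
  have h1 := hW.loc.dset_le hP (s := (orbit K y : Set α) ∪ s)
    (Set.union_subset (hW.loc.orbit_subset hW.mem) hs) (fun k hk x hx => by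
      rcases hx with hx | hx
      · exact Or.inl (smul_mem_orbit' hk hx)
      · exact Or.inr (hst k hk x hx))
  rw [dset_union _ hdis] at h1
  have h2 := (hW.loc.unknown hP hW.mem hW.noType).2.1
  have h3 := hW.loc.small P hP
  linarith

theorem disjoint_orbit {v : α} (hv : v ∉ orbit K y) :
    Disjoint (orbit K y : Set α) (orbit K v : Set α) :=
  Set.disjoint_left.2 fun z hz hz' => hv (by
    rw [← orbit_eq_iff.2 hz, orbit_eq_iff.2 hz']; exact mem_orbit_self v)

/-- A small orbit has singleton blocks and is the only one. -/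
theorem small_unique {v : α} (hv : v ∈ Y) (hvW : v ∉ orbit K y) {N F : ℕ}
    (T : OType p K (orbit K v) N F) (hA : ¬ AltCond p F) :
    T.e = 1 ∧ ∀ z ∈ Y, z ∉ orbit K y → z ∉ orbit K v → z ∈ aSet p K Y := by
  obtain ⟨P, hP⟩ := hW.loc.sylow
  have hp : (3 : ℤ) ≤ p := by exact_mod_cast hW.loc.three
  have hd := hW.sub_rest hP (hW.loc.orbit_subset hv) (fun k hk x hx => smul_mem_orbit' hk hx)
    (hW.disjoint_orbit hvW)
  rw [T.dset_eq P hP] at hd
  have hF := small_F hW.loc.three T.F_pos T.F_lt hA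
  refine ⟨?_, fun z hz hzW hzv => ?_⟩
  · by_contra he
    have h2 : (2 : ℤ) ≤ T.e := by exact_mod_cast (show 2 ≤ T.e by have := T.e_pos; omega)
    rcases hF with rfl | ⟨rfl, h7⟩
    · have := mul_le_mul_of_nonneg_right h2 (show (0 : ℤ) ≤ (p : ℤ) * ((p : ℤ) - 2) by nlinarith)
      push_cast at hd
      nlinarith
    · have h7' : (7 : ℤ) ≤ p := by exact_mod_cast h7
      have := mul_le_mul_of_nonneg_right h2 (show (0 : ℤ) ≤ (p : ℤ) * ((p : ℤ) - 3) by nlinarith)
      push_cast at hd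
      nlinarith
  · obtain ⟨N', F', ⟨T'⟩⟩ := hW.isOType hz hzW
    refine ⟨hz, ?_⟩
    by_contra hcon
    have hA' : ¬ AltCond p F' := fun h => hcon ⟨N', F', T', h⟩
    have hF' := small_F hW.loc.three T'.F_pos T'.F_lt hA'
    have hdis2 : Disjoint (orbit K v : Set α) (orbit K z : Set α) :=
      Set.disjoint_left.2 fun w hw hw' => hzv (by
        rw [← orbit_eq_iff.2 hw, orbit_eq_iff.2 hw']; exact mem_orbit_self z)
    have hd2 := hW.sub_rest hP (s := (orbit K v : Set α) ∪ orbit K z)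
      (Set.union_subset (hW.loc.orbit_subset hv) (hW.loc.orbit_subset hz))
      (fun k hk x hx => by
        rcases hx with hx | hx
        · exact Or.inl (smul_mem_orbit' hk hx)
        · exact Or.inr (smul_mem_orbit' hk hx))
      (Set.disjoint_union_right.2 ⟨hW.disjoint_orbit hvW, hW.disjoint_orbit hzW⟩)
    rw [dset_union _ hdis2, T.dset_eq P hP, T'.dset_eq P hP] at hd2
    have he : (1 : ℤ) ≤ T.e := by exact_mod_cast T.e_pos
    have he' : (1 : ℤ) ≤ T'.e := by exact_mod_cast T'.e_pos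
    have hFle : (F : ℤ) ≤ 1 ∨ ((F : ℤ) ≤ 2 ∧ (7 : ℤ) ≤ p) := by omega
    have hFle' : (F' : ℤ) ≤ 1 ∨ ((F' : ℤ) ≤ 2 ∧ (7 : ℤ) ≤ p) := by omega
    have hpos : (0 : ℤ) ≤ (p : ℤ) - 1 - F ∧ (0 : ℤ) ≤ (p : ℤ) - 1 - F' := by
      have := T.F_lt; have := T'.F_lt; omega
    have hsum : (p : ℤ) - 2 < ((p : ℤ) - 1 - F) + ((p : ℤ) - 1 - F') := by omega
    have := mul_le_mul_of_nonneg_right he (mul_nonneg (show (0 : ℤ) ≤ p by linarith) hpos.1)
    have := mul_le_mul_of_nonneg_right he' (mul_nonneg (show (0 : ℤ) ≤ p by linarith) hpos.2)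
    have := mul_lt_mul_of_pos_left hsum (show (0 : ℤ) < p by linarith)
    nlinarith

/-- If the `p`-elements of the common kernel move `W`, some subgroup is supported on `W`. -/
theorem supported_of_m2_moves (hmove : ∃ g ∈ m2Of p K Y, ∃ w ∈ (orbit K y : Set α), g • w ≠ w) :
    hW.Supported := by
  classical
  set M2 := m2Of p K Y with hM2
  have hM2K : M2 ≤ K := m2Of_le K Y
  haveI hM2n := m2Of_normal (p := p) K Y
  obtain ⟨g₁, hg₁, w₁, hw₁, hgw₁⟩ := hmove
  have hnt : ¬ ∀ k ∈ M2.subgroupOf K, ∀ w ∈ (orbit K y : Set α), (k : G) • w = w := fun h =>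
    hgw₁ (h ⟨g₁, hM2K hg₁⟩ hg₁ w₁ hw₁)
  have htr : TransOn M2 (orbit K y : Set α) := by
    have h := (hW.normal_trivial_or_trans _).resolve_left hnt
    rwa [Subgroup.map_subgroupOf_eq_of_le hM2K] at h
  by_cases hall : ∀ z ∈ Y, z ∉ orbit K y → z ∈ aSet p K Y
  · exact ⟨M2, hM2K, fun g hg z hz hzW => m2Of_fix hg (hall z hz hzW), htr⟩
  push Not at hall
  obtain ⟨v, hv, hvW, hvA⟩ := hall
  obtain ⟨N, F, ⟨T⟩⟩ := hW.isOType hv hvW
  have hA : ¬ AltCond p F := fun h => hvA ⟨hv, N, F, T, h⟩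
  obtain ⟨he, huniq⟩ := hW.small_unique hv hvW T hA
  -- the kernel on the small orbit
  have hker_fix : ∀ k ∈ T.act.ker, ∀ z ∈ (orbit K v : Set α), (k : G) • z = z := by
    intro k hk z hz
    have h1 : ((orbit K v : Set α) ∩ T.π ⁻¹' {T.π z}).ncard ≤ 1 := by rw [T.fibre_ncard, he]
    refine (Set.ncard_le_one (Set.toFinite _)).1 h1 _ ⟨smul_mem_orbit' k.2 hz, ?_⟩ _ ⟨hz, rfl⟩
    show T.π ((k : G) • z) = T.π z
    rw [T.map_smul k z hz, MonoidHom.mem_ker.1 hk]
    rfl
  haveI := T.act.normal_ker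
  rcases hW.normal_trivial_or_trans (M2.subgroupOf K ⊓ T.act.ker) with htriv | htr'
  swap
  · refine ⟨_, (Subgroup.map_subtype_le _), ?_, htr'⟩
    rintro _ ⟨k, ⟨hk1, hk2⟩, rfl⟩ z hz hzW
    by_cases hzv : z ∈ orbit K v
    · exact hker_fix k hk2 z hzv
    · exact m2Of_fix hk1 (huniq z hz hzW hzv)
  exfalso
  obtain ⟨P, hP, hyP⟩ := hW.cov
  obtain ⟨c₀, hc₀P, hord₀, hpow₀, hfix₀⟩ := T.exists_cycle P hP
  -- an element of `P` in `M2` moving the small orbit
  obtain ⟨g₀, hg₀P, hg₀M, hg₀⟩ : ∃ g₀ : ↥K, (g₀ : G) ∈ (P : Subgroup G) ∧ (g₀ : G) ∈ M2 ∧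
      T.act g₀ ≠ 1 := by
    by_contra hcon
    push Not at hcon
    apply hnt
    suffices h : M2 ≤ T.act.ker.map K.subtype from fun k hk w hw => by
      obtain ⟨k', hk', hkk'⟩ := h hk
      obtain rfl : k' = k := Subtype.ext hkk'
      exact htriv k' ⟨hk, hk'⟩ w hw
    have hidem : pGen p M2 = M2 := pGen_idem _
    rw [← hidem]
    refine (Subgroup.closure_le _).2 ?_
    rintro x ⟨hx, j, hj⟩
    obtain ⟨Q, hQ, hxQ⟩ := exists_sylow_mem P hP (hM2K hx) hj
    obtain ⟨k, hk, rfl⟩ := exists_conj_of_le P Q hP hQ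
    rw [sylow_smul_coe, Subgroup.mem_pointwise_smul_iff_inv_smul_mem] at hxQ
    have hxP : k⁻¹ * x * k ∈ (P : Subgroup G) := by
      simpa [MulAut.smul_def, MulAut.conj_inv_apply] using hxQ
    set k' : ↥K := ⟨k, hk⟩
    set x' : ↥K := ⟨x, hM2K hx⟩
    have h1 := hcon (k'⁻¹ * x' * k') hxP (by
      have := Subgroup.mem_subgroupOf.1 (hM2n.conj_mem x' hx k'⁻¹)
      simpa using this)
    refine ⟨x', ?_, rfl⟩
    rw [SetLike.mem_coe, MonoidHom.mem_ker]
    rw [map_mul, map_mul, map_inv] at h1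
    have h2 : T.act x' = T.act k' * ((T.act k')⁻¹ * T.act x' * T.act k') * (T.act k')⁻¹ := by group
    rw [h2, h1]
    group
  set C := Subgroup.zpowers (T.act c₀) with hC
  have hg₀C : Subgroup.zpowers (T.act g₀) = C := by
    refine Subgroup.eq_of_le_of_card_ge (Subgroup.zpowers_le.2 (hpow₀ g₀ hg₀P)) ?_
    rw [Nat.card_zpowers, Nat.card_zpowers, hord₀]
    have h1 : orderOf (T.act g₀) ∣ p := by
      have := orderOf_dvd_natCard (⟨T.act g₀, hpow₀ g₀ hg₀P⟩ : C)
      rwa [Subgroup.orderOf_mk, Nat.card_zpowers, hord₀] at this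
    rcases (Nat.dvd_prime Fact.out).1 h1 with h | h
    · exact absurd (orderOf_eq_one_iff.1 h) hg₀
    · exact h.ge
  -- a Sylow subgroup of `M2`
  obtain ⟨Q, hQeq⟩ : ∃ Q : Sylow p ↥M2, ∀ m : ↥M2, m ∈ (Q : Subgroup ↥M2) ↔ (m : G) ∈ (P : Subgroup G) := by
    have hp : IsPGroup p ((P : Subgroup G).subgroupOf M2) :=
      P.isPGroup'.comap_of_injective M2.subtype M2.subtype_injective
    obtain ⟨Q, hQ⟩ := hp.exists_le_sylow
    refine ⟨Q, fun m => ⟨fun hm => ?_, fun hm => hQ hm⟩⟩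
    have hQp : IsPGroup p ((Q : Subgroup ↥M2).map M2.subtype) := Q.2.map _
    obtain ⟨R, hR⟩ := (hQp.of_equiv (Subgroup.subgroupOfEquivOfLe
      ((Subgroup.map_subtype_le _).trans hM2K : (Q : Subgroup ↥M2).map M2.subtype ≤ K)).symm).exists_le_sylow
    obtain ⟨k, hk⟩ := MulAction.exists_smul_eq K (P.subtype hP) R
    have hcard : Nat.card (Q : Subgroup ↥M2) ≤ Nat.card ((P : Subgroup G).subgroupOf M2) := by
      refine Nat.card_le_card_of_injective (fun q : (Q : Subgroup ↥M2) =>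
        (⟨⟨(k : G)⁻¹ * ((q : ↥M2) : G) * k, by
          have := Subgroup.mem_subgroupOf.1
            (hM2n.conj_mem ⟨((q : ↥M2) : G), hM2K (q : ↥M2).2⟩ (q : ↥M2).2 k⁻¹)
          simpa using this⟩, ?_⟩ :
          (P : Subgroup G).subgroupOf M2)) ?_
      · show (k : G)⁻¹ * ((q : ↥M2) : G) * k ∈ (P : Subgroup G)
        have h1 := hR (show (⟨((q : ↥M2) : G), hM2K (q : ↥M2).2⟩ : ↥K) ∈ _ from
          Subgroup.mem_subgroupOf.2 ⟨q, q.2, rfl⟩)
        rw [← hk] at h1
        have h2 : (⟨((q : ↥M2) : G), hM2K (q : ↥M2).2⟩ : ↥K) ∈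
            MulAut.conj k • ((P.subtype hP : Sylow p ↥K) : Subgroup ↥K) := h1
        rw [Subgroup.mem_pointwise_smul_iff_inv_smul_mem] at h2
        simpa [MulAut.smul_def, MulAut.conj_inv_apply] using Subgroup.mem_subgroupOf.1 h2
      · intro q q' h
        have := congrArg (fun z : (P : Subgroup G).subgroupOf M2 => ((z : ↥M2) : G)) h
        exact Subtype.ext (Subtype.ext (mul_left_cancel (mul_right_cancel this)))
    have := Subgroup.eq_of_le_of_card_ge hQ hcard
    rw [← this] at hm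
    exact hm
  set N₂ : Subgroup ↥M2 := stabilizer ↥M2 Q with hN₂
  have hQN : (Q : Subgroup ↥M2) ≤ N₂ := fun m hm =>
    Sylow.smul_eq_iff_mem_normalizer.2 (Subgroup.le_normalizer hm)
  have hyQ : ∀ m ∈ (Q : Subgroup ↥M2), (m : G) • y = y := fun m hm => hyP _ ((hQeq m).1 hm)
  -- the fixed points of `Q` on `W` form one orbit of its normalizer
  have hWM : (orbit M2 y : Set α) = orbit K y := by
    ext z
    constructor
    · rintro ⟨m, rfl⟩; exact smul_mem_orbit' (hM2K m.2) (mem_orbit_self y)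
    · intro hz
      obtain ⟨m, hm, hmz⟩ := htr y (mem_orbit_self y) z hz
      exact ⟨⟨m, hm⟩, hmz⟩
  have hFix : (orbit N₂ y : Set α) = (orbit K y : Set α) ∩ pts (G := ↥M2) (Q : Subgroup ↥M2) := by
    ext z
    constructor
    · rintro ⟨⟨n, hn⟩, rfl⟩
      refine ⟨smul_mem_orbit' (hM2K n.2) (mem_orbit_self y), ?_⟩
      have h1 : (n • Q : Sylow p ↥M2) = Q := hn
      rw [← h1, pts_smul_sylow]
      exact Set.smul_mem_smul_set (fun m hm => hyQ m hm)
    · rintro ⟨hz, hzQ⟩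
      rw [← hWM] at hz
      obtain ⟨m, rfl⟩ := hz
      obtain ⟨n, -, hnQ, hn⟩ := exists_normalizer_smul (α := α) Q le_top (Subgroup.mem_top m)
        (fun g hg => hyQ g hg) hzQ
      exact ⟨⟨n, hnQ⟩, hn⟩
  -- the action of the normalizer on the small orbit
  set φ : ↥M2 →* Perm (Fin N) := T.act.comp (Subgroup.inclusion hM2K) with hφ
  have hφker : ∀ m : ↥M2, φ m = 1 → (m : G) • y = y := fun m hm =>
    htriv (Subgroup.inclusion hM2K m) ⟨m.2, hm⟩ y (mem_orbit_self y)
  set f := φ.comp N₂.subtype with hf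
  set S : Subgroup ↥N₂ := stabilizer ↥N₂ y with hS
  have hkerS : f.ker ≤ S := fun n hn => hφker n hn
  have hidx : (S.map f.rangeRestrict).index = (orbit N₂ y : Set α).ncard := by
    rw [Subgroup.index_map_eq _ f.rangeRestrict_surjective (by rwa [MonoidHom.ker_rangeRestrict]),
      hS, index_stabilizer]
  set g₀' : ↥N₂ := ⟨⟨g₀, hg₀M⟩, hQN ((hQeq _).2 hg₀P)⟩
  have hg₀S : g₀' ∈ S := hyP _ hg₀P
  have hpS : p ∣ Nat.card (S.map f.rangeRestrict) := by
    have := orderOf_dvd_natCard (⟨f.rangeRestrict g₀', ⟨g₀', hg₀S, rfl⟩⟩ : S.map f.rangeRestrict)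
    rw [← Subgroup.orderOf_coe, ← Subgroup.orderOf_coe] at this
    have h2 : orderOf (T.act g₀) = p := by
      rw [← Nat.card_zpowers, hg₀C, Nat.card_zpowers, hord₀]
    exact h2 ▸ this
  obtain ⟨hcyc, hsupp⟩ := isCycle_of_orderOf hord₀ T.lt_two_mul
  have hrange : f.range ≤ Subgroup.normalizer (C : Set (Perm (Fin N))) ⊓ alternatingGroup (Fin N) := by
    rintro _ ⟨n, rfl⟩
    refine ⟨Subgroup.mem_normalizer_fintype fun x hx => ?_,
      T.range_le_alternating hW.ne_two ⟨_, rfl⟩⟩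
    rw [SetLike.mem_coe, ← hg₀C] at hx
    obtain ⟨z, rfl⟩ := Subgroup.mem_zpowers_iff.1 hx
    have hn : ((n : ↥M2) • Q : Sylow p ↥M2) = Q := n.2
    have h1 : (n : ↥M2) * (g₀' : ↥M2) * (n : ↥M2)⁻¹ ∈ (Q : Subgroup ↥M2) := by
      have h3 : (n : ↥M2) * (g₀' : ↥M2) * (n : ↥M2)⁻¹ ∈ (((n : ↥M2) • Q : Sylow p ↥M2) : Subgroup ↥M2) := by
        rw [sylow_smul_coe]
        exact Subgroup.smul_mem_pointwise_smul _ (MulAut.conj (n : ↥M2)) _ ((hQeq _).2 hg₀P)
      rwa [hn] at h3
    have h2 : f n * T.act g₀ * (f n)⁻¹ ∈ C := by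
      have := hpow₀ (Subgroup.inclusion hM2K ((n : ↥M2) * (g₀' : ↥M2) * (n : ↥M2)⁻¹)) ((hQeq _).1 h1)
      rwa [map_mul, map_mul, map_inv, map_mul, map_mul, map_inv] at this
    rw [← conj_zpow, SetLike.mem_coe]
    exact C.zpow_mem h2 z
  haveI : Nontrivial (Fin N) := Fin.nontrivial_iff_two_le.2 (by
    have := T.p_lt; have := (Fact.out : p.Prime).two_le; omega)
  obtain ⟨h, hh, hodd⟩ := exists_odd_normalizer hcyc hsupp hW.ne_two
    (by rw [Fintype.card_fin]; have := T.p_lt; omega)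
  set f2 := ((orbit K y : Set α) ∩ pts (G := ↥M2) (Q : Subgroup ↥M2)).ncard with hf2
  have hdvd : 2 * (f2 * p) ∣ (p - 1) * (p * F.factorial) := by
    have h1 : f2 * Nat.card (S.map f.rangeRestrict) = Nat.card f.range := by
      rw [← (S.map f.rangeRestrict).index_mul_card, hidx, hFix]
    have h2 := two_mul_card_inf_alternating _ hh hodd
    have h3 := card_normalizer_cycle_dvd hcyc hsupp
    rw [Fintype.card_fin, show N - p = F by have := T.N_eq; omega] at h3
    refine dvd_trans ?_ (h2 ▸ h3)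
    refine Nat.mul_dvd_mul_left 2 (dvd_trans ?_ (Subgroup.card_dvd_of_le hrange))
    rw [← h1]
    exact Nat.mul_dvd_mul_left _ hpS
  -- congruences
  set fW := ((orbit K y : Set α) ∩ pts (P : Subgroup G)).ncard with hfW
  have hle : fW ≤ f2 := Set.ncard_le_ncard fun z hz => ⟨hz.1, fun m hm => hz.2 _ ((hQeq m).1 hm)⟩
  have hf1 : 1 ≤ fW := (Set.ncard_pos).2 ⟨y, mem_orbit_self y, hyP⟩
  have hmodQ : (orbit K y : Set α).ncard ≡ f2 [MOD p] := by
    have h := (Q.isPGroup').card_modEq_card_fixedPoints (α := orbit M2 y)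
    have h0 : (orbit M2 y : Set α).ncard = (orbit K y : Set α).ncard := by rw [hWM]
    rw [Nat.card_coe_set_eq, h0] at h
    refine h.trans (congrArg (· % p) ?_)
    rw [hf2, ← hWM, Nat.card_coe_set_eq, ← Set.ncard_image_of_injective _ Subtype.val_injective]
    congr 1
    ext z
    constructor
    · rintro ⟨w, hw, rfl⟩
      exact ⟨w.2, fun m hm => congrArg Subtype.val (hw ⟨m, hm⟩)⟩
    · rintro ⟨hz, hz'⟩
      exact ⟨⟨z, hz⟩, fun m => Subtype.ext (hz' m m.2), rfl⟩
  have hmodP : (orbit K y : Set α).ncard ≡ fW [MOD p] := by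
    have h := fix_modEq (p := p) (G := ↥K) (α := orbit K y)
    rwa [fixCount_orbit P hP, Nat.card_coe_set_eq] at h
  have hd2 := hW.loc.dset_le hP (s := (orbit K y : Set α) ∪ orbit K v)
    (Set.union_subset (hW.loc.orbit_subset hW.mem) (hW.loc.orbit_subset hv))
    (fun k hk x hx => by
      rcases hx with hx | hx
      · exact Or.inl (smul_mem_orbit' hk hx)
      · exact Or.inr (smul_mem_orbit' hk hx))
  rw [dset_union _ (hW.disjoint_orbit hvW), T.dset_eq P hP, he] at hd2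
  have hupp := hd2.trans (hW.loc.small P hP)
  have hlow := (hW.loc.unknown hP hW.mem hW.noType).2.1
  rw [dset, ← hfW] at hupp hlow
  have hfn : fW ≤ (orbit K y : Set α).ncard := Set.ncard_le_ncard Set.inter_subset_left
  obtain ⟨k, hk⟩ := (Nat.modEq_iff_dvd' hfn).1 hmodP.symm
  have hnk : ((orbit K y : Set α).ncard : ℤ) = fW + p * k := by
    have : (orbit K y : Set α).ncard = fW + p * k := by omega
    exact_mod_cast this
  rw [hnk] at hupp hlow
  have hp3 : (3 : ℤ) ≤ p := by exact_mod_cast hW.loc.three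
  push_cast at hupp
  have hlow' : (p : ℤ) - 1 ≤ k * ((p : ℤ) - 1) - fW :=
    le_of_mul_le_mul_left (by nlinarith) (show (0 : ℤ) < p by linarith)
  have hupp' : k * ((p : ℤ) - 1) - fW ≤ (p : ℤ) - 2 + F :=
    le_of_mul_le_mul_left (by nlinarith) (show (0 : ℤ) < p by linarith)
  have hk2 : 2 ≤ k := by
    by_contra h
    have h' : (k : ℤ) ≤ 1 := by exact_mod_cast (show k ≤ 1 by omega)
    have := mul_le_mul_of_nonneg_right h' (show (0 : ℤ) ≤ (p : ℤ) - 1 by linarith)
    have : (1 : ℤ) ≤ fW := by exact_mod_cast hf1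
    linarith
  have hk2' : (2 : ℤ) * ((p : ℤ) - 1) ≤ k * ((p : ℤ) - 1) :=
    mul_le_mul_of_nonneg_right (by exact_mod_cast hk2) (by linarith)
  rcases small_F hW.loc.three T.F_pos T.F_lt hA with rfl | ⟨rfl, h7⟩
  · rw [Nat.factorial_one, mul_one] at hdvd
    have h4 : 2 * f2 ∣ p - 1 := Nat.dvd_of_mul_dvd_mul_right (Fact.out : p.Prime).pos
      (by rw [mul_assoc]; exact hdvd)
    have := Nat.le_of_dvd (by have := hW.loc.three; omega) h4
    push_cast at hupp'
    omega
  rw [Nat.factorial_two] at hdvd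
  have h4 : f2 ∣ p - 1 := by
    have h5 : 2 * p * f2 ∣ 2 * p * (p - 1) := by
      rw [show 2 * p * f2 = 2 * (f2 * p) by ring, show 2 * p * (p - 1) = (p - 1) * (p * 2) by ring]
      exact hdvd
    exact Nat.dvd_of_mul_dvd_mul_left (by have := hW.loc.three; omega) h5
  have h5 := Nat.le_of_dvd (by have := hW.loc.three; omega) h4
  have heq : fW = f2 := by
    have h6 := hmodP.symm.trans hmodQ
    rw [Nat.ModEq, Nat.mod_eq_of_lt (by omega), Nat.mod_eq_of_lt (by omega)] at h6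
    exact h6
  push_cast at hupp'
  have hfp : fW = p - 1 := by
    have h6 : (p : ℤ) - 2 ≤ fW := by linarith
    rcases (show fW = p - 1 ∨ fW = p - 2 by omega) with h | h
    · exact h
    · exfalso
      rw [← heq, h] at h4
      have h8 : p - 2 ∣ 1 := by
        have h9 : p - 2 ∣ (p - 2) + 1 := by
          rw [show p - 2 + 1 = p - 1 by omega]; exact h4
        exact (Nat.dvd_add_right (dvd_refl _)).1 h9
      have := Nat.le_of_dvd one_pos h8
      omega
  -- the stabilizer induces exactly `C`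
  have hScard : Nat.card (S.map f.rangeRestrict) = p := by
    have h1 : f2 * Nat.card (S.map f.rangeRestrict) = Nat.card f.range := by
      rw [← (S.map f.rangeRestrict).index_mul_card, hidx, hFix]
    have h2 := two_mul_card_inf_alternating _ hh hodd
    have h3 := card_normalizer_cycle_dvd hcyc hsupp
    rw [Fintype.card_fin, show N - p = 2 by have := T.N_eq; omega, Nat.factorial_two] at h3
    have h6 : 2 * (f2 * Nat.card (S.map f.rangeRestrict)) ∣ (p - 1) * (p * 2) :=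
      dvd_trans (Nat.mul_dvd_mul_left 2 (h1 ▸ Subgroup.card_dvd_of_le hrange)) (h2 ▸ h3)
    have h7 : Nat.card (S.map f.rangeRestrict) ∣ p := by
      refine Nat.dvd_of_mul_dvd_mul_left (show 0 < 2 * (p - 1) by omega) ?_
      rw [← heq, hfp] at h6
      rw [show 2 * (p - 1) * Nat.card (S.map f.rangeRestrict) = 2 * ((p - 1) * Nat.card (S.map f.rangeRestrict)) by ring,
        show 2 * (p - 1) * p = (p - 1) * (p * 2) by ring]
      exact h6
    exact Nat.dvd_antisymm h7 hpS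
  have hSC : ∀ n ∈ S, f n ∈ C := by
    intro n hn
    have hle : C ≤ (S.map f.rangeRestrict).map f.range.subtype := by
      rw [← hg₀C, Subgroup.zpowers_le]
      exact ⟨_, ⟨g₀', hg₀S, rfl⟩, rfl⟩
    have := Subgroup.eq_of_le_of_card_ge hle (by
      rw [Subgroup.card_map_of_injective f.range.subtype_injective, hScard, Nat.card_zpowers, hord₀])
    rw [this]
    exact ⟨_, ⟨n, hn, rfl⟩, rfl⟩
  set U := pGen p (M2 ⊓ stabilizer G y) with hU
  have hUM : U ≤ M2 := (pGen_le _).trans inf_le_left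
  set I₀ := (U.subgroupOf K).map T.act with hI
  have hI₀gen : pGen p I₀ = I₀ := by
    have h1 : pGen p (U.subgroupOf K) = U.subgroupOf K := by
      apply Subgroup.map_injective K.subtype_injective
      rw [map_pGen, Subgroup.map_subgroupOf_eq_of_le (hUM.trans hM2K), hU, pGen_idem]
    rw [hI, ← map_pGen, h1]
  have hg₀U : (g₀ : G) ∈ U := by
    obtain ⟨j, hj⟩ := P.isPGroup' ⟨g₀, hg₀P⟩
    exact mem_pGen ⟨hg₀M, hyP _ hg₀P⟩ (congrArg Subtype.val hj)
  have hc₀I : T.act c₀ ∈ I₀ := by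
    have : C ≤ I₀ := by rw [← hg₀C, Subgroup.zpowers_le]; exact ⟨g₀, hg₀U, rfl⟩
    exact this (Subgroup.mem_zpowers _)
  rcases transitive_or_fix I₀ hI₀gen hc₀I hord₀ T.lt_two_mul with hItr | ⟨i, hi⟩
  · -- a self-normalizing Sylow subgroup
    have hN : N = 2 + p := T.N_eq
    subst hN
    refine not_selfNormalizing I₀ hc₀I hord₀ (by omega) fun r hr hrC => ?_
    obtain ⟨m, hm, rfl⟩ := hr
    have hmM : (m : G) ∈ M2 := hUM hm
    have hmy : (m : G) • y = y := (pGen_le _ (hm : (m : G) ∈ U)).2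
    set m' : ↥M2 := ⟨m, hmM⟩
    set V₀ : Subgroup ↥M2 := stabilizer ↥M2 y ⊓ C.comap φ with hV₀
    have hQV : (Q : Subgroup ↥M2) ≤ V₀ := fun q hq =>
      ⟨hyQ q hq, hpow₀ (Subgroup.inclusion hM2K q) ((hQeq q).1 hq)⟩
    have hmQV : ((m' • Q : Sylow p ↥M2) : Subgroup ↥M2) ≤ V₀ := by
      rw [sylow_smul_coe]
      rintro _ ⟨q, hq, rfl⟩
      refine ⟨?_, ?_⟩
      · show ((m : G) * (q : G) * (m : G)⁻¹) • y = y
        rw [mul_smul, mul_smul, inv_smul_eq_iff.2 hmy.symm, hyQ q hq, hmy]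
      · show φ (m' * q * m'⁻¹) ∈ C
        rw [map_mul, map_mul, map_inv]
        exact hrC _ (hpow₀ (Subgroup.inclusion hM2K q) ((hQeq q).1 hq))
    obtain ⟨u, hu, huQ⟩ := exists_conj_of_le (m' • Q) Q hmQV hQV
    rw [← mul_smul] at huQ
    have h1 : (⟨u * m', huQ⟩ : ↥N₂) ∈ S := by
      show ((u : G) * (m : G)) • y = y
      rw [mul_smul, hmy]
      exact hu.1
    have h2 : φ (u * m') ∈ C := hSC _ h1
    rw [map_mul] at h2
    exact (Subgroup.mul_mem_cancel_left C hu.2).1 h2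
  -- a fixed set of blocks
  set C₀ : Finset (Fin N) := Finset.univ.filter fun i => ∀ r ∈ I₀, r i = i with hC₀
  have hiC₀ : i ∈ C₀ := by rw [hC₀]; simp only [Finset.mem_filter, Finset.mem_univ, true_and]; exact hi
  have hC₀P : ∀ j ∈ C₀, j ∈ T.blkFix P := fun j hj => (hfix₀ j).2 ((Finset.mem_filter.1 hj).2 _ hc₀I)
  have hstab : ∀ k : ↥K, (k : G) • y = y → C₀.image (T.act k) = C₀ := by
    intro k hk
    refine Finset.eq_of_subset_of_card_le ?_
      (le_of_eq (Finset.card_image_of_injective _ (T.act k).injective).symm)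
    intro j hj
    obtain ⟨j, hj', rfl⟩ := Finset.mem_image.1 hj
    rw [hC₀, Finset.mem_filter] at hj' ⊢
    refine ⟨Finset.mem_univ _, ?_⟩
    rintro _ ⟨u, hu, rfl⟩
    have h1 : ((k : G))⁻¹ * (u : G) * k ∈ U := by
      have hy' : ((k : G))⁻¹ • y = y := inv_smul_eq_iff.2 hk.symm
      have := conj_mem_pGen (H := M2 ⊓ stabilizer G y) (g := ((k : G))⁻¹) (fun z hz =>
        ⟨by
          have := Subgroup.mem_subgroupOf.1 (hM2n.conj_mem ⟨z, hM2K hz.1⟩ hz.1 k⁻¹)
          simpa using this, by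
          show ((k : G)⁻¹ * z * ((k : G)⁻¹)⁻¹) • y = y
          rw [inv_inv, mul_smul, mul_smul, hk, show z • y = y from hz.2, hy']⟩) hu
      simpa using this
    have h2 := hj'.2 (T.act (k⁻¹ * u * k)) ⟨_, h1, rfl⟩
    rw [map_mul, map_mul, map_inv, Perm.mul_apply, Perm.mul_apply, Perm.inv_eq_iff_eq] at h2
    exact h2
  have hex : ∀ z ∈ (orbit K y : Set α), ∃ k : ↥K, (k : G) • y = z := by
    rintro z ⟨k, rfl⟩; exact ⟨k, rfl⟩
  choose! κ hκ using hex
  let ψ : α → Finset (Fin N) := fun z => C₀.image (T.act (κ z))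
  have hψ : ∀ (k : ↥K), ψ ((k : G) • y) = C₀.image (T.act k) := by
    intro k
    have hk' := hκ _ (smul_mem_orbit' k.2 (mem_orbit_self y))
    have h1 := hstab (k⁻¹ * κ ((k : G) • y)) (by
      rw [Subgroup.coe_mul, Subgroup.coe_inv, mul_smul, hk', inv_smul_smul])
    rw [map_mul, map_inv] at h1
    have h2 := congrArg (Finset.image (T.act k)) h1
    rw [Finset.image_image] at h2
    simpa [ψ, Function.comp_def, Perm.mul_apply] using h2
  have hψsmul : ∀ (k : ↥K) (z : α), z ∈ (orbit K y : Set α) →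
      ψ ((k : G) • z) = (ψ z).image (T.act k) := by
    rintro k z ⟨l, rfl⟩
    show ψ ((k : G) • (l : G) • y) = (ψ ((l : G) • y)).image (T.act k)
    rw [← mul_smul, ← Subgroup.coe_mul, hψ, show ψ ((l : G) • y) = C₀.image (T.act l) from hψ l,
      Finset.image_image, map_mul]
    rfl
  haveI := (hW.loc.unknown hP hW.mem hW.noType).1
  have heqv : Equivalence fun a b : orbit K y => ψ (a : α) = ψ (b : α) :=
    ⟨fun _ => rfl, fun {_ _} h => h.symm, fun {_ _ _} h h' => h.trans h'⟩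
  rcases Cfsg.Agent.Perm.eq_or_all_of_invariant_equivalence (G := ↥K)
    (fun a b : orbit K y => ψ (a : α) = ψ (b : α)) heqv (fun k a b hab => by
      show ψ ((k : G) • (a : α)) = ψ ((k : G) • (b : α))
      rw [hψsmul k a a.2, hψsmul k b b.2, hab]) with hinj | hconst
  · have hmaps : ∀ z ∈ (orbit K y : Set α) ∩ pts (P : Subgroup G),
        ψ z ∈ ((Finset.univ.filter fun j => j ∈ T.blkFix P).powersetCard C₀.card : Set (Finset (Fin N))) := by
      rintro z ⟨hz, hzP⟩
      have hcard : (ψ z).card = C₀.card := Finset.card_image_of_injective _ (T.act _).injective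
      rw [Finset.mem_coe, Finset.mem_powersetCard]
      refine ⟨fun j hj => ?_, hcard⟩
      rw [Finset.mem_filter, hfix₀]
      refine ⟨Finset.mem_univ _, ?_⟩
      by_contra hmv
      have hfixset : ∀ n : ℤ, ((T.act c₀) ^ n) j ∈ ψ z := by
        intro n
        have h1 := hψsmul (c₀ ^ n) z hz
        rw [hzP _ (by rw [SubgroupClass.coe_zpow]; exact zpow_mem hc₀P n), map_zpow] at h1
        rw [h1]
        exact Finset.mem_image_of_mem _ hj
      have hsub : (T.act c₀).support ⊆ ψ z := fun w hw => by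
        obtain ⟨n, hn⟩ := hcyc.sameCycle hmv (Perm.mem_support.1 hw)
        rw [← hn]; exact hfixset n
      have h1 := Finset.card_le_card hsub
      rw [hsupp, hcard] at h1
      have h2 : C₀.card ≤ 2 := by
        rw [← T.fix_blk P hP, ← Set.ncard_coe_finset]
        exact Set.ncard_le_ncard fun j hj => hC₀P j hj
      omega
    have hinjOn : Set.InjOn ψ ((orbit K y : Set α) ∩ pts (P : Subgroup G)) := fun a ha b hb h =>
      congrArg Subtype.val (hinj ⟨a, ha.1⟩ ⟨b, hb.1⟩ h)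
    have h1 := Set.ncard_le_ncard_of_injOn ψ hmaps hinjOn
    rw [Set.ncard_coe_finset, Finset.card_powersetCard] at h1
    have h2 : (Finset.univ.filter fun j => j ∈ T.blkFix P).card = 2 := by
      refine Eq.trans ?_ (T.fix_blk P hP)
      rw [← Set.ncard_coe_finset]
      congr 1
      ext j; simp [OType.blkFix]
    rw [h2] at h1
    have h3 : Nat.choose 2 C₀.card ≤ 2 := Nat.choose_le_middle _ 2
    omega
  · -- constant: the group fixes a proper set of blocks
    have hinv : ∀ k : ↥K, C₀.image (T.act k) = C₀ := by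
      intro k
      have h1 := hψ k
      have h2 := hψ 1
      rw [map_one, Perm.coe_one, Finset.image_id] at h2
      have h3 : ψ ((k : G) • y) = ψ (((1 : ↥K) : G) • y) :=
        hconst ⟨_, smul_mem_orbit' k.2 (mem_orbit_self y)⟩
          ⟨_, smul_mem_orbit' (1 : ↥K).2 (mem_orbit_self y)⟩
      rw [← h1, h3, h2]
    have : ∀ j, j ∈ C₀ := by
      intro j
      obtain ⟨⟨_, k, rfl⟩, hkj⟩ := T.range_trans.exists_smul_eq i j
      rw [← hinv k, ← (show T.act k i = j from hkj)]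
      exact Finset.mem_image_of_mem _ hiC₀
    exact absurd ((Finset.mem_filter.1 (this _)).2 _ hc₀I)
      ((hcyc.imp fun _ h => h.1).choose_spec)

end Lone

end Cfsg.Agent.HalfFix
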