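import Cfsg.Agent.Lib.HalfFix.UCase
import Cfsg.Agent.Lib.HalfFix.PermTail

/-!
# A covered orbit without quotient on which the `p`-elements of the common kernel are trivial
-/

set_option autoImplicit false

namespace Cfsg.Agent.HalfFix

open MulAction Equiv
open scoped Pointwise

universe u v w

/-- A Sylow `r`-subgroup of a group transitive on `r ^ a` points is transitive. -/
theorem sylow_orbit_eq_univ {H : Type v} [Group H] [Finite H] {β : Type w} [MulAction H β] [Finite β]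
    [IsPretransitive H β] {r a : ℕ} [Fact r.Prime] (hcard : Nat.card β = r ^ a) (R : Sylow r H)
    (x : β) : (orbit (R : Subgroup H) x : Set β) = Set.univ := by
  refine Set.eq_of_subset_of_ncard_le (Set.subset_univ _) ?_
  rw [Set.ncard_univ]
  set Hx := stabilizer H x
  have h1 : Hx.index ∣ ((R : Subgroup H) ⊓ Hx).index := Subgroup.index_dvd_of_le inf_le_right
  have h2 : ((R : Subgroup H) ⊓ Hx).index = Hx.relIndex R * (R : Subgroup H).index := by
    rw [← Subgroup.relIndex_mul_index (inf_le_left : (R : Subgroup H) ⊓ Hx ≤ R),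
      Subgroup.inf_relIndex_left]
  have h3 : Hx.relIndex (R : Subgroup H) = (orbit (R : Subgroup H) x : Set β).ncard := by
    rw [← index_stabilizer]; rfl
  rw [h2, h3, index_stabilizer_of_transitive, hcard] at h1
  have hcop : (r ^ a).Coprime (R : Subgroup H).index :=
    (((Fact.out : r.Prime).coprime_iff_not_dvd).2 R.not_dvd_index).pow_left a
  rw [hcard]
  exact Nat.le_of_dvd ((Set.ncard_pos).2 ⟨x, mem_orbit_self x⟩) (hcop.dvd_of_dvd_mul_right h1)

theorem card_map_dvd_of_ker_le {H : Type v} [Group H] [Finite H] {A B : Type w} [Group A] [Group B]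
    (f : H →* A) (g : H →* B) (h : f.ker ≤ g.ker) (S : Subgroup H) :
    Nat.card (S.map g) ∣ Nat.card (S.map f) := by
  rw [← S.range_subtype, MonoidHom.map_range, MonoidHom.map_range, ← Subgroup.index_ker,
    ← Subgroup.index_ker]
  exact Subgroup.index_dvd_of_le fun x hx => h hx

variable {p : ℕ} [Fact p.Prime] {G : Type u} [Group G] [Finite G] {α : Type} [MulAction G α]

/-- The arithmetic of a coprime transitive subgroup. -/
theorem tail_arith {n f : ℕ} {R : ℤ} (hp : 3 ≤ p) (hmod : n ≡ f [MOD p]) (hdvd : f ∣ n)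
    (hpf : ¬ p ∣ f) (hlow : (p : ℤ) * ((p : ℤ) - 1) ≤ ((p : ℤ) - 1) * n - (2 * (p : ℤ) - 1) * f)
    (hupp : ((p : ℤ) - 1) * n - (2 * (p : ℤ) - 1) * f + R ≤ p * (2 * (p : ℤ) - 3)) (hR : 0 ≤ R) :
    (f = 1 ∨ f = 2) ∧ n = 2 * p + f ∧ R ≤ (p : ℤ) * ((f : ℤ) - 1) := by
  obtain ⟨k, rfl⟩ := hdvd
  have hp' : (3 : ℤ) ≤ p := by exact_mod_cast hp
  have hf1 : 1 ≤ f := Nat.pos_of_ne_zero fun h => hpf (by rw [h]; exact dvd_zero p)
  have hf1' : (1 : ℤ) ≤ f := by exact_mod_cast hf1
  have hk1 : 1 ≤ k := by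
    by_contra h
    obtain rfl : k = 0 := by omega
    push_cast at hlow
    nlinarith
  obtain ⟨t, rfl⟩ : ∃ t, k = 1 + p * t := by
    have h1 : k ≡ 1 [MOD p] :=
      Nat.ModEq.cancel_left_of_coprime (c := f) ((Fact.out : p.Prime).coprime_iff_not_dvd.2 hpf)
        (by rwa [mul_one])
    obtain ⟨t, ht⟩ := (Nat.modEq_iff_dvd' hk1).1 h1.symm
    exact ⟨t, by omega⟩
  have ht1 : 1 ≤ t := by
    by_contra h
    obtain rfl : t = 0 := by omega
    push_cast at hlow
    nlinarith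
  push_cast at hlow hupp
  have e : ((p : ℤ) - 1) * ((f : ℤ) * (1 + p * t)) - (2 * (p : ℤ) - 1) * f =
      (p : ℤ) * ((f : ℤ) * ((t : ℤ) * ((p : ℤ) - 1) - 1)) := by ring
  rw [e] at hlow hupp
  have hb : (f : ℤ) * ((t : ℤ) * ((p : ℤ) - 1) - 1) ≤ 2 * (p : ℤ) - 3 :=
    le_of_mul_le_mul_left (by linarith) (show (0 : ℤ) < p by linarith)
  have ht1' : (1 : ℤ) ≤ t := by exact_mod_cast ht1
  have hf2 : f ≤ 2 := by
    by_contra h
    have h3 : (3 : ℤ) ≤ f := by exact_mod_cast (show 3 ≤ f by omega)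
    have hpp : p ≠ 3 ∨ (f : ℤ) ≠ 3 := by
      by_contra h'
      push Not at h'
      refine hpf ?_
      rw [h'.1, show f = 3 by exact_mod_cast h'.2]
    have h4 := mul_le_mul_of_nonneg_left
      (mul_le_mul_of_nonneg_right ht1' (show (0 : ℤ) ≤ (p : ℤ) - 1 by linarith))
      (show (0 : ℤ) ≤ f by linarith)
    rcases hpp with hp3 | hf3
    · have : (4 : ℤ) ≤ p := by exact_mod_cast (show 4 ≤ p by omega)
      nlinarith
    · have : (4 : ℤ) ≤ f := by omega
      nlinarith
  rcases (show f = 1 ∨ f = 2 by omega) with rfl | rfl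
  · have h2 : (2 : ℤ) ≤ t := by
      by_contra h
      have : (t : ℤ) = 1 := by omega
      rw [this] at hlow
      push_cast at hlow
      nlinarith
    have h3 : t = 2 := by
      by_contra h
      have h4 : (3 : ℤ) ≤ t := by omega
      have := mul_le_mul_of_nonneg_right h4 (show (0 : ℤ) ≤ (p : ℤ) - 1 by linarith)
      push_cast at hb
      linarith
    subst h3
    refine ⟨Or.inl rfl, by ring, ?_⟩
    push_cast at hupp ⊢
    linarith
  · have h3 : t = 1 := by
      by_contra h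
      have h4 : (2 : ℤ) ≤ t := by omega
      have := mul_le_mul_of_nonneg_right h4 (show (0 : ℤ) ≤ (p : ℤ) - 1 by linarith)
      push_cast at hb
      linarith
    subst h3
    refine ⟨Or.inr rfl, by ring, ?_⟩
    push_cast at hupp ⊢
    linarith

namespace Lone

variable {K : Subgroup G} {Y : Set α} {y : α} (hW : Lone p K Y y)

include hW

variable [Finite α]

/-- The action on `W` is involved in some alternating type. -/
theorem exists_le_ker (hfix : ∀ g ∈ m2Of p K Y, ∀ w ∈ (orbit K y : Set α), g • w = w) :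
    ¬ p ∣ Nat.card ((akerOn p K (aSet p K Y)).map (toPermHom ↥K (orbit K y))) ∧
      ∃ x ∈ aSet p K Y, ∃ N F, ∃ T : OType p K (orbit K x) N F,
        T.IsA ∧ (toPermHom ↥K (orbit K y)).ker ≤ T.act.ker := by
  classical
  set ρ := toPermHom ↥K (orbit K y)
  set M1 := akerOn p K (aSet p K Y)
  have hL : ¬ p ∣ Nat.card (M1.map ρ) := by
    intro hd
    obtain ⟨⟨_, m, hm, rfl⟩, hx⟩ := exists_prime_orderOf_dvd_card' (G := M1.map ρ) p hd
    rw [← Subgroup.orderOf_coe] at hx
    dsimp only at hx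
    obtain ⟨s, ⟨j, hj⟩, hs⟩ := exists_pElement_lift (p := p) ρ (x := m) (k := 1)
      (by rw [pow_one, ← hx, pow_orderOf_eq_one])
    have hmem : ((m ^ s : ↥K) : G) ∈ m2Of p K Y :=
      mem_pGen ⟨m ^ s, M1.pow_mem hm s, rfl⟩ (congrArg Subtype.val hj)
    have h1 : ρ (m ^ s) = 1 := Equiv.ext fun w => Subtype.ext (hfix _ hmem w w.2)
    rw [← hs, h1, orderOf_one] at hx
    exact (Fact.out : p.Prime).ne_one hx.symm
  refine ⟨hL, ?_⟩
  by_contra hcon
  push Not at hcon
  have hind : ∀ s : Finset α, (∀ z ∈ s, z ∈ aSet p K Y) → ρ.ker ⊔ akerOn p K (s : Set α) = ⊤ := by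
    intro s
    induction s using Finset.induction_on with
    | empty =>
      exact fun _ => top_unique (le_sup_of_le_right fun k _ =>
        mem_akerOn.2 fun z hz => by simp at hz)
    | insert a s _ ih =>
      intro hmem
      obtain ⟨-, N, F, T, hA⟩ := id (hmem a (Finset.mem_insert_self a s))
      have hT : ¬ ρ.ker ≤ T.act.ker :=
        hcon a (hmem a (Finset.mem_insert_self a s)) N F T hA
      rw [eq_top_iff, ← ih fun z hz => hmem z (Finset.mem_insert_of_mem hz)]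
      refine sup_le le_sup_left ?_
      have hmk : ∀ m ∈ akerOn p K (s : Set α), m ∈ T.act.ker →
          m ∈ akerOn p K ((insert a s : Finset α) : Set α) := fun m hm hmT =>
        mem_akerOn.2 fun z hz N' F' T' hA' => by
          rcases Finset.mem_insert.1 (Finset.mem_coe.1 hz) with rfl | hz
          · rw [(T.unique T' hW.ne_two hA).2.1]; exact hmT
          · exact mem_akerOn.1 hm z hz N' F' T' hA'
      intro m hm
      by_cases hs : akerOn p K (s : Set α) ≤ T.act.ker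
      · exact Subgroup.mem_sup_right (hmk m hm (hs hm))
      haveI := akerOn_normal (p := p) K (s : Set α)
      have himg := (T.map_normal hW.ne_two hA _).resolve_left (T.inf_not_le_ker hW.ne_two hA hT hs)
      obtain ⟨u, ⟨hu1, hu2⟩, hu⟩ : T.act m ∈ (ρ.ker ⊓ akerOn p K (s : Set α)).map T.act := by
        rw [himg]; exact T.range_le_alternating hW.ne_two ⟨m, rfl⟩
      rw [← mul_inv_cancel_left u m]
      exact Subgroup.mul_mem_sup hu1 (hmk _ (Subgroup.mul_mem _ (Subgroup.inv_mem _ hu2) hm)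
        (by rw [MonoidHom.mem_ker, map_mul, map_inv, hu, inv_mul_cancel]))
  have hfin : (aSet p K Y).Finite := Set.toFinite _
  have htop : ρ.ker ⊔ M1 = ⊤ := by
    have := hind hfin.toFinset fun z hz => hfin.mem_toFinset.1 hz
    rwa [hfin.coe_toFinset] at this
  have hgen : IsGen p ↥K := by
    have := isGen_pGen (p := p) K
    rwa [hW.loc.gen] at this
  obtain ⟨k, hk, hky⟩ := hW.loc.moving y hW.mem
  let φ : ↥K →* ↥(M1.map ρ) := ρ.codRestrict _ fun k => by
    have : ρ k ∈ (ρ.ker ⊔ M1).map ρ := ⟨k, by rw [htop]; exact Subgroup.mem_top _, rfl⟩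
    rwa [Subgroup.map_sup, (Subgroup.map_eq_bot_iff ρ.ker).2 le_rfl, bot_sup_eq] at this
  have h1 : ρ ⟨k, hk⟩ = 1 := congrArg Subtype.val (hgen.eq_one_of_not_dvd hL φ ⟨k, hk⟩)
  exact hky (congrArg Subtype.val (congrArg
    (fun σ : Perm (orbit K y) => σ ⟨y, mem_orbit_self y⟩) h1))

/-- The point stabilizer induces too much on the blocks, for `p ≥ 5`. -/
theorem centralizer_too_big (hp5 : 5 ≤ p) {P : Sylow p G} (hP : (P : Subgroup G) ≤ K)
    (hyP : y ∈ pts (P : Subgroup G)) {x : α} {N F : ℕ} (T : OType p K (orbit K x) N F)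
    (hA : T.IsA) (hker : (toPermHom ↥K (orbit K y)).ker ≤ T.act.ker) {f : ℕ} (hf2 : f ≤ 2)
    (hfc : ((orbit K y : Set α) ∩ pts (P : Subgroup G)).ncard = f)
    (hn : (orbit K y : Set α).ncard = 2 * p + f) (hF : p ≤ F + 2) : False := by
  classical
  haveI : Fintype (orbit K y) := Fintype.ofFinite _
  set ρ := toPermHom ↥K (orbit K y)
  set Q : Subgroup (Perm (orbit K y)) := ((P : Subgroup G).subgroupOf K).map ρ
  set y' : orbit K y := ⟨y, mem_orbit_self y⟩
  have hQ : IsPGroup p Q :=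
    (P.isPGroup'.of_equiv (Subgroup.subgroupOfEquivOfLe hP).symm).map ρ
  have hQfix : (pts Q : Set (orbit K y)).ncard = f := by
    rw [← hfc, ← Set.ncard_image_of_injective _ Subtype.val_injective]
    congr 1
    ext z
    constructor
    · rintro ⟨w, hw, rfl⟩
      exact ⟨w.2, fun g hg => congrArg Subtype.val (hw _ ⟨⟨g, hP hg⟩, hg, rfl⟩)⟩
    · rintro ⟨hz, hz'⟩
      refine ⟨⟨z, hz⟩, ?_, rfl⟩
      rintro _ ⟨k, hk, rfl⟩
      exact Subtype.ext (hz' k hk)
  have hyQ : y' ∈ pts Q := by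
    rintro _ ⟨k, hk, rfl⟩
    exact Subtype.ext (hyP k hk)
  obtain ⟨c₀, hc₀P, hord, hpow, -⟩ := T.exists_cycle P hP
  obtain ⟨hcyc, hsupp⟩ := isCycle_of_orderOf hord T.lt_two_mul
  set c := T.act c₀
  set Nk : Subgroup ↥K := stabilizer ↥K y ⊓ (stabilizer G P).comap K.subtype with hNk
  have hfull := hW.loc.full_of_ne hW.mem hW.cov T hA hW.not_class
  -- the centralizer of the cycle in the alternating group comes from the normalizer
  have hC : Subgroup.centralizer ({c} : Set (Perm (Fin N))) ⊓ alternatingGroup (Fin N) ≤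
      Nk.map T.act := by
    rintro σ ⟨hσc, hσA⟩
    obtain ⟨k, hk, rfl⟩ : σ ∈ ((pGen p (K ⊓ stabilizer G y)).subgroupOf K).map T.act := by
      rw [hfull]; exact hσA
    have hky : (k : G) • y = y := (pGen_le _ hk).2
    set V : Subgroup ↥K := stabilizer ↥K y ⊓ (Subgroup.zpowers c).comap T.act
    have hPV : (P : Subgroup G) ≤ V.map K.subtype := fun g hg =>
      ⟨⟨g, hP hg⟩, ⟨hyP g hg, hpow ⟨g, hP hg⟩ hg⟩, rfl⟩
    have hkV : (((k : G) • P : Sylow p G) : Subgroup G) ≤ V.map K.subtype := by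
      rw [sylow_smul_coe]
      rintro _ ⟨g, hg, rfl⟩
      refine ⟨k * ⟨g, hP hg⟩ * k⁻¹, ⟨?_, ?_⟩, rfl⟩
      · show ((k : G) * g * (k : G)⁻¹) • y = y
        rw [mul_smul, mul_smul, inv_smul_eq_iff.2 hky.symm, hyP g hg, hky]
      · show T.act (k * ⟨g, hP hg⟩ * k⁻¹) ∈ Subgroup.zpowers c
        obtain ⟨i, hi⟩ := Subgroup.mem_zpowers_iff.1 (hpow ⟨g, hP hg⟩ hg)
        rw [map_mul, map_mul, map_inv, ← hi, ← conj_zpow,
          show T.act k * c * (T.act k)⁻¹ = c by
            rw [Subgroup.mem_centralizer_singleton_iff.1 hσc, mul_inv_cancel_right]]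
        exact Subgroup.zpow_mem_zpowers c i
    obtain ⟨_, ⟨u, hu, rfl⟩, huP⟩ := exists_conj_of_le ((k : G) • P) P hkV hPV
    rw [← mul_smul] at huP
    have huk : u * k ∈ Nk := ⟨by
      show ((u : G) * (k : G)) • y = y
      rw [mul_smul, hky]; exact hu.1, huP⟩
    obtain ⟨i, hi⟩ := Subgroup.mem_zpowers_iff.1 hu.2
    have hc₀ : c₀ ∈ Nk := ⟨hyP _ hc₀P,
      Sylow.smul_eq_iff_mem_normalizer.2 (Subgroup.le_normalizer hc₀P)⟩
    refine ⟨(c₀ ^ i)⁻¹ * (u * k), Nk.mul_mem (Nk.inv_mem (Nk.zpow_mem hc₀ i)) huk, ?_⟩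
    rw [map_mul, map_mul, map_inv, map_zpow, ← hi, inv_mul_cancel_left]
  -- the normalizer is small on `W`
  have hnorm : Nk.map ρ ≤ Subgroup.normalizer (Q : Set (Perm (orbit K y))) ⊓
      stabilizer (Perm (orbit K y)) y' := by
    rintro _ ⟨n, ⟨hny, hnP⟩, rfl⟩
    refine ⟨Subgroup.mem_normalizer_fintype ?_, Subtype.ext hny⟩
    rintro _ ⟨g, hg, rfl⟩
    refine ⟨n * g * n⁻¹, ?_, by rw [map_mul, map_mul, map_inv]⟩
    show (n : G) * (g : G) * (n : G)⁻¹ ∈ (P : Subgroup G)
    have h1 : (n : G) * (g : G) * (n : G)⁻¹ ∈ (((n : G) • P : Sylow p G) : Subgroup G) := by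
      rw [sylow_smul_coe]
      exact Subgroup.smul_mem_pointwise_smul _ (MulAut.conj (n : G)) _ hg
    rwa [show (n : G) • P = P from hnP] at h1
  have hF2 : 2 ≤ F := by omega
  have hN2 : 1 < c.supportᶜ.card := by
    rw [Finset.card_compl, hsupp, Fintype.card_fin]
    have := T.N_eq; omega
  obtain ⟨u, hu, v, hv, huv⟩ := Finset.one_lt_card.1 hN2
  rw [Finset.mem_compl, Perm.notMem_support] at hu hv
  haveI : Nontrivial (Fin N) := Fin.nontrivial_iff_two_le.2 (by
    have := T.p_lt; omega)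
  have h2 := two_mul_card_inf_alternating (Subgroup.centralizer ({c} : Set (Perm (Fin N))))
    (h := swap u v) (by rw [Subgroup.mem_centralizer_singleton_iff, Equiv.mul_swap_eq_swap_mul, hu, hv])
    (Perm.sign_swap huv)
  rw [card_centralizer_cycle hcyc hsupp, Fintype.card_fin,
    show N - p = F by have := T.N_eq; omega] at h2
  have hd : F.factorial * p ∣ 2 * (2 * (((p - 1) * p) * ((p - 1) * p))) := by
    rw [← h2]
    refine Nat.mul_dvd_mul_left 2 ((Subgroup.card_dvd_of_le hC).trans ?_)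
    refine (card_map_dvd_of_ker_le ρ T.act hker Nk).trans ?_
    refine (Subgroup.card_dvd_of_le hnorm).trans ?_
    exact card_two_orbit_normalizer (by omega) Q hQ hQfix hf2
      (by rw [← Nat.card_eq_fintype_card, Nat.card_coe_set_eq, hn]; ring) hyQ
  -- `p - 2` is odd, prime to `p - 1`, and divides `F!`
  have hpp := (Fact.out : p.Prime)
  have hcop1 : (p - 2).Coprime (p - 1) := by
    rw [show p - 1 = (p - 2) + 1 by omega]; simp
  have hcopp : (p - 2).Coprime p :=
    ((hpp.coprime_iff_not_dvd).2 fun h => by have := Nat.le_of_dvd (by omega) h; omega).symm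
  have hcop2 : (p - 2).Coprime 2 := by
    rw [Nat.coprime_two_right]
    exact Nat.Odd.sub_even (by omega) (hpp.odd_of_ne_two (by omega)) even_two
  have hcop : (p - 2).Coprime (2 * (2 * (((p - 1) * p) * ((p - 1) * p)))) :=
    Nat.Coprime.mul_right hcop2 (Nat.Coprime.mul_right hcop2
      (Nat.Coprime.mul_right (Nat.Coprime.mul_right hcop1 hcopp) (Nat.Coprime.mul_right hcop1 hcopp)))
  have := hcop.eq_one_of_dvd (((Nat.dvd_factorial (by omega) (by omega)).trans (dvd_mul_right _ _)).trans hd)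
  omega

/-- The `p`-elements of the common kernel cannot be trivial on `W`. -/
theorem absurd_of_m2_fixes (hfix : ∀ g ∈ m2Of p K Y, ∀ w ∈ (orbit K y : Set α), g • w = w) :
    False := by
  classical
  haveI : Fintype (orbit K y) := Fintype.ofFinite _
  obtain ⟨hL, x, hx, N, F, T, hA, hker⟩ := hW.exists_le_ker hfix
  obtain ⟨P, hP, hyP⟩ := hW.cov
  set ρ := toPermHom ↥K (orbit K y)
  set M1 := akerOn p K (aSet p K Y)
  set L := M1.map ρ
  haveI := akerOn_normal (p := p) K (aSet p K Y)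
  have hmv : ¬ ∀ k ∈ M1, ∀ w ∈ (orbit K y : Set α), (k : G) • w = w := by
    intro h
    have hfin : (aSet p K Y).Finite := Set.toFinite _
    obtain ⟨k, hk, w, hw, hne⟩ := hW.akerOn_moves hfin.toFinset fun z hz => (hfin.mem_toFinset.1 hz).1
    rw [hfin.coe_toFinset] at hk
    exact hne (h k hk w hw)
  have htr : ∀ a b : orbit K y, ∃ l ∈ L, l • a = b := by
    intro a b
    obtain ⟨_, ⟨m, hm, rfl⟩, hab⟩ :=
      (hW.normal_trivial_or_trans M1).resolve_left hmv a a.2 b b.2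
    exact ⟨ρ m, ⟨m, hm, rfl⟩, Subtype.ext hab⟩
  set Q : Subgroup (Perm (orbit K y)) := ((P : Subgroup G).subgroupOf K).map ρ
  have hQ : IsPGroup p Q :=
    (P.isPGroup'.of_equiv (Subgroup.subgroupOfEquivOfLe hP).symm).map ρ
  have hQL : Q ≤ Subgroup.normalizer (L : Set (Perm (orbit K y))) := by
    rintro _ ⟨g, -, rfl⟩
    refine Subgroup.mem_normalizer_fintype ?_
    rintro _ ⟨m, hm, rfl⟩
    exact ⟨g * m * g⁻¹, ‹M1.Normal›.conj_mem m hm g, by rw [map_mul, map_mul, map_inv]⟩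
  set y' : orbit K y := ⟨y, mem_orbit_self y⟩
  have hyQ : y' ∈ pts Q := by
    rintro _ ⟨k, hk, rfl⟩
    exact Subtype.ext (hyP k hk)
  set f := ((orbit K y : Set α) ∩ pts (P : Subgroup G)).ncard with hfdef
  have hfQ : (pts Q : Set (orbit K y)).ncard = f := by
    rw [hfdef, ← Set.ncard_image_of_injective _ Subtype.val_injective]
    congr 1
    ext z
    constructor
    · rintro ⟨w, hw, rfl⟩
      exact ⟨w.2, fun g hg => congrArg Subtype.val (hw _ ⟨⟨g, hP hg⟩, hg, rfl⟩)⟩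
    · rintro ⟨hz, hz'⟩
      refine ⟨⟨z, hz⟩, ?_, rfl⟩
      rintro _ ⟨k, hk, rfl⟩
      exact Subtype.ext (hz' k hk)
  have hdvd : f ∣ (orbit K y : Set α).ncard := by
    rw [← Nat.card_coe_set_eq, ← hfQ]
    exact fix_dvd_card L Q hQL hQ hL htr hyQ
  have hfK : fixCount p ↥K (orbit K y) = f := by
    rw [fixCount_eq (P.subtype hP), hfdef, ← Set.ncard_image_of_injective _ Subtype.val_injective]
    congr 1
    ext z
    constructor
    · rintro ⟨w, hw, rfl⟩
      exact ⟨w.2, fun g hg => congrArg Subtype.val (hw ⟨g, hP hg⟩ hg)⟩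
    · rintro ⟨hz, hz'⟩
      exact ⟨⟨z, hz⟩, fun g hg => Subtype.ext (hz' g hg), rfl⟩
  have hmod : (orbit K y : Set α).ncard ≡ f [MOD p] := by
    have h := fix_modEq (p := p) (G := ↥K) (α := orbit K y)
    rwa [hfK, Nat.card_coe_set_eq] at h
  have hf0 : 0 < f := (Set.ncard_pos).2 ⟨y, mem_orbit_self y, hyP⟩
  have hpf : ¬ p ∣ f := hfK ▸ not_dvd_fixCount (p := p) (G := ↥K) (α := orbit K y) (hfK ▸ hf0)
  have hlow := (hW.loc.unknown hP hW.mem hW.noType).2.1
  have hstY : ∀ k ∈ K, ∀ z ∈ Y \ (orbit K y : Set α), k • z ∈ Y \ (orbit K y : Set α) :=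
    stable_diff hW.loc.stable fun k hk z hz => smul_mem_orbit' hk hz
  have hsum : dset p (P : Subgroup G) (orbit K y : Set α) +
      dset p (P : Subgroup G) (Y \ orbit K y) ≤ p * (2 * (p : ℤ) - 3) := by
    rw [← dset_union _ Set.disjoint_sdiff_right, Set.union_sdiff_cancel (hW.loc.orbit_subset hW.mem)]
    exact hW.loc.small P hP
  rw [dset, ← hfdef] at hlow
  rw [dset, ← hfdef] at hsum
  obtain ⟨hf12, hn, hR⟩ := tail_arith hW.loc.three hmod hdvd hpf hlow hsum
    (hW.loc.dset_nonneg hP Set.sdiff_subset hstY)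
  -- the block parameters of `T`
  have hxW : x ∉ orbit K y := fun h => hW.noType (isOType_of_mem (b := x) (by
    rw [orbit_eq_of_mem h]; exact mem_orbit_self y) ⟨N, F, ⟨T⟩⟩)
  have hxsub : (orbit K x : Set α) ⊆ Y \ orbit K y := fun z hz =>
    ⟨hW.loc.orbit_subset hx.1 hz, fun h => hxW (by
      rw [← orbit_eq_of_mem h, orbit_eq_of_mem hz]; exact mem_orbit_self x)⟩
  have hsub : dset p (P : Subgroup G) (orbit K x : Set α) ≤ dset p (P : Subgroup G) (Y \ orbit K y) := by
    have h1 : dset p (P : Subgroup G) (Y \ orbit K y) = dset p (P : Subgroup G) (orbit K x : Set α) +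
        dset p (P : Subgroup G) ((Y \ orbit K y) \ orbit K x) := by
      rw [← dset_union _ Set.disjoint_sdiff_right, Set.union_sdiff_cancel hxsub]
    have h2 := hW.loc.dset_nonneg hP (s := (Y \ orbit K y) \ orbit K x)
      (Set.sdiff_subset.trans Set.sdiff_subset)
      (stable_diff hstY fun k hk z hz => smul_mem_orbit' hk hz)
    linarith
  rw [T.dset_eq P hP] at hsub
  have hb : (T.e : ℤ) * ((p : ℤ) - 1 - F) ≤ (f : ℤ) - 1 :=
    le_of_mul_le_mul_left (by linarith) (show (0 : ℤ) < p by exact_mod_cast (Fact.out : p.Prime).pos)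
  have he : (1 : ℤ) ≤ T.e := by exact_mod_cast T.e_pos
  have hFp : (0 : ℤ) ≤ (p : ℤ) - 1 - F := by have := T.F_lt; omega
  have := mul_le_mul_of_nonneg_right he hFp
  have hF : p ≤ F + 2 := by omega
  rcases Nat.lt_or_ge p 5 with hp5 | hp5
  swap
  · exact hW.centralizer_too_big hp5 hP hyP T hA hker (by omega) hfdef.symm hn hF
  have hp3 : p = 3 := by
    have := hW.loc.three
    by_contra h
    have h4 : p = 4 := by omega
    subst h4
    exact absurd (Fact.out : Nat.Prime 4) (by norm_num)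
  subst hp3
  have hN : N = 5 := by
    have := AltCond.two_le (p := 3) hA
    have := T.N_eq; have := T.F_lt; omega
  subst hN
  obtain ⟨r, a, hr, hra, hnr⟩ : ∃ r a, r.Prime ∧ (orbit K y : Set α).ncard = r ^ a ∧
      (((orbit K y : Set α).ncard = 7 ∧ r = 7) ∨ ((orbit K y : Set α).ncard = 8 ∧ r = 2)) := by
    rcases hf12 with h | h
    · exact ⟨7, 1, by norm_num, by rw [hn, h]; norm_num, Or.inl ⟨by rw [hn, h], rfl⟩⟩
    · exact ⟨2, 3, Nat.prime_two, by rw [hn, h]; norm_num, Or.inr ⟨by rw [hn, h], rfl⟩⟩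
  haveI : Fact r.Prime := ⟨hr⟩
  haveI : IsPretransitive L (orbit K y) := ⟨fun a b => by
    obtain ⟨l, hl, hab⟩ := htr a b
    exact ⟨⟨l, hl⟩, hab⟩⟩
  obtain ⟨R⟩ := (inferInstance : Nonempty (Sylow r L))
  have hRtr : ∀ a b : orbit K y, ∃ q ∈ (R : Subgroup L).map L.subtype, q a = b := by
    intro a b
    obtain ⟨⟨q, hq⟩, hqab⟩ : b ∈ (orbit (R : Subgroup L) a : Set (orbit K y)) := by
      rw [sylow_orbit_eq_univ (by rw [Nat.card_coe_set_eq, hra]) R a]; trivial
    exact ⟨q, ⟨q, hq, rfl⟩, hqab⟩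
  -- an element inducing a five-cycle
  haveI : Fact (Nat.Prime 5) := ⟨by norm_num⟩
  obtain ⟨⟨σ, hσA⟩, hσ⟩ := exists_prime_orderOf_dvd_card' (G := alternatingGroup (Fin 5)) 5 (by
    rw [nat_card_alternatingGroup, Nat.card_fin]; decide)
  rw [← Subgroup.orderOf_coe] at hσ
  dsimp only at hσ
  obtain ⟨k, rfl⟩ : σ ∈ T.act.range := by rw [T.range_eq_alt hW.ne_two hA]; exact hσA
  have hkL : ∀ l ∈ L, ρ k * l * (ρ k)⁻¹ ∈ L := by
    rintro _ ⟨m, hm, rfl⟩
    exact ⟨k * m * k⁻¹, ‹M1.Normal›.conj_mem m hm k, by rw [map_mul, map_mul, map_inv]⟩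
  let γ : L →* L :=
    { toFun := fun l => ⟨ρ k * (l : Perm (orbit K y)) * (ρ k)⁻¹, hkL l l.2⟩
      map_one' := Subtype.ext (by simp)
      map_mul' := fun a b => Subtype.ext (by simp only [Subgroup.coe_mul]; group) }
  have hγ : Function.Injective γ := fun a b h =>
    Subtype.ext (mul_left_cancel (mul_right_cancel (congrArg Subtype.val h)))
  obtain ⟨R', hR'⟩ : ∃ R' : Sylow r L, (R' : Subgroup L) = (R : Subgroup L).map γ := by
    obtain ⟨R', hle⟩ := (R.isPGroup'.map γ).exists_le_sylow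
    refine ⟨R', (Subgroup.eq_of_le_of_card_ge hle ?_).symm⟩
    rw [Subgroup.card_map_of_injective hγ, R.card_eq_multiplicity, R'.card_eq_multiplicity]
  obtain ⟨⟨_, m, hm, rfl⟩, hl⟩ := MulAction.exists_smul_eq L R R'
  set k' : ↥K := m⁻¹ * k with hk'
  have hact : T.act k' = T.act k := by
    rw [hk', map_mul, map_inv, MonoidHom.mem_ker.1 (mem_akerOn.1 hm x hx 5 F T hA), inv_one, one_mul]
  have hnR : ∀ q ∈ (R : Subgroup L).map L.subtype,
      ρ k' * q * (ρ k')⁻¹ ∈ (R : Subgroup L).map L.subtype := by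
    rintro _ ⟨q, hq, rfl⟩
    have h1 : γ q ∈ (R' : Subgroup L) := by rw [hR']; exact ⟨q, hq, rfl⟩
    rw [← hl, Sylow.coe_subgroup_smul, Subgroup.mem_pointwise_smul_iff_inv_smul_mem] at h1
    refine ⟨_, h1, ?_⟩
    simp only [hk', map_mul, map_inv, γ, MulAut.smul_def, MulAut.conj_inv_apply]
    simp only [Subgroup.subtype_apply, Subgroup.coe_mul, Subgroup.coe_inv, MonoidHom.coe_mk,
      OneHom.coe_mk]
    group
  have h5 : 5 ∣ orderOf (ρ k') := by
    rw [← hσ, ← hact]
    refine orderOf_dvd_of_pow_eq_one ?_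
    rw [← map_pow]
    exact hker (by rw [MonoidHom.mem_ker, map_pow, pow_orderOf_eq_one])
  set g := ρ k' ^ (orderOf (ρ k') / 5) with hg
  have hgord : orderOf g = 5 := by
    rw [hg, orderOf_pow_orderOf_div (orderOf_pos (ρ k')).ne' h5]
  refine no_five (n := (orbit K y : Set α).ncard) (r := r)
    (by rw [← Nat.card_eq_fintype_card, Nat.card_coe_set_eq]) hnr _
    (R.isPGroup'.map L.subtype) hRtr hgord fun q hq => ?_
  have hall : ∀ j : ℕ, ρ k' ^ j * q * (ρ k' ^ j)⁻¹ ∈ (R : Subgroup L).map L.subtype := by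
    intro j
    induction j with
    | zero => simpa using hq
    | succ j ih =>
      rw [pow_succ', show ρ k' * ρ k' ^ j * q * (ρ k' * ρ k' ^ j)⁻¹ =
        ρ k' * (ρ k' ^ j * q * (ρ k' ^ j)⁻¹) * (ρ k')⁻¹ by group]
      exact hnR _ ih
  exact hall _

end Lone

end Cfsg.Agent.HalfFix
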