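import Cfsg.Agent.Lib.HalfFix.HPrim

/-!
# The view from one further point, and transport between views
-/

set_option autoImplicit false

namespace Cfsg.Agent.HalfFix

open MulAction Equiv
open scoped Pointwise

universe u v

variable {p : ℕ} [Fact p.Prime] {G : Type u} [Group G] {α : Type v} [MulAction G α]

theorem smul_mem_smul_orbit {K K' : Subgroup G} {h : G} (hK : ∀ k, k ∈ K' ↔ h⁻¹ * k * h ∈ K)
    (b : α) : (orbit K' (h • b) : Set α) = h • (orbit K b : Set α) := by
  ext y
  constructor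
  · rintro ⟨⟨k, hk⟩, rfl⟩
    refine ⟨(h⁻¹ * k * h) • b, ⟨⟨_, (hK k).1 hk⟩, rfl⟩, ?_⟩
    show h • (h⁻¹ * k * h) • b = k • h • b
    rw [← mul_smul, ← mul_smul]
    congr 1
    group
  · rintro ⟨_, ⟨⟨k, hk⟩, rfl⟩, rfl⟩
    refine ⟨⟨h * k * h⁻¹, (hK _).2 (by simpa [mul_assoc] using hk)⟩, ?_⟩
    show (h * k * h⁻¹) • h • b = h • k • b
    rw [← mul_smul, ← mul_smul, inv_mul_cancel_right]

/-- Transport of a type by a group element. -/
theorem OType.exists_transport [Finite G] {K K' : Subgroup G} {h : G}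
    (hK : ∀ k, k ∈ K' ↔ h⁻¹ * k * h ∈ K) (hgen : pGen p K' = K') {b : α} {N F : ℕ}
    (T : OType p K (orbit K b) N F) :
    Nonempty (OType p K' (orbit K' (h • b)) N F) := by
  have horb := smul_mem_smul_orbit hK b
  let ψ : ↥K' →* ↥K :=
    { toFun := fun k => ⟨h⁻¹ * (k : G) * h, (hK k).1 k.2⟩
      map_one' := Subtype.ext (by simp)
      map_mul' := fun k l => Subtype.ext (by simp only [Subgroup.coe_mul]; group) }
  have hψ : ∀ (k : ↥K') (x : α), h⁻¹ • (k : G) • x = (ψ k : G) • h⁻¹ • x := fun k x => by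
    show _ = (h⁻¹ * (k : G) * h) • h⁻¹ • x
    rw [← mul_smul, ← mul_smul, mul_inv_cancel_right]
  have hP : ∀ P : Sylow p G, (P : Subgroup G) ≤ K' →
      ((h⁻¹ • P : Sylow p G) : Subgroup G) ≤ K := by
    intro P hP g hg
    rw [sylow_smul_coe, Subgroup.mem_pointwise_smul_iff_inv_smul_mem] at hg
    have h2 := (hK _).1 (hP hg)
    have e : h⁻¹ * ((MulAut.conj h⁻¹)⁻¹ • g) * h = g := by
      simp [MulAut.smul_def, mul_assoc]
    rwa [e] at h2
  have hpre : ∀ {P : Sylow p G} {k : ↥K'}, (k : G) ∈ (P : Subgroup G) ↔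
      (ψ k : G) ∈ ((h⁻¹ • P : Sylow p G) : Subgroup G) := by
    intro P k
    rw [sylow_smul_coe, Subgroup.mem_pointwise_smul_iff_inv_smul_mem]
    simp [ψ, MulAut.smul_def, mul_assoc]
  have hψsurj : Function.Surjective ψ := fun k =>
    ⟨⟨h * (k : G) * h⁻¹, (hK _).2 (by simp [mul_assoc])⟩, Subtype.ext (by simp [ψ, mul_assoc])⟩
  have hmem : ∀ x, x ∈ (orbit K' (h • b) : Set α) → h⁻¹ • x ∈ (orbit K b : Set α) := by
    intro x hx
    rw [horb, Set.mem_smul_set_iff_inv_smul_mem] at hx
    exact hx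
  have hblk : ∀ P : Sylow p G, (P : Subgroup G) ≤ K' → ∀ i,
      (∀ k : ↥K', (k : G) ∈ (P : Subgroup G) → T.act (ψ k) i = i) ↔
        ∀ k : ↥K, (k : G) ∈ ((h⁻¹ • P : Sylow p G) : Subgroup G) → T.act k i = i := by
    refine fun P hPK i => ⟨fun hi k hk => ?_, fun hi k hk => hi _ (hpre.1 hk)⟩
    obtain ⟨k, rfl⟩ := hψsurj k
    exact hi k (hpre.2 hk)
  refine ⟨{
    act := T.act.comp ψ
    π := fun x => T.π (h⁻¹ • x)
    stable := fun k hk x hx => MulAction.mem_orbit_of_mem_orbit (⟨k, hk⟩ : K') hx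
    trans := fun x hx y hy => by
      obtain ⟨k, hk⟩ := exists_smul_eq K' (⟨x, hx⟩ : orbit K' (h • b)) ⟨y, hy⟩
      exact ⟨k, k.2, congrArg Subtype.val hk⟩
    gen := hgen
    map_smul := fun k x hx => by
      show T.π (h⁻¹ • (k : G) • x) = T.act (ψ k) (T.π (h⁻¹ • x))
      rw [hψ k x, T.map_smul (ψ k) _ (hmem x hx)]
    surj := fun i => by
      obtain ⟨x, hx, rfl⟩ := T.surj i
      refine ⟨h • x, ?_, by show T.π (h⁻¹ • h • x) = T.π x; rw [inv_smul_smul]⟩
      rw [horb]; exact Set.smul_mem_smul_set hx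
    N_eq := T.N_eq
    F_pos := T.F_pos
    F_lt := T.F_lt
    sylow := ?_
    fix_blk := fun P hPK => ?_
    fixed := fun P hPK x hx hx' => ?_ }⟩
  · obtain ⟨P, hPK⟩ := T.sylow
    refine ⟨h • P, fun g hg => (hK g).2 ?_⟩
    rw [sylow_smul_coe, Subgroup.mem_pointwise_smul_iff_inv_smul_mem] at hg
    simpa [MulAut.smul_def] using hPK hg
  · refine Eq.trans ?_ (T.fix_blk _ (hP P hPK))
    congr 1
    ext i
    exact hblk P hPK i
  · have h1 := T.fixed _ (hP P hPK) _ (hmem x hx) ((hblk P hPK _).1 hx')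
    rw [pts_smul_sylow, Set.smul_mem_smul_set_iff] at h1
    exact h1

theorem IsAType.transport [Finite G] {α : Type} [MulAction G α] {K K' : Subgroup G} {h : G}
    (hK : ∀ k, k ∈ K' ↔ h⁻¹ * k * h ∈ K) (hgen : pGen p K' = K') {b : α} {N : ℕ}
    (hb : IsAType p K b N) : IsAType p K' (h • b) N := by
  obtain ⟨F, T, hA⟩ := hb
  obtain ⟨T'⟩ := T.exists_transport hK hgen
  exact ⟨F, T', hA⟩

section
variable [Finite G] {α : Type} [MulAction G α]

omit [Fact p.Prime] [Finite G] in
theorem mem_hOf_smul (h : G) (X : Set α) {k : G} :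
    k ∈ hOf p (h • X) ↔ h⁻¹ * k * h ∈ hOf (G := G) p X := by
  have key : ∀ (h : G) (X : Set α) (k : G), k ∈ hOf p X → h * k * h⁻¹ ∈ hOf p (h • X) := by
    intro h X k hk
    have h1 : (hOf (G := G) p X).map (MulAut.conj h).toMonoidHom ≤ hOf p (h • X) := by
      refine (pGen_map_le _ _).trans (pGen_mono ?_)
      rintro _ ⟨g, hg, rfl⟩
      refine (mem_fixingSubgroup_iff G).2 ?_
      rintro _ ⟨x, hx, rfl⟩
      show (h * g * h⁻¹) • h • x = h • x
      rw [← mul_smul, inv_mul_cancel_right, mul_smul, (mem_fixingSubgroup_iff G).1 hg x hx]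
    exact h1 ⟨k, hk, rfl⟩
  constructor
  · intro hk
    have := key h⁻¹ _ k hk
    rwa [inv_smul_smul, inv_inv] at this
  · intro hk
    have := key h X _ hk
    rwa [show h * (h⁻¹ * k * h) * h⁻¹ = k by group] at this

theorem Covered.transport {K K' : Subgroup G} {h : G}
    (hK : ∀ k, k ∈ K' ↔ h⁻¹ * k * h ∈ K) {b : α} (hb : Covered p K b) :
    Covered p K' (h • b) := by
  obtain ⟨P, hP, hbP⟩ := hb
  refine ⟨h • P, fun g hg => (hK g).2 ?_, ?_⟩
  · rw [sylow_smul_coe, Subgroup.mem_pointwise_smul_iff_inv_smul_mem] at hg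
    simpa [MulAut.smul_def] using hP hg
  · rw [pts_smul_sylow]; exact Set.smul_mem_smul_set hbP

omit [Finite G] [Fact p.Prime] in
theorem hOf_smul_insert {X : Set α} {h : G} (hh : h ∈ hOf p X) (a : α) :
    h • (insert a X) = insert (h • a) X := by
  rw [Set.smul_set_insert]
  congr 1
  ext x
  exact ⟨fun ⟨y, hy, e⟩ => e ▸ (show h • y ∈ X by rw [hOf_fix hh hy]; exact hy),
    fun hx => ⟨x, hx, hOf_fix hh hx⟩⟩

namespace Counter

variable [Finite α]

/-- The step: all smaller transitivity, and a set `X` of `t` points. -/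
structure Step (p : ℕ) [Fact p.Prime] (G : Type u) [Group G] [Finite G] {α : Type} [MulAction G α]
    (t : ℕ) (X : Set α) : Prop where
  counter : Counter p G α
  upTo : TransUpTo p G α t
  le : t + 2 ≤ p
  card : X.ncard = t

variable {t : ℕ} {X : Set α} (hS : Step p G t X)

include hS

theorem Step.card_insert {a : α} (ha : a ∉ X) : (insert a X).ncard = t + 1 := by
  rw [Set.ncard_insert_of_notMem ha, hS.card]

theorem Step.exists_sylow {a : α} (ha : a ∉ X) :
    ∃ P : Sylow p G, insert a X ⊆ pts (P : Subgroup G) :=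
  hS.counter.sylFix_nonempty hS.upTo (by have := hS.le; omega) (hS.card_insert ha).le

theorem Step.exists_smul_eq' {a c : α} (ha : a ∉ X) (hc : c ∉ X) :
    ∃ h ∈ hOf (G := G) p X, h • a = c :=
  hS.counter.transOn_hOf hS.upTo (by have := hS.le; omega) hS.card.le a ha c hc

theorem Step.moving {a : α} (ha : a ∉ X) {b : α} (hb : b ∉ insert a X) :
    ∃ k ∈ hOf (G := G) p (insert a X), k • b ≠ b := by
  by_contra hcon
  push Not at hcon
  obtain ⟨hba, hbX⟩ : b ≠ a ∧ b ∉ X := by simpa [not_or] using hb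
  set H := hOf (G := G) p X with hH
  have hprim := hS.counter.isPreprimitive_hOf hS.upTo hS.le hS.card ha
  have horb : (orbit H a : Set α) = Xᶜ :=
    orbit_hOf (hS.counter.transOn_hOf hS.upTo (by have := hS.le; omega) hS.card.le) ha
  let r : orbit H a → orbit H a → Prop := fun u v =>
    hOf (G := G) p (insert (u : α) X) = hOf p (insert (v : α) X)
  have hr : ∀ (h : H) (u v : orbit H a), r u v → r (h • u) (h • v) := by
    intro h u v huv
    show hOf p (insert ((h : G) • (u : α)) X) = hOf p (insert ((h : G) • (v : α)) X)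
    ext k
    rw [← hOf_smul_insert h.2, ← hOf_smul_insert h.2, mem_hOf_smul, mem_hOf_smul, huv]
  have hab : hOf (G := G) p (insert a X) = hOf p (insert b X) := by
    obtain ⟨h, hh, rfl⟩ := hS.exists_smul_eq' ha hbX
    refine Subgroup.eq_of_le_of_card_ge ?_ ?_
    · rw [← pGen_hOf (insert a X)]
      refine pGen_mono fun k hk => (mem_fixingSubgroup_iff G).2 ?_
      rintro x (rfl | hx)
      · exact hcon k hk
      · exact hOf_fix hk (Set.mem_insert_of_mem a hx)
    · refine Nat.card_le_card_of_injective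
        (fun k : hOf (G := G) p (insert (h • a) X) =>
          (⟨h⁻¹ * (k : G) * h, (mem_hOf_smul h _).1 (by rw [hOf_smul_insert hh]; exact k.2)⟩ :
            hOf (G := G) p (insert a X))) fun k l hkl => ?_
      exact Subtype.ext (mul_left_cancel (mul_right_cancel (congrArg Subtype.val hkl)))
  have heq : Equivalence r := ⟨fun _ => rfl, fun {_ _} h => h.symm, fun {_ _ _} h h' => h.trans h'⟩
  rcases Cfsg.Agent.Perm.eq_or_all_of_invariant_equivalence r heq hr with h | h
  · exact hba (congrArg Subtype.val (h ⟨a, mem_orbit_self a⟩ ⟨b, by rw [horb]; exact hbX⟩ hab)).symm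
  · obtain ⟨P, hP⟩ := hS.exists_sylow ha
    have hall : (pts (P : Subgroup G) : Set α) = Set.univ := Set.eq_univ_of_forall fun x => by
      by_cases hx : x ∈ X
      · exact hP (Set.mem_insert_of_mem a hx)
      · intro g hg
        have h2 : hOf (G := G) p (insert a X) = hOf p (insert x X) :=
          h ⟨a, mem_orbit_self a⟩ ⟨x, by rw [horb]; exact hx⟩
        exact hOf_fix (h2 ▸ (le_hOf_iff _ P).2 hP hg) (Set.mem_insert x X)
    haveI := hS.counter.prim
    have := fixCount_lt (α := α) hS.counter.gen hS.counter.one_lt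
    rw [← hS.counter.pts_ncard P, hall, Set.ncard_univ] at this
    omega

/-- The view from `a` is a `Local` setting. -/
theorem Step.localView {a : α} (ha : a ∉ X) :
    Local p (hOf (G := G) p (insert a X)) (insert a X)ᶜ where
  three := hS.counter.three
  gen := pGen_hOf _
  sylow := by
    obtain ⟨P, hP⟩ := hS.exists_sylow ha
    exact ⟨P, (le_hOf_iff _ P).2 hP⟩
  stable := fun k hk x hx => hOf_stable hk hx
  outside := fun k hk x hx => hOf_fix hk (not_not.1 hx)
  moving := fun b hb => hS.moving ha hb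
  proper := fun h => by
    have : a ∈ (insert a X)ᶜ := by rw [h]; trivial
    exact this (Set.mem_insert a X)
  small := fun P hP => by
    rw [dset_compl ((le_hOf_iff _ P).1 hP), hS.card_insert ha]
    have h1 := hS.counter.univ_small P
    have h2 : ((t + 1 : ℕ) : ℤ) ≤ (p : ℤ) - 1 := by have := hS.le; omega
    have := mul_le_mul_of_nonneg_left h2 (show (0 : ℤ) ≤ p by positivity)
    linarith
  main := hS.counter.main

/-- A common Sylow subgroup makes both points covered. -/
theorem Step.covered_comm {a c : α} (ha : a ∉ X) (hc : c ∈ (insert a X)ᶜ)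
    (h : Covered p (hOf (G := G) p (insert a X)) c) :
    Covered p (hOf (G := G) p (insert c X)) a := by
  obtain ⟨P, hP, hcP⟩ := h
  have h1 := (le_hOf_iff _ P).1 hP
  exact ⟨P, (le_hOf_iff _ P).2 (Set.insert_subset hcP ((Set.subset_insert a X).trans h1)),
    h1 (Set.mem_insert a X)⟩

end Counter

end

end Cfsg.Agent.HalfFix
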