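import Cfsg.Agent.Lib.HalfFix.UTail
import Cfsg.Agent.Lib.HalfFix.View
import Mathlib.GroupTheory.GroupAction.Jordan

/-!
# A covered orbit without quotient is the whole view
-/

set_option autoImplicit false

namespace Cfsg.Agent.HalfFix

open MulAction Equiv
open scoped Pointwise

universe u

variable {p : ℕ} [Fact p.Prime] {G : Type u} [Group G] [Finite G] {α : Type} [MulAction G α]
  [Finite α]

namespace Counter

/-- If the view from `a` is not transitive, every covered point in it has a quotient. -/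
theorem Step.isOType_of_covered {t : ℕ} {X : Set α} (hS : Step p G t X) {a : α} (ha : a ∉ X)
    (hnt : ¬ TransOn (hOf (G := G) p (insert a X)) (insert a X)ᶜ) {y : α}
    (hy : y ∈ (insert a X)ᶜ) (hcov : Covered p (hOf (G := G) p (insert a X)) y) :
    IsOType p (hOf (G := G) p (insert a X)) y := by
  by_contra hno
  set K := hOf (G := G) p (insert a X) with hKdef
  have hL := hS.localView ha
  have hW : Lone p K (insert a X)ᶜ y := ⟨hL, hy, hcov, hno⟩
  obtain ⟨M, hMK, hMfix, hMtr⟩ : hW.Supported := by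
    by_cases h : ∀ g ∈ m2Of p K (insert a X)ᶜ, ∀ w ∈ (orbit K y : Set α), g • w = w
    · exact (hW.absurd_of_m2_fixes h).elim
    · push Not at h
      exact hW.supported_of_m2_moves h
  -- another orbit
  obtain ⟨v, hv, hvW⟩ : ∃ v ∈ (insert a X)ᶜ, v ∉ orbit K y := by
    by_contra hcon
    push Not at hcon
    refine hnt fun z hz w hw => ?_
    obtain ⟨k, hk⟩ : w ∈ orbit K z := by rw [orbit_eq_iff.2 (hcon z hz)]; exact hcon w hw
    exact ⟨k, k.2, hk⟩
  set H := hOf (G := G) p X with hH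
  have hprim := hS.counter.isPreprimitive_hOf hS.upTo hS.le hS.card ha
  have horb : (orbit H a : Set α) = Xᶜ :=
    orbit_hOf (hS.counter.transOn_hOf hS.upTo (by have := hS.le; omega) hS.card.le) ha
  have hYX : ∀ z ∈ (insert a X)ᶜ, z ∈ (orbit H a : Set α) := fun z hz => by
    rw [horb]; exact fun h => hz (Set.mem_insert_of_mem a h)
  have hWY : (orbit K y : Set α) ⊆ (insert a X)ᶜ := hL.orbit_subset hy
  have haW : a ∉ (orbit K y : Set α) := fun h => hWY h (Set.mem_insert a X)
  have hKH : K ≤ H := hOf_mono (Set.subset_insert a X)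
  set s : Set (orbit H a) := {z | (z : α) ∉ (orbit K y : Set α)} with hs
  have hscompl : sᶜ.ncard = (orbit K y : Set α).ncard := by
    rw [← Set.ncard_image_of_injective _ Subtype.val_injective]
    congr 1
    ext z
    constructor
    · rintro ⟨w, hw, rfl⟩; exact not_not.1 hw
    · exact fun hz => ⟨⟨z, hYX z (hWY hz)⟩, fun h => h hz, rfl⟩
  have hs0 : 0 < s.ncard := (Set.ncard_pos).2 ⟨⟨a, mem_orbit_self a⟩, haW⟩
  have hsum : s.ncard + (orbit K y : Set α).ncard = Nat.card (orbit H a) := by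
    rw [← hscompl]; exact Set.ncard_add_ncard_compl s
  have hW1 : 1 < (orbit K y : Set α).ncard := hL.one_lt_orbit hy
  have hlt : s.ncard - 1 + 2 < Nat.card (orbit (hOf (G := G) p X) a) := by
    show _ < Nat.card (orbit H a); omega
  have htrans : IsPretransitive (fixingSubgroup ↥H s) (SubMulAction.ofFixingSubgroup ↥H s) := by
    refine ⟨fun z w => ?_⟩
    have hz : ((z : orbit H a) : α) ∈ (orbit K y : Set α) :=
      not_not.1 ((SubMulAction.mem_ofFixingSubgroup_iff (M := ↥H)).1 z.2)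
    have hw : ((w : orbit H a) : α) ∈ (orbit K y : Set α) :=
      not_not.1 ((SubMulAction.mem_ofFixingSubgroup_iff (M := ↥H)).1 w.2)
    obtain ⟨m, hm, hmz⟩ := hMtr _ hz _ hw
    refine ⟨⟨⟨m, hKH (hMK hm)⟩, (mem_fixingSubgroup_iff ↥H).2 fun u hu => Subtype.ext ?_⟩,
      Subtype.ext (Subtype.ext hmz)⟩
    show m • (u : α) = (u : α)
    by_cases huY : (u : α) ∈ (insert a X)ᶜ
    · exact hMfix m hm _ huY hu
    · exact hL.outside m (hMK hm) _ huY
  have h2 := hprim.is_two_pretransitive (s := s) (n := s.ncard - 1) (by omega) hlt htrans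
  have hay : (⟨a, mem_orbit_self a⟩ : orbit H a) ≠ ⟨y, hYX y hy⟩ :=
    fun e => haW (by rw [show a = y from congrArg Subtype.val e]; exact mem_orbit_self y)
  have hav : (⟨a, mem_orbit_self a⟩ : orbit H a) ≠ ⟨v, hYX v hv⟩ :=
    fun e => hv (by rw [← show a = v from congrArg Subtype.val e]; exact Set.mem_insert a X)
  obtain ⟨⟨h, hh⟩, hha, hhy⟩ := is_two_pretransitive_iff.1 h2 hay hav
  have hha' : h • a = a := congrArg Subtype.val hha
  have hhy' : h • y = v := congrArg Subtype.val hhy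
  have hfix : h⁻¹ • insert a X = insert a X := by
    rw [hOf_smul_insert (H.inv_mem hh), inv_smul_eq_iff.2 hha'.symm]
  have hK' : ∀ k, k ∈ K ↔ h⁻¹⁻¹ * k * h⁻¹ ∈ K := fun k => by
    conv_lhs => rw [hKdef, ← hfix]
    exact mem_hOf_smul h⁻¹ _
  obtain ⟨N, F, ⟨T⟩⟩ := hW.isOType hv hvW
  obtain ⟨T'⟩ := T.exists_transport hK' hL.gen
  rw [inv_smul_eq_iff.2 hhy'.symm] at T'
  exact hno ⟨N, F, ⟨T'⟩⟩

end Counter

end Cfsg.Agent.HalfFix
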